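import Cfsg.Agent.Pyr45.Gauss

/-!
# No automorphism exchanges two functionals of a non-degenerate three-dimensional system of forms
-/

set_option autoImplicit false

namespace Cfsg.Agent.Pyr45

variable {M W : Type*} [AddCommGroup M] [Module (ZMod 2) M] [Fintype M]
  [AddCommGroup W] [Module (ZMod 2) W] [Fintype W] [Fintype (⊤ : Submodule (ZMod 2) M)]
  {q : M → W}

/-- **A totally isotropic subspace of a non-degenerate six-dimensional form has dimension at most 3.** -/
theorem not_isotropic_four (hd : IsDouble q 3) (hq : IsAniso q) {l : W →ₗ[ZMod 2] ZMod 2}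
    (hl : l ≠ 0) (f : (Fin 4 → ZMod 2) →ₗ[ZMod 2] M) (hf : Function.Injective f)
    (hiso : ∀ a b, l (polar q (f a) (f b)) = 0) : False := by
  have := Finite.of_fintype M
  have hM : Module.finrank (ZMod 2) M = 6 := by
    have h := Module.natCard_eq_pow_finrank (K := ZMod 2) (V := M)
    rw [Nat.card_zmod, Nat.card_eq_fintype_card, hd.card] at h
    exact (Nat.pow_right_injective le_rfl h).symm
  have hinj : Function.Injective (hq.form l) := by
    rw [injective_iff_map_eq_zero]
    intro w hw
    refine hd.nondeg l hl w fun v => ?_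
    rw [polar_comm]
    exact LinearMap.congr_fun hw v
  set U := LinearMap.range f with hU
  have hUfin : Module.finrank (ZMod 2) U = 4 := by
    rw [hU, LinearMap.finrank_range_of_inj hf]; simp
  have hle : U.map (hq.form l) ≤ U.dualAnnihilator := by
    rintro _ ⟨_, ⟨a, rfl⟩, rfl⟩
    rw [Submodule.mem_dualAnnihilator]
    rintro _ ⟨b, rfl⟩
    exact hiso a b
  have h1 := Submodule.finrank_mono hle
  rw [← (Submodule.equivMapOfInjective _ hinj U).finrank_eq, hUfin] at h1
  have h2 := Subspace.finrank_add_finrank_dualAnnihilator_eq U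
  rw [hUfin, hM] at h2
  exact absurd (show 4 ≤ 2 from le_trans h1 (le_of_eq (by linarith))) (by decide)

/-- **No swap.** -/
theorem no_swap (hd : IsDouble q 3) (hq : IsAniso q) {l₁ l₂ : W →ₗ[ZMod 2] ZMod 2}
    (hl₁ : l₁ ≠ 0) (hl₂ : l₂ ≠ 0) (hne : l₁ ≠ l₂) (g : M ≃ₗ[ZMod 2] M)
    (h₁ : ∀ x, l₂ (q (g x)) = l₁ (q x)) (h₂ : ∀ x, l₁ (q (g x)) = l₂ (q x)) : False := by
  classical
  have := Finite.of_fintype M
  have := Finite.of_fintype W
  have hinj : ∀ l : W →ₗ[ZMod 2] ZMod 2, l ≠ 0 → Function.Injective (hq.form l) := by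
    intro l hl
    rw [injective_iff_map_eq_zero]
    intro w hw
    refine hd.nondeg l hl w fun v => ?_
    rw [polar_comm]
    exact LinearMap.congr_fun hw v
  let e₁ : M ≃ₗ[ZMod 2] (M →ₗ[ZMod 2] ZMod 2) :=
    LinearMap.linearEquivOfInjective (hq.form l₁) (hinj l₁ hl₁) Subspace.dual_finrank_eq.symm
  let J : M →ₗ[ZMod 2] M := (e₁.symm.toLinearMap).comp (hq.form l₂)
  set B₁ : M → M → ZMod 2 := fun x y => l₁ (polar q x y) with hB₁
  set B₂ : M → M → ZMod 2 := fun x y => l₂ (polar q x y) with hB₂
  have hJ : ∀ x y, B₁ (J x) y = B₂ x y := fun x y =>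
    LinearMap.congr_fun (e₁.apply_symm_apply (hq.form l₂ x)) y
  have hs : ∀ x y, B₁ x y = B₁ y x := fun x y => by simp only [hB₁, polar_comm]
  have hadd : ∀ x y z, B₁ (x + y) z = B₁ x z + B₁ y z := fun x y z => by
    simp only [hB₁, hq.polar_add, map_add]
  have haddr : ∀ x y z, B₁ x (y + z) = B₁ x y + B₁ x z := fun x y z => by
    simp only [hB₁, hq.polar_add_right, map_add]
  have hsmul : ∀ (c : ZMod 2) x z, B₁ (c • x) z = c * B₁ x z := fun c x z => by
    show hq.form l₁ (c • x) z = c * hq.form l₁ x z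
    rw [map_smul, LinearMap.smul_apply, smul_eq_mul]
  have hJsa : ∀ x y, B₁ (J x) y = B₁ x (J y) := fun x y => by
    rw [hJ, hs x, hJ]; simp only [hB₂, polar_comm]
  have hself : ∀ x, B₁ x x = 0 := fun x => by simp only [hB₁, hq.polar_self, map_zero]
  have hJself : ∀ x, B₁ (J x) x = 0 := fun x => by
    rw [hJ]; simp only [hB₂, hq.polar_self, map_zero]
  have hzero : ∀ x, (∀ y, B₁ x y = 0) → x = 0 := fun x h =>
    hinj l₁ hl₁ (by rw [map_zero]; exact LinearMap.ext h)
  have hJ0 : ∀ x, J x = 0 → x = 0 := fun x hx => hinj l₂ hl₂ (by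
    rw [map_zero]; ext y
    show B₂ x y = 0
    rw [← hJ, hx]
    simp only [hB₁, polar, zero_add, (hq.eq_zero 0).2 rfl, add_zero, add_self, map_zero])
  have hJ1 : ∀ x, J x = x → x = 0 := fun x hx => by
    have hl3 : l₁ + l₂ ≠ 0 := fun h => hne (LinearMap.ext fun z => by
      have := LinearMap.congr_fun h z
      rw [LinearMap.add_apply, LinearMap.zero_apply, CharTwo.add_eq_zero] at this
      exact this)
    refine hinj _ hl3 ?_
    rw [map_zero]; ext y
    show (l₁ + l₂) (polar q x y) = 0
    rw [LinearMap.add_apply, CharTwo.add_eq_zero]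
    exact ((congrArg (fun z => B₁ z y) hx).symm.trans (hJ x y))
  have hd1' : ∀ x, J x = x → x = 0 := hJ1
  -- every vector is killed by an irreducible polynomial without roots
  set P₂ : M → M := fun x => J (J x) + J x + x with hP₂
  set P₃ : M → M := fun x => J (J (J x)) + J x + x with hP₃
  set P₃' : M → M := fun x => J (J (J x)) + J (J x) + x with hP₃'
  have hkill : ∀ x, P₂ x = 0 ∨ P₃ x = 0 ∨ P₃' x = 0 := by
    intro x
    by_cases hx : x = 0
    · left; simp [hP₂, hx]
    let f : (Fin 4 → ZMod 2) →ₗ[ZMod 2] M :=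
      Fintype.linearCombination (ZMod 2) (![x, J x, J (J x), J (J (J x))] : Fin 4 → M)
    by_cases hf : Function.Injective f
    · exfalso
      refine not_isotropic_four hd hq hl₁ f hf fun a b => ?_
      show B₁ (f a) (f b) = 0
      simp only [f, Fintype.linearCombination_apply, Fin.sum_univ_four, hadd, haddr, hsmul]
      have hr : ∀ (c : ZMod 2) y z, B₁ y (c • z) = c * B₁ y z := fun c y z => by
        rw [hs, hsmul, hs]
      simp only [hr, Matrix.cons_val_zero, Matrix.cons_val_one, Matrix.head_cons, Matrix.cons_val,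
        Matrix.cons_val_fin_one, hadd, haddr, hsmul, hself]
      have e01 : B₁ x (J x) = 0 := by rw [hs]; exact hJself x
      have e02 : B₁ x (J (J x)) = 0 := by rw [← hJsa]; exact hself _
      have e03 : B₁ x (J (J (J x))) = 0 := by rw [← hJsa, hs]; exact hJself _
      have e12 : B₁ (J x) (J (J x)) = 0 := by rw [hs]; exact hJself _
      have e13 : B₁ (J x) (J (J (J x))) = 0 := by rw [← hJsa]; exact hself _
      have e23 : B₁ (J (J x)) (J (J (J x))) = 0 := by rw [hs]; exact hJself _
      simp only [hs (J x) x, hs (J (J x)) x, hs (J (J (J x))) x, hs (J (J x)) (J x),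
        hs (J (J (J x))) (J x), hs (J (J (J x))) (J (J x)), e01, e02, e03, e12, e13, e23]
      simp
    rw [injective_iff_map_eq_zero] at hf
    push Not at hf
    obtain ⟨c, hc, hc0⟩ := hf
    simp only [f, Fintype.linearCombination_apply, Fin.sum_univ_four] at hc
    simp only [Matrix.cons_val_zero, Matrix.cons_val_one, Matrix.head_cons, Matrix.cons_val,
      Matrix.cons_val_fin_one] at hc
    have hz2 : ∀ d : ZMod 2, d = 0 ∨ d = 1 := by decide
    have hd1 : ∀ y, J y + y = 0 → y = 0 := fun y h => hJ1 y (by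
      rw [eq_add_iff_add_eq.2 h]; simp)
    have hne0 : c 0 ≠ 0 ∨ c 1 ≠ 0 ∨ c 2 ≠ 0 ∨ c 3 ≠ 0 := by
      by_contra h
      push Not at h
      exact hc0 (funext fun i => by fin_cases i <;> simp [h])
    rcases hz2 (c 0) with h0 | h0 <;> rcases hz2 (c 1) with h1 | h1 <;>
      rcases hz2 (c 2) with h2 | h2 <;> rcases hz2 (c 3) with h3 | h3 <;>
      simp only [h0, h1, h2, h3, zero_smul, one_smul, zero_add, add_zero] at hc hne0
    -- 0000, 0001, 0010, 0011
    · simp at hne0
    · exact absurd (hJ0 _ (hJ0 _ (hJ0 _ hc))) hx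
    · exact absurd (hJ0 _ (hJ0 _ hc)) hx
    · exact absurd (hJ0 _ (hJ0 _ (hd1 _ (by rw [← hc]; abel)))) hx
    -- 0100, 0101, 0110, 0111
    · exact absurd (hJ0 _ hc) hx
    · exact absurd (hJ0 _ (hd1 _ (hd1 _ (by
        rw [map_add, ← hc, show ∀ A B C : M, A + B + (B + C) = C + A + (B + B) from fun A B C => by abel,
          add_self, add_zero])))) hx
    · exact absurd (hJ0 _ (hd1 _ (by rw [← hc]; abel))) hx
    · left
      refine hJ0 _ ?_
      simp only [hP₂, map_add]
      rw [← hc]; abel
    -- 1000, 1001, 1010, 1011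
    · exact absurd hc hx
    · left
      refine hd1 _ ?_
      simp only [hP₂, map_add]
      rw [← hc, show ∀ A B C D : M, A + B + C + (B + C + D) = D + A + (B + B) + (C + C) from
        fun A B C D => by abel, add_self, add_self, add_zero, add_zero]
    · refine absurd (hd1 _ (hd1 _ ?_)) hx
      rw [map_add, ← hc, show ∀ A B C : M, A + B + (B + C) = C + A + (B + B) from fun A B C => by abel,
        add_self, add_zero]
    · right; right
      simp only [hP₃']
      rw [← hc]; abel
    -- 1100, 1101, 1110, 1111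
    · exact absurd (hd1 _ (by rw [← hc]; abel)) hx
    · right; left
      simp only [hP₃]
      rw [← hc]; abel
    · left
      simp only [hP₂]
      rw [← hc]; abel
    · refine absurd (hd1 _ (hd1 _ (hd1 _ ?_))) hx
      simp only [map_add]
      rw [← hc, show ∀ A B C D : M, A + B + (B + C) + (B + C + (C + D)) = D + C + B + A + (B + B) + (C + C)
        from fun A B C D => by abel, add_self, add_self, add_zero, add_zero]
  -- one of them kills everything
  have hPadd : ∀ x y, P₂ (x + y) = P₂ x + P₂ y ∧ P₃ (x + y) = P₃ x + P₃ y ∧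
      P₃' (x + y) = P₃' x + P₃' y := fun x y => by
    simp only [hP₂, hP₃, hP₃', map_add]
    exact ⟨by abel, by abel, by abel⟩
  have h23 : ∀ x, P₂ x = 0 → P₃ x = 0 → x = 0 := by
    intro x ha hb
    simp only [hP₂, hP₃] at ha hb
    have hc := congrArg J ha
    rw [map_zero, map_add, map_add] at hc
    have h := congrArg₂ (· + ·) hc hb
    simp only [add_zero] at h
    rw [show ∀ A B C D : M, A + B + C + (A + C + D) = B + D + (A + A) + (C + C) from
      fun A B C D => by abel, add_self, add_self, add_zero, add_zero] at h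
    have hjj : J (J x) = x := by rw [eq_add_iff_add_eq.2 h]; simp
    rw [hjj, show ∀ A B : M, A + B + A = B + (A + A) from fun A B => by abel, add_self, add_zero] at ha
    exact hJ0 _ ha
  have h23' : ∀ x, P₂ x = 0 → P₃' x = 0 → x = 0 := by
    intro x ha hb
    simp only [hP₂, hP₃'] at ha hb
    have hc := congrArg J ha
    rw [map_zero, map_add, map_add] at hc
    have h := congrArg₂ (· + ·) hc hb
    simp only [add_zero] at h
    rw [show ∀ A B C D : M, A + B + C + (A + B + D) = C + D + (A + A) + (B + B) from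
      fun A B C D => by abel, add_self, add_self, add_zero, add_zero] at h
    exact hd1' x (by rw [eq_add_iff_add_eq.2 h]; simp)
  have h33 : ∀ x, P₃ x = 0 → P₃' x = 0 → x = 0 := by
    intro x ha hb
    simp only [hP₃, hP₃'] at ha hb
    have h := congrArg₂ (· + ·) ha hb
    simp only [add_zero] at h
    rw [show ∀ A B C D : M, A + B + D + (A + C + D) = B + C + (A + A) + (D + D) from
      fun A B C D => by abel, add_self, add_self, add_zero, add_zero] at h
    rw [add_comm] at h
    exact hJ0 _ (hd1' _ (by rw [eq_add_iff_add_eq.2 h]; simp))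
  -- stability under `J`
  have hstab : ∀ y, (P₂ y = 0 → P₂ (J y) = 0) ∧ (P₃ y = 0 → P₃ (J y) = 0) ∧
      (P₃' y = 0 → P₃' (J y) = 0) := fun y => by
    simp only [hP₂, hP₃, hP₃']
    refine ⟨fun h => ?_, fun h => ?_, fun h => ?_⟩ <;> simpa only [map_add, map_zero] using congrArg J h
  -- the union of two coprime kernels is not a subgroup
  have hpair : ∀ (P Q R : M → M), (∀ x y, P (x + y) = P x + P y) → (∀ x y, Q (x + y) = Q x + Q y) →
      (∀ x y, R (x + y) = R x + R y) → (∀ x, P x = 0 → Q x = 0 → x = 0) →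
      (∀ x, Q x = 0 → R x = 0 → x = 0) → (∀ x, P x = 0 → P (J x) = 0) →
      (∀ x, Q x = 0 → Q (J x) = 0) → (∀ x, R x = 0 → R (J x) = 0) →
      (∀ y, Q y = 0 → Q (P y) = 0) → (∀ z, R z = 0 → R (P z) = 0) →
      (∀ x, P x = 0 ∨ Q x = 0 ∨ R x = 0) → ∀ x y, P x = 0 → Q y = 0 → x = 0 ∨ y = 0 := by
    intro P Q R hP hQ hR hPQ hQR _ _ _ hQP hRP hall x y hx hy
    rcases hall (x + y) with h | h | h
    · rw [hP, hx, zero_add] at h
      exact .inr (hPQ y h hy)
    · rw [hQ, hy, add_zero] at h
      exact .inl (hPQ x hx h)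
    · have h' := hRP _ h
      rw [hP, hx, zero_add] at h'
      exact .inr (hPQ y (hQR _ (hQP y hy) h') hy)
  have hP0 : P₂ 0 = 0 ∧ P₃ 0 = 0 ∧ P₃' 0 = 0 := by simp [hP₂, hP₃, hP₃']
  have hadd2 := fun x y => (hPadd x y).1
  have hadd3 := fun x y => (hPadd x y).2.1
  have hadd3' := fun x y => (hPadd x y).2.2
  have q22 : ∀ y, P₃ y = 0 → P₃ (P₂ y) = 0 := fun y h => by
    show P₃ (J (J y) + J y + y) = 0
    rw [hadd3, hadd3, h, (hstab _).2.1 ((hstab y).2.1 h), (hstab y).2.1 h]; simp
  have q22' : ∀ y, P₃' y = 0 → P₃' (P₂ y) = 0 := fun y h => by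
    show P₃' (J (J y) + J y + y) = 0
    rw [hadd3', hadd3', h, (hstab _).2.2 ((hstab y).2.2 h), (hstab y).2.2 h]; simp
  have q32 : ∀ y, P₂ y = 0 → P₂ (P₃ y) = 0 := fun y h => by
    show P₂ (J (J (J y)) + J y + y) = 0
    rw [hadd2, hadd2, h, (hstab _).1 ((hstab _).1 ((hstab y).1 h)), (hstab y).1 h]; simp
  have q33' : ∀ y, P₃' y = 0 → P₃' (P₃ y) = 0 := fun y h => by
    show P₃' (J (J (J y)) + J y + y) = 0
    rw [hadd3', hadd3', h, (hstab _).2.2 ((hstab _).2.2 ((hstab y).2.2 h)), (hstab y).2.2 h]; simp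
  have c23 : ∀ x y, P₂ x = 0 → P₃ y = 0 → x = 0 ∨ y = 0 :=
    hpair P₂ P₃ P₃' hadd2 hadd3 hadd3' h23 h33 (fun x => (hstab x).1) (fun x => (hstab x).2.1)
      (fun x => (hstab x).2.2) q22 q22' hkill
  have c23' : ∀ x y, P₂ x = 0 → P₃' y = 0 → x = 0 ∨ y = 0 :=
    hpair P₂ P₃' P₃ hadd2 hadd3' hadd3 h23' (fun x a b => h33 x b a) (fun x => (hstab x).1)
      (fun x => (hstab x).2.2) (fun x => (hstab x).2.1) q22' q22 fun x => by
        rcases hkill x with h | h | h <;> simp [h]
  have c33 : ∀ x y, P₃ x = 0 → P₃' y = 0 → x = 0 ∨ y = 0 :=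
    hpair P₃ P₃' P₂ hadd3 hadd3' hadd2 h33 (fun x a b => h23' x b a) (fun x => (hstab x).2.1)
      (fun x => (hstab x).2.2) (fun x => (hstab x).1) q33' q32 fun x => by
        rcases hkill x with h | h | h <;> simp [h]
  have hM : 1 < Fintype.card M := by rw [hd.card]; norm_num
  obtain ⟨x₀, hx₀⟩ := (Fintype.one_lt_card_iff_nontrivial.1 hM).exists_pair_ne
  obtain ⟨a, ha⟩ : ∃ a : M, a ≠ 0 := by
    obtain ⟨b, hb⟩ := hx₀
    by_contra h
    push Not at h
    exact hb ((h _).trans (h _).symm)
  rcases hkill a with hK | hK | hK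
  · -- `J² = J + 1`
    have hall : ∀ x, P₂ x = 0 := by
      intro x
      rcases hkill x with h | h | h
      · exact h
      · rw [(c23 a x hK h).resolve_left ha]; exact hP0.1
      · rw [(c23' a x hK h).resolve_left ha]; exact hP0.1
    have hJJ : ∀ x, J (J x) = J x + x := fun x => by
      have := hall x
      simp only [hP₂, add_assoc] at this
      rw [eq_add_iff_add_eq.2 this]; simp
    obtain ⟨w, hw⟩ : ∃ w, B₁ a w = 1 := by
      by_contra h
      push Not at h
      exact ha (hzero a fun y => by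
        have := h y; revert this; generalize B₁ a y = d; revert d; decide)
    let φ : M →ₗ[ZMod 2] (Fin 4 → ZMod 2) :=
      LinearMap.pi ![hq.form l₁ a, hq.form l₁ (J a), hq.form l₁ w, hq.form l₁ (J w)]
    obtain ⟨x, hx, hx0⟩ : ∃ x, φ x = 0 ∧ x ≠ 0 := by
      by_contra h
      push Not at h
      have hinjφ : Function.Injective φ := (injective_iff_map_eq_zero _).2 fun z hz => by
        by_contra hz0; exact hz0 (h z hz)
      have := Fintype.card_le_of_injective φ hinjφ
      rw [hd.card] at this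
      simp at this
    have ea : B₁ a x = 0 := congrFun hx 0
    have eb : B₁ (J a) x = 0 := congrFun hx 1
    have ew : B₁ w x = 0 := congrFun hx 2
    have ew' : B₁ (J w) x = 0 := congrFun hx 3
    let f : (Fin 4 → ZMod 2) →ₗ[ZMod 2] M :=
      Fintype.linearCombination (ZMod 2) (![a, J a, x, J x] : Fin 4 → M)
    have f_apply : ∀ c, f c = c 0 • a + c 1 • J a + c 2 • x + c 3 • J x := fun c => by
      simp [f, Fintype.linearCombination_apply, Fin.sum_univ_four]
    have e01 : B₁ a (J a) = 0 := by rw [hs]; exact hJself a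
    have e13 : B₁ (J a) (J x) = 0 := by
      rw [← hJsa, hJJ, hadd, eb, ea, add_zero]
    have e03 : B₁ a (J x) = 0 := by rw [← hJsa]; exact eb
    have e23 : B₁ x (J x) = 0 := by rw [hs]; exact hJself x
    have hfinj : Function.Injective f := by
      rw [injective_iff_map_eq_zero]
      intro c hc
      rw [f_apply] at hc
      have p1 := congrArg (fun z => B₁ z w) hc
      have p2 := congrArg (fun z => B₁ z (J w)) hc
      have z0 : ∀ y, B₁ (0 : M) y = 0 := fun y => by
        simp only [hB₁, polar, zero_add, (hq.eq_zero 0).2 rfl, add_zero, add_self, map_zero]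
      simp only [hadd, hsmul, z0, hw] at p1 p2
      have g1 : B₁ x w = 0 := by rw [hs]; exact ew
      have g2 : B₁ (J x) w = 0 := by rw [hJsa, hs]; exact ew'
      have g3 : B₁ x (J w) = 0 := by rw [hs]; exact ew'
      have g4 : B₁ (J x) (J w) = 0 := by
        rw [hJsa, hJJ, haddr, g3, g1, add_zero]
      have g5 : B₁ (J a) w = B₁ a (J w) := hJsa a w
      have g6 : B₁ (J a) (J w) = B₁ a (J w) + 1 := by rw [hJsa, hJJ, haddr, hw]
      simp only [g1, g2, g3, g4, g5, g6, mul_zero, add_zero, mul_one] at p1 p2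
      have hab : c 0 = 0 ∧ c 1 = 0 := by
        revert p1 p2
        generalize c 0 = u; generalize c 1 = v; generalize B₁ a (J w) = b
        revert u v b; decide
      rw [hab.1, hab.2, zero_smul, zero_smul, zero_add, zero_add] at hc
      have hz2 : ∀ d : ZMod 2, d = 0 ∨ d = 1 := by decide
      funext i
      rcases hz2 (c 2) with h2 | h2 <;> rcases hz2 (c 3) with h3 | h3 <;>
        simp only [h2, h3, zero_smul, one_smul, zero_add, add_zero] at hc
      · fin_cases i <;> simp [hab, h2, h3]
      · exact absurd (hJ0 _ hc) hx0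
      · exact absurd hc hx0
      · rw [add_comm] at hc
        exact absurd (hd1' x (by rw [eq_add_iff_add_eq.2 hc]; simp)) hx0
    refine not_isotropic_four hd hq hl₁ f hfinj fun c d => ?_
    show B₁ (f c) (f d) = 0
    have hr : ∀ (k : ZMod 2) y z, B₁ y (k • z) = k * B₁ y z := fun k y z => by rw [hs, hsmul, hs]
    simp only [f_apply, hadd, haddr, hsmul, hr, hself, hs (J a) a, hs x a, hs (J x) a, hs x (J a),
      hs (J x) (J a), hs (J x) x, e01, ea, eb, e03, e13, e23, mul_zero, add_zero]
  all_goals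
    -- `g` inverts `J`
    have hgi : ∀ z, J (g (J z)) = g z := by
      intro z
      refine hinj l₁ hl₁ (LinearMap.ext fun y => ?_)
      obtain ⟨y, rfl⟩ := g.surjective y
      show B₁ (J (g (J z))) (g y) = B₁ (g z) (g y)
      have hpol : ∀ u v, l₂ (polar q (g u) (g v)) = l₁ (polar q u v) ∧
          l₁ (polar q (g u) (g v)) = l₂ (polar q u v) := fun u v => by
        simp only [polar, ← map_add g, map_add l₁, map_add l₂, h₁, h₂, and_self]
      rw [hJ, show B₂ (g (J z)) (g y) = B₁ (J z) y from (hpol _ _).1, hJ]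
      exact (hpol _ _).2.symm
  · -- `J³ = J + 1`
    have hall : ∀ x, P₃ x = 0 := by
      intro x
      rcases hkill x with h | h | h
      · rw [(c23 x a h hK).resolve_right ha]; exact hP0.2.1
      · exact h
      · rw [(c33 a x hK h).resolve_left ha]; exact hP0.2.1
    refine ha (h33 a hK ?_)
    obtain ⟨b, rfl⟩ := g.surjective a
    have h := congrArg g (hall b)
    simp only [hP₃, map_add, map_zero] at h
    have h' := congrArg (fun z => J (J (J z))) h
    simp only [map_add, map_zero, hgi] at h'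
    simp only [hP₃']
    rw [← h']; abel
  · have hall : ∀ x, P₃' x = 0 := by
      intro x
      rcases hkill x with h | h | h
      · rw [(c23' x a h hK).resolve_right ha]; exact hP0.2.2
      · rw [(c33 x a h hK).resolve_right ha]; exact hP0.2.2
      · exact h
    refine ha (h33 a ?_ hK)
    obtain ⟨b, rfl⟩ := g.surjective a
    have h := congrArg g (hall b)
    simp only [hP₃', map_add, map_zero] at h
    have h' := congrArg (fun z => J (J (J z))) h
    simp only [map_add, map_zero, hgi] at h'
    simp only [hP₃]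
    rw [← h']; abel

end Cfsg.Agent.Pyr45
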