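import Cfsg.Agent.Pyr45.SqMap
import Cfsg.Agent.S3776
import Cfsg.Agent.Lib.PGroup.Basic

/-!
# A 2-group with a solvable group of automorphisms transitive on involutions
-/

set_option autoImplicit false

namespace Cfsg.Agent.Pyr45

theorem sqData_of_transitive {P : Type*} [Group P] [Finite P] (hP : IsPGroup 2 P)
    (hna : ¬ ∀ x y : P, x * y = y * x) {Z : Subgroup P} (hZ : ∀ x, x * x = 1 ↔ x ∈ Z)
    (htwo : ∃ x ∈ Z, ∃ y ∈ Z, x ≠ y ∧ x ≠ 1 ∧ y ≠ 1) (Y : Subgroup (MulAut P))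
    (hsol : Group.IsSolvable Y)
    (htr : ∀ x ∈ Z, ∀ y ∈ Z, x ≠ 1 → y ≠ 1 → ∃ a ∈ Y, a x = y) : SqData Z := by
  haveI : Fact (Nat.Prime 2) := ⟨Nat.prime_two⟩
  obtain ⟨x, hx, y, hy, hxy, hx1, hy1⟩ := htwo
  have hiff : ∀ z : P, z ^ 2 = 1 ↔ z ∈ Z := fun z => by rw [pow_two]; exact hZ z
  obtain ⟨-, hfc, hc⟩ := S3776.result hP (fun h => hna fun a b => h.is_comm.comm a b)
    ⟨x, y, hxy, hx1, (hiff x).2 hx, hy1, (hiff y).2 hy⟩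
    ⟨Y, hsol, fun a b ha ha2 hb hb2 => htr a ((hiff a).1 ha2) b ((hiff b).1 hb2) ha hb⟩
  refine ⟨fun u => ?_, fun z hz u => ?_, hZ⟩
  · rw [← hiff, ← hc, ← hfc, ← pow_two]
    exact PGroup.pow_mem_frattini hP u
  · exact (Subgroup.mem_center_iff.1 ((hc z).2 ((hiff z).2 hz)) u).symm

end Cfsg.Agent.Pyr45
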