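import Cfsg.Agent.Pyr45.BaseCtx
import Cfsg.Agent.Pyr45.Pencil
import Cfsg.Agent.Pyr45.Special

/-!
# No configuration in dimension three with a non-abelian 2-kernel
-/

set_option autoImplicit false

namespace Cfsg.Agent.Pyr45

variable {H : Type*} [Group H] [Finite H] {E P : Subgroup H} {b : Vec → H}

theorem dec_orbit : ∀ x y : Vec, x ≠ 0 → y ≠ 0 → ∃ i : Fin 7, (app r0)^[i.1] x = y := by
  decide +kernel

theorem dec_fixed_tr : ∀ c : Vec, app tr c = c →
    c = 0 ∨ c = (1, 0, 0) ∨ c = (0, 1, 0) ∨ c = (1, 0, 0) + (0, 1, 0) := by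
  decide +kernel

theorem dec_swap : ∀ x : Vec, (app swapM x).1 = x.2.1 ∧ (app swapM x).2.1 = x.1 := by
  decide +kernel

theorem dec_tr_fix : app tr (1, 0, 0) = (1, 0, 0) ∧ app tr (0, 1, 0) = (0, 1, 0) :=
  ⟨by decide +kernel, by decide +kernel⟩

namespace Ctx

variable (C : Ctx E P b)
include C

/-- **The non-abelian case.** -/
theorem nonab_false (hna : ¬ ∀ x ∈ P, ∀ y ∈ P, x * y = y * x) : False := by
  classical
  haveI := C.P_normal
  set Z := E.subgroupOf P with hZdef
  let α : H →* MulAut P := MulAut.conjNormal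
  have hα : ∀ (h : H) (x : P), ((α h x : P) : H) = h * x * h⁻¹ := fun h x =>
    MulAut.conjNormal_apply h x
  let B : Vec → P := fun v => ⟨b v, C.b_memP v⟩
  have hBZ : ∀ z : P, z ∈ Z ↔ ∃ v, B v = z := fun z => by
    rw [hZdef, Subgroup.mem_subgroupOf, C.b_range]
    exact exists_congr fun v => ⟨fun h => Subtype.ext h, fun h => congrArg Subtype.val h⟩
  have hB0 : ∀ v, B v = 1 ↔ v = 0 := fun v =>
    ⟨fun h => C.b_eq_one (congrArg Subtype.val h), fun h => Subtype.ext (by subst h; exact C.b_zero)⟩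
  have hinv : ∀ x : P, x * x = 1 ↔ x ∈ Z := by
    intro x
    constructor
    · intro h
      exact C.invol _ (by rw [pow_two]; exact congrArg Subtype.val h)
    · intro h
      obtain ⟨v, rfl⟩ := (hBZ x).1 h
      exact Subtype.ext (C.b_sq v)
  obtain ⟨r, hr⟩ := C.r_real
  have hrpow : ∀ (i : ℕ) (v : Vec), α (r ^ i) (B v) = B ((app r0)^[i] v) := by
    intro i
    induction i with
    | zero => intro v; simp
    | succ i ih =>
      intro v
      rw [pow_succ', map_mul, MulAut.mul_apply, ih, Function.iterate_succ_apply']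
      exact Subtype.ext ((hα r _).trans (hr _))
  have htrY : ∀ x ∈ Z, ∀ y ∈ Z, x ≠ 1 → y ≠ 1 →
      ∃ a ∈ Subgroup.zpowers (α r), a x = y := by
    intro x hx y hy hx1 hy1
    obtain ⟨u, rfl⟩ := (hBZ x).1 hx
    obtain ⟨v, rfl⟩ := (hBZ y).1 hy
    obtain ⟨i, hi⟩ := dec_orbit u v (fun h => hx1 ((hB0 u).2 h)) (fun h => hy1 ((hB0 v).2 h))
    exact ⟨α (r ^ i.1), by rw [map_pow]; exact Subgroup.npow_mem_zpowers _ _, by rw [hrpow, hi]⟩
  have D : SqData Z := sqData_of_transitive C.P_pg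
    (fun h => hna fun x hx y hy => congrArg Subtype.val (h ⟨x, hx⟩ ⟨y, hy⟩)) hinv
    ⟨B (1, 0, 0), (hBZ _).2 ⟨_, rfl⟩, B (0, 1, 0), (hBZ _).2 ⟨_, rfl⟩,
      fun h => absurd (C.b_inj (congrArg Subtype.val h)) (by decide),
      fun h => absurd ((hB0 _).1 h) (by decide), fun h => absurd ((hB0 _).1 h) (by decide)⟩
    _ inferInstance htrY
  have hq : IsAniso D.q := D.aniso fun a ha c hc ha1 hc1 => by
    obtain ⟨f, -, hf⟩ := htrY a ha c hc ha1 hc1
    exact ⟨f, hf⟩
  haveI : Finite P := inferInstance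
  let Lh : Vec →+ D.Val :=
    { toFun := fun v => D.toVal (B v) ((hBZ _).2 ⟨v, rfl⟩)
      map_zero' := D.val_inj ((hB0 0).2 rfl)
      map_add' := fun u v => D.val_inj (Subtype.ext (C.b_add u v)) }
  have hLval : ∀ v, D.val (Lh v) = B v := fun v => rfl
  have hLbij : Function.Bijective (Lh.toZModLinearMap 2) := by
    constructor
    · intro u v h
      exact C.b_inj (congrArg Subtype.val (congrArg D.val h))
    · intro a
      obtain ⟨v, hv⟩ := (hBZ _).1 (D.val_mem a)
      exact ⟨v, D.val_inj hv⟩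
  let Le : Vec ≃ₗ[ZMod 2] D.Val := LinearEquiv.ofBijective _ hLbij
  have hLe : ∀ v, D.val (Le v) = B v := hLval
  haveI : Fintype (⊤ : Submodule (ZMod 2) D.Quo) := Fintype.ofFinite _
  have hW : Fintype.card D.Val = 2 ^ 3 := by
    rw [← Fintype.card_congr Le.toEquiv]; rfl
  have hsurj : ∀ a, a ≠ 0 → ∃ x, D.q x = a := by
    intro a ha
    obtain ⟨x, hx⟩ : ∃ x : P, x ∉ Z := by
      by_contra hh
      push Not at hh
      refine hna fun x hx y hy => ?_
      obtain ⟨u, hu⟩ := (hBZ _).1 (hh ⟨x, hx⟩)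
      rw [← show b u = x from congrArg Subtype.val hu]
      exact (C.P_cent y hy u).eq.symm
    have hx1 : x * x ≠ 1 := fun h => hx ((hinv x).1 h)
    obtain ⟨f, -, hf⟩ := htrY _ (D.sq_mem x) _ (D.val_mem a) hx1
      (fun h => ha (D.val_inj (h.trans D.val_zero.symm)))
    exact ⟨D.cls (f x), D.val_inj (by rw [D.val_q, ← map_mul, hf])⟩
  rcases injective_or_double hq (by norm_num) hW hsurj with hinj | hd
  · refine hna fun x hx y hy => ?_
    have hsame : ∀ u v : P, u * u = v * v → u⁻¹ * v ∈ Z := fun u v h =>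
      D.cls_eq_mk.1 (hinj (D.val_inj (by rw [D.val_q, D.val_q, h])))
    have hcentZ : ∀ u v : P, u⁻¹ * v ∈ Z → Commute u v := fun u v h => by
      have := (Commute.refl u).mul_right (D.central _ h u).symm
      rwa [mul_inv_cancel_left] at this
    suffices hh : Commute (⟨x, hx⟩ : P) ⟨y, hy⟩ from congrArg Subtype.val hh.eq
    generalize (⟨x, hx⟩ : P) = x
    generalize (⟨y, hy⟩ : P) = y
    clear hx hy
    obtain ⟨u, hu⟩ := (hBZ _).1 (D.sq_mem x)
    obtain ⟨w, hw⟩ := (hBZ _).1 (D.sq_mem y)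
    by_cases hu0 : u = 0
    · exact D.central x ((hinv x).1 (hu ▸ (hB0 u).2 hu0)) y
    by_cases hw0 : w = 0
    · exact (D.central y ((hinv y).1 (hw ▸ (hB0 w).2 hw0)) x).symm
    by_cases huw : u = w
    · subst huw; exact hcentZ x y (hsame x y (hu.symm.trans hw))
    obtain ⟨h, h1, h2⟩ := C.two_trans u w hu0 hw0 huw
    obtain ⟨s, hs⟩ := C.t_real
    set x' := α h x with hx'
    set y' := α h y with hy'
    have hxx : x' * x' = B (1, 0, 0) := by
      rw [hx', ← map_mul, ← hu]; exact Subtype.ext ((hα h _).trans h1)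
    have hyy : y' * y' = B (0, 1, 0) := by
      rw [hy', ← map_mul, ← hw]; exact Subtype.ext ((hα h _).trans h2)
    have hsB : ∀ v, α s (B v) = B (app tr v) := fun v => Subtype.ext ((hα s _).trans (hs v))
    have hcx : D.cls (α s x') = D.cls x' := D.cls_eq_mk.2 (hsame _ _ (by
      rw [← map_mul, hxx, hsB, dec_tr_fix.1]))
    have hcy : D.cls (α s y') = D.cls y' := D.cls_eq_mk.2 (hsame _ _ (by
      rw [← map_mul, hyy, hsB, dec_tr_fix.2]))
    obtain ⟨c, hc⟩ := (hBZ _).1 (D.sq_mem (x' * y'))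
    have hfix : app tr c = c := by
      have e : D.cls (α s (x' * y')) = D.cls (x' * y') := by
        rw [map_mul, D.cls_mul, hcx, hcy, D.cls_mul]
      have e2 := congrArg (fun z => D.val (D.q z)) e
      simp only [D.val_q, ← map_mul, ← hc, hsB] at e2
      exact C.b_inj (congrArg Subtype.val e2)
    have hne : D.cls x' ≠ D.cls y' := fun e => by
      have e2 := congrArg (fun z => D.val (D.q z)) e
      simp only [D.val_q, hxx, hyy] at e2
      exact absurd (C.b_inj (congrArg Subtype.val e2)) (by decide)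
    have hsum : ∀ z : P, B c = z * z → D.cls x' + D.cls y' = D.cls z := fun z hz => by
      rw [← D.cls_mul]; exact D.cls_eq_mk.2 (hsame _ _ (hc.symm.trans hz))
    suffices hh : Commute x' y' by
      have h3 := hh.map (α h).symm.toMonoidHom
      simpa [hx', hy'] using h3
    rcases dec_fixed_tr c hfix with rfl | rfl | rfl | rfl
    · have h0 := hsum 1 (by rw [one_mul]; exact (hB0 0).2 rfl)
      exact absurd ((eq_add_iff_add_eq (V := D.Quo) (x := D.cls x') (y := D.cls 1)
        (z := D.cls y')).2 h0 |>.trans (by rw [D.cls_one, zero_add])) hne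
    · have h0 := hsum x' hxx.symm
      have hy0 := (D.cls_eq_zero).1 (left_eq_add.1 h0.symm)
      exact absurd ((hB0 _).1 (hyy.symm.trans ((hinv _).2 hy0))) (by decide)
    · have h0 := hsum y' hyy.symm
      have hx0 := (D.cls_eq_zero).1 (right_eq_add.1 h0.symm)
      exact absurd ((hB0 _).1 (hxx.symm.trans ((hinv _).2 hx0))) (by decide)
    · have e : x' * x' * (y' * y') = x' * y' * (x' * y') := by
        rw [← hc, hxx, hyy]; exact Subtype.ext (C.b_add _ _).symm
      have e3 : x' * y' = y' * x' := by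
        calc x' * y' = x'⁻¹ * (x' * x' * (y' * y')) * y'⁻¹ := by group
          _ = y' * x' := by rw [e]; group
      exact e3
  · obtain ⟨σ, hσ⟩ := C.exists_swap
    let l₁ : D.Val →ₗ[ZMod 2] ZMod 2 := (LinearMap.fst _ _ _).comp Le.symm.toLinearMap
    let l₂ : D.Val →ₗ[ZMod 2] ZMod 2 :=
      (LinearMap.fst _ _ _).comp ((LinearMap.snd _ _ _).comp Le.symm.toLinearMap)
    have hl₁ : ∀ v, l₁ (Le v) = v.1 := fun v => by simp [l₁]
    have hl₂ : ∀ v, l₂ (Le v) = v.2.1 := fun v => by simp [l₂]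
    have hmap : ∀ m, ∃ v, D.q m = Le v ∧ D.q (D.quoEquiv (α σ) m) = Le (app swapM v) := by
      intro m
      refine ⟨Le.symm (D.q m), (Le.apply_symm_apply _).symm, ?_⟩
      rw [D.q_quoEquiv]
      refine D.val_inj ?_
      conv_lhs => rw [← Le.apply_symm_apply (D.q m)]
      rw [D.val_valMap, hLe, hLe]
      exact Subtype.ext ((hα σ _).trans (hσ _))
    refine no_swap hd hq (l₁ := l₁) (l₂ := l₂) ?_ ?_ ?_ (D.quoEquiv (α σ)) ?_ ?_
    · intro h; have := LinearMap.congr_fun h (Le (1, 0, 0)); rw [hl₁, LinearMap.zero_apply] at this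
      exact absurd this (by decide)
    · intro h; have := LinearMap.congr_fun h (Le (0, 1, 0)); rw [hl₂, LinearMap.zero_apply] at this
      exact absurd this (by decide)
    · intro h; have := LinearMap.congr_fun h (Le (1, 0, 0)); rw [hl₁, hl₂] at this
      exact absurd this (by decide)
    · intro m
      obtain ⟨v, h1, h2⟩ := hmap m
      rw [h1, h2, hl₁, hl₂, (dec_swap v).2]
    · intro m
      obtain ⟨v, h1, h2⟩ := hmap m
      rw [h1, h2, hl₁, hl₂, (dec_swap v).1]

end Ctx

end Cfsg.Agent.Pyr45
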