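import Cfsg.Agent.Pyr45.Gens
import Mathlib.GroupTheory.Perm.Cycle.Type
import Mathlib.Data.Nat.Factorization.Basic
import Mathlib.NumberTheory.Basic
import Mathlib.FieldTheory.Finite.Basic
import Mathlib.Tactic.NormNum.Prime

/-!
# The descent step for doubly transitive linear groups over the field with two elements

If every 3-element fixing two non-zero vectors is trivial, and the dimension is at least four,
there is no doubly transitive group: an element of order seven of a three-space normalised by an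
element of order three would have to be trivial modulo the three-space.
-/

set_option autoImplicit false
set_option maxHeartbeats 1000000

namespace Cfsg.Agent.Pyr45

open scoped Pointwise

def rP : Equiv.Perm Vec :=
  ⟨app r0, app ((0, 1, 0) |> fun _ => (((1, 0, 1), (1, 0, 0), (0, 1, 0)) : Mat)),
    by unfold Function.LeftInverse; decide +kernel,
    by unfold Function.RightInverse Function.LeftInverse; decide +kernel⟩

def qP : Equiv.Perm Vec :=
  ⟨app q0, fun x => app q0 (app q0 x),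
    by unfold Function.LeftInverse; decide +kernel,
    by unfold Function.RightInverse Function.LeftInverse; decide +kernel⟩

def tP : Equiv.Perm Vec :=
  ⟨app tr, app tr,
    by unfold Function.LeftInverse; decide +kernel,
    by unfold Function.RightInverse Function.LeftInverse; decide +kernel⟩

theorem rP_pow_seven : rP ^ 7 = 1 := by decide +kernel

theorem rP_ne_one : rP ≠ 1 := by decide +kernel

theorem qP_conj : qP * rP * qP⁻¹ = rP ^ 2 := by decide +kernel

theorem qr_facts : ∀ i : Fin 7, (qP * rP ^ (i : ℕ)) ^ 3 = 1 ∧ qP * rP ^ (i : ℕ) ≠ 1 ∧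
    qP * rP ^ (i : ℕ) * rP * (qP * rP ^ (i : ℕ))⁻¹ = rP ^ 2 ∧
    ∃ x : Vec, x ≠ 0 ∧ (qP * rP ^ (i : ℕ)) x = x := by decide +kernel

theorem three_facts : (rP * (tP * rP * tP⁻¹)) ^ 3 = 1 ∧ rP * (tP * rP * tP⁻¹) ≠ 1 ∧
    (rP * (tP * rP * tP⁻¹)) (1, 1, 1) = (1, 1, 1) := by decide +kernel

theorem pow_mul_self_eq {G : Type*} [Group G] {x : G} (h : x ^ 3 = 1) {m : ℕ} (hm : ¬ 3 ∣ m) :
    x ^ (m * m) = x := by
  have h1 : (m * m) % 3 = 1 := by
    rw [Nat.mul_mod]
    have := Nat.mod_lt m (show 3 > 0 by norm_num)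
    have h0 : m % 3 ≠ 0 := fun h => hm (Nat.dvd_of_mod_eq_zero h)
    interval_cases h : m % 3 <;> simp_all
  rw [← Nat.div_add_mod (m * m) 3, pow_add, pow_mul, h, one_pow, one_mul, h1, pow_one]

theorem exists_prime_part {G : Type*} [Group G] [Finite G] (p : ℕ) [Fact p.Prime] (x : G) :
    ∃ m : ℕ, ¬ p ∣ m ∧ ∃ k, (x ^ m) ^ p ^ k = 1 := by
  refine ⟨ordCompl[p] (orderOf x), Nat.not_dvd_ordCompl (Fact.out) (orderOf_pos x).ne',
    (orderOf x).factorization p, ?_⟩
  rw [← pow_mul, mul_comm, Nat.ordProj_mul_ordCompl_eq_self, pow_orderOf_eq_one]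

/-- Every 3-element fixing two non-zero vectors acts trivially. -/
def ThreeFix (H : Type*) [Group H] (V : Type*) [AddCommGroup V] [DistribMulAction H V] : Prop :=
  ∀ g : H, (∃ k, g ^ 3 ^ k = 1) → ∀ x y : V, x ≠ 0 → y ≠ 0 → x ≠ y → g • x = x → g • y = y → g = 1

section

variable {H : Type*} [Group H] {V : Type*} [AddCommGroup V] [Module (ZMod 2) V]
  [DistribMulAction H V] {ι : Vec →ₗ[ZMod 2] V}

/-- The setwise stabiliser of the frame. -/
def stab (ι : Vec →ₗ[ZMod 2] V) (hι : Function.Injective ι) : Subgroup H where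
  carrier := {h | ∀ x, ∃ y, h • ι x = ι y}
  one_mem' := fun x => ⟨x, one_smul _ _⟩
  mul_mem' := fun {a b} ha hb x => by
    obtain ⟨y, hy⟩ := hb x
    obtain ⟨z, hz⟩ := ha y
    exact ⟨z, by rw [mul_smul, hy, hz]⟩
  inv_mem' := fun {a} ha x => by
    choose f hf using ha
    have hinj : Function.Injective f := fun u w h => hι (MulAction.injective a
      ((hf u).trans ((congrArg ι h).trans (hf w).symm)))
    obtain ⟨y, hy⟩ := (Finite.injective_iff_surjective.1 hinj) x
    exact ⟨y, by rw [← hy, ← hf, inv_smul_smul]⟩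

/-- The permutation induced on the frame. -/
noncomputable def theta (hι : Function.Injective ι) : stab (H := H) ι hι →* Equiv.Perm Vec :=
  MonoidHom.toHomPerm
    { toFun := fun h x => Classical.choose (h.2 x)
      map_one' := by
        funext x
        refine hι ?_
        rw [← Classical.choose_spec ((1 : stab (H := H) ι hι).2 x)]
        exact one_smul _ _
      map_mul' := fun a b => by
        funext x
        exact hι ((Classical.choose_spec ((a * b).2 x)).symm.trans ((mul_smul _ _ _).trans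
          ((congrArg ((a : H) • ·) (Classical.choose_spec (b.2 x))).trans
            (Classical.choose_spec (a.2 _))))) }

theorem theta_spec (hι : Function.Injective ι) (h : stab (H := H) ι hι) (x : Vec) :
    (h : H) • ι x = ι (theta hι h x) := Classical.choose_spec (h.2 x)

theorem theta_eq (hι : Function.Injective ι) {h : stab (H := H) ι hι} {π : Equiv.Perm Vec}
    (hh : ∀ x, (h : H) • ι x = ι (π x)) : theta hι h = π :=
  Equiv.ext fun x => hι ((theta_spec hι h x).symm.trans (hh x))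

theorem smul_mem_range (hι : Function.Injective ι) (h : stab (H := H) ι hι) {x : V}
    (hx : x ∈ LinearMap.range ι) : (h : H) • x ∈ LinearMap.range ι := by
  obtain ⟨y, rfl⟩ := hx
  exact ⟨_, (theta_spec hι h y).symm⟩

theorem lift_perm (hι : Function.Injective ι) {m : Mat} (hm : Realizes H ι m)
    (π : Equiv.Perm Vec) (hπ : ∀ x, π x = app m x) :
    ∃ h : stab (H := H) ι hι, theta hι h = π := by
  obtain ⟨h, hh⟩ := hm
  exact ⟨⟨h, fun x => ⟨_, hh x⟩⟩, theta_eq hι fun x => by rw [hπ]; exact hh x⟩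

end

variable {H : Type*} [Group H] [Finite H] {V : Type*} [AddCommGroup V] [Module (ZMod 2) V]
  [DistribMulAction H V] [Finite V]

/-- **A 7-element inducing `r0` normalised by an element of order three.** -/
theorem exists_pair (ι : Vec →ₗ[ZMod 2] V) (hι : Function.Injective ι)
    (hr : Realizes H ι r0) (hq : Realizes H ι q0) (hA : ThreeFix H V) :
    ∃ (p q : stab (H := H) ι hι) (w : ℕ), theta hι p = rP ∧ q ^ 3 = 1 ∧ q ≠ 1 ∧
      q * p * q⁻¹ = p ^ w ∧ w % 7 = 2 ∧ (∃ j, orderOf p = 7 ^ j) ∧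
      ∃ f : Vec, f ≠ 0 ∧ (q : H) • ι f = ι f := by
  classical
  haveI : Fact (Nat.Prime 7) := ⟨by decide⟩
  haveI : Fact (Nat.Prime 3) := ⟨Nat.prime_three⟩
  obtain ⟨rh, hrh⟩ := lift_perm hι hr rP fun x => rfl
  obtain ⟨qh, hqh⟩ := lift_perm hι hq qP fun x => rfl
  set Kr : Subgroup (stab (H := H) ι hι) := (Subgroup.zpowers rP).comap (theta hι) with hKr
  set N := Subgroup.normalizer (Kr : Set (stab (H := H) ι hι)) with hN
  have hqN : qh ∈ N := by
    have hz : (Subgroup.zpowers rP).map (MulAut.conj qP).toMonoidHom = Subgroup.zpowers rP := by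
      refine Subgroup.eq_of_le_of_card_ge ?_ ?_
      · rw [MonoidHom.map_zpowers, Subgroup.zpowers_le]
        change qP * rP * qP⁻¹ ∈ Subgroup.zpowers rP
        rw [qP_conj]
        exact Subgroup.pow_mem _ (Subgroup.mem_zpowers rP) 2
      · rw [Subgroup.card_map_of_injective (MulAut.conj qP).injective]
    rw [hN, Subgroup.mem_normalizer_iff]
    intro y
    simp only [hKr, Subgroup.mem_comap, map_mul, map_inv, hqh]
    conv_rhs => rw [← hz]
    exact ⟨fun hy => ⟨_, hy, rfl⟩, fun ⟨u, hu, hue⟩ => (MulAut.conj qP).injective hue ▸ hu⟩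
  set K' : Subgroup N := Kr.subgroupOf N with hK'
  haveI : K'.Normal := Subgroup.normal_in_normalizer
  obtain ⟨m, hm7, k7, hk7⟩ := exists_prime_part 7 rh
  have hrK : rh ^ m ∈ Kr := by
    rw [hKr, Subgroup.mem_comap, map_pow, hrh]
    exact Subgroup.pow_mem _ (Subgroup.mem_zpowers rP) m
  set r' : K' := ⟨⟨rh ^ m, Subgroup.le_normalizer hrK⟩, hrK⟩ with hr'
  obtain ⟨P, hP⟩ := (IsPGroup.of_card (p := 7) (n := ((orderOf r').factorization 7))
    (G := Subgroup.zpowers r') (by
      rw [Nat.card_zpowers]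
      obtain ⟨i, -, hi⟩ := (Nat.dvd_prime_pow (by norm_num)).1
        (orderOf_dvd_of_pow_eq_one (show r' ^ 7 ^ k7 = 1 from Subtype.ext (Subtype.ext hk7)))
      rw [hi, Nat.factorization_pow_self (by norm_num)])).exists_le_sylow
  obtain ⟨y, hy, k, hk, hyk⟩ := Subgroup.mem_sup_of_normal_right.1
    ((P.normalizer_sup_eq_top).ge (Subgroup.mem_top (⟨qh, hqN⟩ : N)))
  set P1 : Subgroup (stab (H := H) ι hι) :=
    ((P : Subgroup K').map K'.subtype).map N.subtype with hP1
  have hP1p : IsPGroup 7 P1 := (P.isPGroup'.map _).map _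
  have hP1K : P1 ≤ Kr := by
    rintro _ ⟨_, ⟨u, -, rfl⟩, rfl⟩
    exact u.2
  have hynorm : ∀ g ∈ P1, (y : stab (H := H) ι hι) * g * (y : stab (H := H) ι hι)⁻¹ ∈ P1 := by
    rintro _ ⟨g, hg, rfl⟩
    exact ⟨y * g * y⁻¹, (Subgroup.mem_normalizer_iff.1 hy g).1 hg, rfl⟩
  obtain ⟨i, hi⟩ : ∃ i : Fin 7, theta hι (y : stab (H := H) ι hι) = qP * rP ^ (i : ℕ) := by
    have hkK : theta hι ((k : N) : stab (H := H) ι hι) ∈ Subgroup.zpowers rP := hk
    obtain ⟨z, hz⟩ := Subgroup.mem_zpowers_iff.1 (inv_mem hkK)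
    refine ⟨⟨(z % 7).toNat, by omega⟩, ?_⟩
    have h1 := congrArg (fun u : N => theta hι (u : stab (H := H) ι hι)) hyk
    simp only [Subgroup.coe_mul, map_mul, hqh] at h1
    rw [← h1, mul_assoc, ← zpow_natCast rP (Fin.val _)]
    have h2 : rP ^ (((z % 7).toNat : ℕ) : ℤ) = rP ^ z := by
      rw [Int.toNat_of_nonneg (Int.emod_nonneg _ (by norm_num))]
      conv_rhs => rw [← Int.emod_add_mul_ediv z 7, zpow_add, zpow_mul, zpow_ofNat, rP_pow_seven, one_zpow,
        mul_one]
    change _ = _ * (_ * rP ^ (((z % 7).toNat : ℕ) : ℤ))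
    rw [h2, hz, mul_inv_cancel, mul_one]
  obtain ⟨m3, hm3, k3, hk3⟩ := exists_prime_part 3 (y : stab (H := H) ι hι)
  obtain ⟨hy3, hyne, hyconj, f, hf0, hff⟩ := qr_facts i
  set q := (y : stab (H := H) ι hι) ^ (m3 * m3) with hqdef
  have hθq : theta hι q = qP * rP ^ (i : ℕ) := by
    rw [hqdef, map_pow, hi, pow_mul_self_eq hy3 hm3]
  have hq1 : q ≠ 1 := fun h => hyne (by rw [← hθq, h, map_one])
  have hqf : (q : H) • ι f = ι f := by rw [theta_spec hι q f, hθq, hff]
  have hq3 : q ^ 3 = 1 := by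
    refine Subtype.ext (hA _ ⟨k3, ?_⟩ (ι (1, 0, 0)) (ι (0, 1, 0)) ?_ ?_ ?_ ?_ ?_)
    · rw [← SubgroupClass.coe_pow]
      refine (congrArg Subtype.val ?_).trans (OneMemClass.coe_one _)
      have h : q ^ 3 ^ k3 = 1 := by
        rw [hqdef, ← pow_mul, show m3 * m3 * 3 ^ k3 = m3 * 3 ^ k3 * m3 by ring, pow_mul, pow_mul,
          hk3, one_pow]
      rw [← pow_mul, mul_comm, pow_mul, h, one_pow]
    · exact fun h => absurd (hι (h.trans (map_zero ι).symm)) (by decide)
    · exact fun h => absurd (hι (h.trans (map_zero ι).symm)) (by decide)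
    · exact fun h => absurd (hι h) (by decide)
    · rw [theta_spec hι (q ^ 3), map_pow, hθq, hy3, Equiv.Perm.one_apply]
    · rw [theta_spec hι (q ^ 3), map_pow, hθq, hy3, Equiv.Perm.one_apply]
  have hqnorm : ∀ g ∈ P1, q * g * q⁻¹ ∈ P1 := by
    intro g hg
    rw [hqdef]
    generalize m3 * m3 = e
    induction e generalizing g with
    | zero => simpa using hg
    | succ e ih =>
      rw [pow_succ, mul_inv_rev]
      have := ih _ (hynorm g hg)
      simpa [mul_assoc] using this
  -- a lift of `rP` in `P1`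
  obtain ⟨s, hs⟩ : ∃ s, (rP ^ m) ^ s = rP := by
    obtain ⟨s, hs⟩ := Nat.exists_mul_mod_eq_one_of_coprime
      ((Nat.Prime.coprime_iff_not_dvd (by norm_num : Nat.Prime 7)).2 hm7).symm (by norm_num)
    refine ⟨s, ?_⟩
    rw [← pow_mul, ← Nat.div_add_mod (m * s) 7, pow_add, pow_mul, rP_pow_seven, one_pow, one_mul,
      hs.2, pow_one]
  have hp0 : rh ^ m ∈ P1 := ⟨(r' : N), ⟨r', hP (Subgroup.mem_zpowers r'), rfl⟩, rfl⟩
  have hp1 : (rh ^ m) ^ s ∈ P1 := Subgroup.pow_mem _ hp0 s
  have hθp1 : theta hι ((rh ^ m) ^ s) = rP := by rw [map_pow, map_pow, hrh, hs]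
  obtain ⟨J, hJ⟩ := IsPGroup.iff_card.1 hP1p
  -- cube roots of unity modulo `7 ^ J`
  set u := 4 ^ 7 ^ J with hu
  have hu7 : (u : ZMod 7) = 4 := by rw [hu]; push_cast; exact ZMod.pow_card_pow _
  have hu3 : ∀ g ∈ P1, g ^ (u * u * u) = g := by
    intro g hg
    have hg1 : g ^ 7 ^ J = 1 := by
      have := congrArg Subtype.val (pow_card_eq_one' (x := (⟨g, hg⟩ : P1)))
      rwa [hJ] at this
    have h1 : (7 : ℤ) ^ (J + 1) ∣ (64 : ℤ) ^ 7 ^ J - 1 := by
      have := dvd_sub_pow_of_dvd_sub (R := ℤ) (p := 7) (a := 64) (b := 1) (by norm_num) J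
      simpa using this
    have h2 : 7 ^ J ∣ u * u * u - 1 := by
      have h3 : u * u * u = 64 ^ 7 ^ J := by
        rw [hu, ← mul_pow, ← mul_pow]
        norm_num
      rw [h3]
      have h4 : (1 : ℕ) ≤ 64 ^ 7 ^ J := Nat.one_le_pow _ _ (by norm_num)
      have h5 : ((7 ^ J : ℕ) : ℤ) ∣ ((64 ^ 7 ^ J - 1 : ℕ) : ℤ) := by
        rw [Nat.cast_sub h4]
        push_cast
        exact (pow_dvd_pow _ (Nat.le_succ J)).trans h1
      exact_mod_cast h5
    obtain ⟨c, hc⟩ := h2
    have hpos : 1 ≤ u * u * u := Nat.one_le_iff_ne_zero.2 (by simp [hu])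
    rw [show u * u * u = 7 ^ J * c + 1 by omega, pow_add, pow_mul, hg1, one_pow, one_mul, pow_one]
  have hconjr : ∀ g : stab (H := H) ι hι, theta hι g = rP →
      theta hι ((q * g * q⁻¹) ^ u) = rP := by
    intro g hg
    rw [map_pow, map_mul, map_mul, map_inv, hθq, hg, hyconj, ← pow_mul,
      ← Nat.div_add_mod (2 * u) 7, pow_add, pow_mul, rP_pow_seven, one_pow, one_mul]
    have h1 : (2 * u) % 7 = 1 := by
      have h2 : ((2 * u : ℕ) : ZMod 7) = ((1 : ℕ) : ZMod 7) := by
        push_cast; rw [hu7]; rfl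
      exact (ZMod.natCast_eq_natCast_iff' _ _ _).1 h2
    rw [h1, pow_one]
  let X := {g : stab (H := H) ι hι // g ∈ P1 ∧ theta hι g = rP}
  let σ : X → X := fun g => ⟨(q * g.1 * q⁻¹) ^ u, Subgroup.pow_mem _ (hqnorm _ g.2.1) u,
    hconjr _ g.2.2⟩
  have hσ : ∀ g : X, σ (σ (σ g)) = g := by
    intro g
    refine Subtype.ext ?_
    change (q * (q * (q * g.1 * q⁻¹) ^ u * q⁻¹) ^ u * q⁻¹) ^ u = g.1
    have hk : ∀ (a b : stab (H := H) ι hι) (n : ℕ), (a * b * a⁻¹) ^ n = a * b ^ n * a⁻¹ :=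
      fun a b n => by rw [← MulAut.conj_apply, ← map_pow, MulAut.conj_apply]
    simp only [hk, ← pow_mul]
    rw [hu3 _ g.2.1]
    have : q * (q * (q * g.1 * q⁻¹) * q⁻¹) * q⁻¹ = q ^ 3 * g.1 * (q ^ 3)⁻¹ := by
      rw [pow_three']; group
    rw [this, hq3]
    simp
  let σe : Equiv.Perm X := ⟨σ, fun g => σ (σ g), hσ, hσ⟩
  have hσ3 : σe ^ 3 ^ 1 = 1 := Equiv.ext fun g => by
    rw [pow_one, pow_succ, pow_succ, pow_one]
    exact hσ g
  haveI : Fintype X := Fintype.ofFinite X
  have hX3 : ¬ 3 ∣ Fintype.card X := by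
    intro h
    rw [← Nat.card_eq_fintype_card] at h
    let T : Subgroup P1 := (theta hι).ker.subgroupOf P1
    have hT : Nat.card X = Nat.card T := by
      refine Nat.card_congr
        { toFun := fun g => ⟨⟨g.1 * ((rh ^ m) ^ s)⁻¹, mul_mem g.2.1 (inv_mem hp1)⟩, by
            change g.1 * ((rh ^ m) ^ s)⁻¹ ∈ (theta hι).ker
            rw [MonoidHom.mem_ker, map_mul, map_inv, g.2.2, hθp1, mul_inv_cancel]⟩
          invFun := fun g => ⟨g.1.1 * (rh ^ m) ^ s, mul_mem g.1.2 hp1, by
            have hg : g.1.1 ∈ (theta hι).ker := g.2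
            rw [map_mul, MonoidHom.mem_ker.1 hg, hθp1, one_mul]⟩
          left_inv := fun g => Subtype.ext (by simp)
          right_inv := fun g => Subtype.ext (Subtype.ext (by simp)) }
    obtain ⟨t, ht⟩ := IsPGroup.iff_card.1 (hP1p.to_subgroup T)
    rw [hT, ht] at h
    have := (Nat.prime_dvd_prime_iff_eq Nat.prime_three (by norm_num : Nat.Prime 7)).1
      (Nat.prime_three.dvd_of_dvd_pow h)
    omega
  obtain ⟨p, hp⟩ := Equiv.Perm.exists_fixed_point_of_prime hX3 hσ3
  refine ⟨p.1, q, u * u, p.2.2, hq3, hq1, ?_, ?_, ?_, f, hf0, hqf⟩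
  · have hp' : (q * p.1 * q⁻¹) ^ u = p.1 := congrArg Subtype.val hp
    have h1 := congrArg (· ^ (u * u)) hp'
    simp only [← pow_mul, ← mul_assoc] at h1
    rwa [hu3 _ (hqnorm _ p.2.1)] at h1
  · have h2 : ((u * u : ℕ) : ZMod 7) = ((2 : ℕ) : ZMod 7) := by push_cast; rw [hu7]; rfl
    exact (ZMod.natCast_eq_natCast_iff' _ _ _).1 h2
  · obtain ⟨t, ht⟩ := hP1p ⟨p.1, p.2.1⟩
    obtain ⟨j, -, hj⟩ := (Nat.dvd_prime_pow (by norm_num : Nat.Prime 7)).1
      (orderOf_dvd_of_pow_eq_one (congrArg Subtype.val ht : p.1 ^ 7 ^ t = 1))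
    exact ⟨j, hj⟩

/-- **No doubly transitive group of dimension at least four satisfies `ThreeFix`.** -/
theorem false_of_threeFix (hcard : 16 ≤ Nat.card V) (h2 : TwoTrans H V) (hA : ThreeFix H V) :
    False := by
  classical
  obtain ⟨ι, hι, hr, ht⟩ := exists_frame (H := H) (V := V) (by omega) h2
  have hq : Realizes H ι q0 := by
    rw [← word_q0]
    refine Realizes.word (fun m hm => ?_) _
    simp only [List.mem_cons, List.not_mem_nil, or_false] at hm
    rcases hm with rfl | rfl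
    exacts [hr, ht]
  obtain ⟨p, q, w, hθp, hq3, hq1, hconj, hw, ⟨j, hj⟩, f, hf0, hqf⟩ := exists_pair ι hι hr hq hA
  set R := LinearMap.range ι with hR
  have hιne : ∀ x : Vec, x ≠ 0 → ι x ≠ 0 := fun x hx h => hx (hι (h.trans (map_zero ι).symm))
  -- fixed points of `q`
  have hfix : ∀ x : V, (q : H) • x = x → x ∈ R := by
    intro x hx
    by_contra hxR
    have h1 : x ≠ 0 := fun h => hxR (h ▸ zero_mem _)
    have h2' : ι f ≠ x := fun h => hxR (h ▸ ⟨f, rfl⟩)
    refine hq1 (Subtype.ext (hA _ ⟨1, ?_⟩ (ι f) x (hιne f hf0) h1 h2' hqf hx))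
    rw [pow_one, ← SubgroupClass.coe_pow, hq3]
    rfl
  set A := Subgroup.zpowers p with hA'
  have := Fintype.ofFinite A
  have hAcard : Nat.card A = 7 ^ j := by rw [hA', Nat.card_zpowers, hj]
  have hcop : ∀ k : ℕ, ¬ 7 ∣ k → (Nat.card A).Coprime k := fun k hk => by
    rw [hAcard]
    exact Nat.Coprime.pow_left _ ((Nat.Prime.coprime_iff_not_dvd (by norm_num)).2 hk)
  have hw1 : ¬ 7 ∣ w - 1 := by omega
  have hw2 : ¬ 7 ∣ w * w - 1 := by
    have : (w * w) % 7 = 4 := by rw [Nat.mul_mod, hw]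
    omega
  have hwpos : 1 ≤ w := by omega
  have hwpos2 : 1 ≤ w * w := Nat.one_le_iff_ne_zero.2 (by positivity)
  -- conjugates of `q`
  have hqc : ∀ (c : A) (g : stab (H := H) ι hι) (v : ℕ), 1 ≤ v →
      g * p * g⁻¹ = p ^ v →
      (c : stab (H := H) ι hι) * g * (c : stab (H := H) ι hι)⁻¹ =
        ((c ^ (v - 1))⁻¹ : A) * g := by
    rintro ⟨c, hc⟩ g v hv hgv
    obtain ⟨z, rfl⟩ := Subgroup.mem_zpowers_iff.1 hc
    have h1 : g * (p ^ z) * g⁻¹ = (p ^ z) ^ v := by
      rw [← conj_zpow, hgv, ← zpow_natCast, ← zpow_mul, mul_comm, zpow_mul, zpow_natCast]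
    have h2 : g * (p ^ z)⁻¹ = ((p ^ z) ^ v)⁻¹ * g := by
      rw [← h1]; group
    show p ^ z * g * (p ^ z)⁻¹ = ((p ^ z) ^ (v - 1))⁻¹ * g
    rw [mul_assoc, h2, ← mul_assoc]
    congr 1
    conv_lhs => rw [show v = (v - 1) + 1 by omega, pow_succ]
    group
  have hconj2 : (q * q) * p * (q * q)⁻¹ = p ^ (w * w) := by
    rw [pow_mul, ← hconj, conj_pow, ← hconj]
    group
  let N : V → V := fun x => ∑ a : A, ((a : stab (H := H) ι hι) : H) • x
  have hN : ∀ x, (p : H) • N x = N x := by
    intro x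
    simp only [N, Finset.smul_sum, ← mul_smul]
    exact Fintype.sum_equiv (Equiv.mulLeft ⟨p, Subgroup.mem_zpowers p⟩) _ _ fun a => rfl
  have hNk : ∀ (k : ℕ), ¬ 7 ∣ k → ∀ x,
      ∑ a : A, (((a ^ k)⁻¹ : A) : stab (H := H) ι hι) • x = N x := by
    intro k hk x
    exact Fintype.sum_equiv ((powCoprime (hcop k hk)).trans (Equiv.inv A)) _ _ fun a => rfl
  have hmain : ∀ x : V, (p : H) • x + x ∈ R := by
    intro x
    have hterm : ∀ c : A, x + ((((c ^ (w - 1))⁻¹ : A) : stab (H := H) ι hι) : H) • (q : H) • x +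
        ((((c ^ (w * w - 1))⁻¹ : A) : stab (H := H) ι hι) : H) • ((q * q : stab (H := H) ι hι) : H) • x
        ∈ R := by
      intro c
      have e1 := hqc c q w hwpos hconj
      have e2 := hqc c (q * q) (w * w) hwpos2 hconj2
      rw [← mul_smul, ← mul_smul, ← Subgroup.coe_mul, ← Subgroup.coe_mul, ← e1, ← e2]
      set g := (c : stab (H := H) ι hι) * q * (c : stab (H := H) ι hι)⁻¹ with hg
      have hgg : (c : stab (H := H) ι hι) * (q * q) * (c : stab (H := H) ι hι)⁻¹ = g * g := by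
        rw [hg]; group
      have hg3 : g * (g * g) = 1 := by
        have : g * (g * g) = (c : stab (H := H) ι hι) * q ^ 3 * (c : stab (H := H) ι hι)⁻¹ := by
          rw [hg, pow_three']; group
        rw [this, hq3]; group
      rw [hgg]
      set y := x + (g : H) • x + ((g * g : stab (H := H) ι hι) : H) • x with hy
      have hgy : (g : H) • y = y := by
        rw [hy, smul_add, smul_add, ← mul_smul, ← mul_smul, ← Subgroup.coe_mul, ← Subgroup.coe_mul, hg3]
        simp only [Subgroup.coe_one, one_smul]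
        abel
      have hqy : (q : H) • ((c : stab (H := H) ι hι) : H)⁻¹ • y = ((c : stab (H := H) ι hι) : H)⁻¹ • y := by
        conv_rhs => rw [← hgy]
        rw [← mul_smul, ← mul_smul]
        congr 1
        rw [hg]
        simp only [Subgroup.coe_mul, Subgroup.coe_inv]
        group
      have h := smul_mem_range hι (c : stab (H := H) ι hι) (hfix _ hqy)
      rwa [smul_inv_smul] at h
    have hsum : Nat.card A • x + N ((q : H) • x) + N (((q * q : stab (H := H) ι hι) : H) • x) ∈ R := by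
      have h := Submodule.sum_mem R (t := Finset.univ) (fun c _ => hterm c)
      rw [Finset.sum_add_distrib, Finset.sum_add_distrib, Finset.sum_const, Finset.card_univ,
        ← Nat.card_eq_fintype_card] at h
      rw [← hNk (w - 1) hw1, ← hNk (w * w - 1) hw2]
      exact h
    have hodd : Nat.card A • x = x := by
      obtain ⟨k, hk⟩ : Odd (Nat.card A) := by rw [hAcard]; exact Odd.pow (by decide)
      rw [hk, add_smul, one_smul, mul_comm, mul_smul, two_nsmul, add_self, smul_zero, zero_add]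
    rw [hodd] at hsum
    have h1 := smul_mem_range hι p hsum
    rw [smul_add, smul_add, hN, hN] at h1
    have h2 := add_mem h1 hsum
    generalize N ((q : H) • x) = A1 at h2
    generalize N (((q * q : stab (H := H) ι hι) : H) • x) = A2 at h2
    have h3 : (p : H) • x + A1 + A2 + (x + A1 + A2) = (p : H) • x + x := by
      rw [show (p : H) • x + A1 + A2 + (x + A1 + A2) = (p : H) • x + x + (A1 + A1) + (A2 + A2) by abel,
        add_self, add_self, add_zero, add_zero]
    rwa [h3] at h2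
  -- an element of order three trivial modulo the three-space
  obtain ⟨th, hth⟩ := lift_perm hι ht tP fun x => rfl
  have hconjR : ∀ g : stab (H := H) ι hι, ∀ x : V,
      ((g * p * g⁻¹ : stab (H := H) ι hι) : H) • x + x ∈ R := by
    intro g x
    have h := smul_mem_range hι g (hmain (((g : H))⁻¹ • x))
    rw [smul_add, smul_inv_smul, ← mul_smul, ← mul_smul] at h
    simpa only [Subgroup.coe_mul, Subgroup.coe_inv, mul_assoc] using h
  set w1 := p * (th * p * th⁻¹) with hw1'
  have hθw : theta hι w1 = rP * (tP * rP * tP⁻¹) := by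
    rw [hw1', map_mul, map_mul, map_mul, map_inv, hθp, hth]
  have hw1R : ∀ x : V, (w1 : H) • x + x ∈ R := by
    intro x
    have h1 := hconjR th x
    have h2 := hmain (((th * p * th⁻¹ : stab (H := H) ι hι) : H) • x)
    have h3 := add_mem h2 h1
    rw [← mul_smul, ← Subgroup.coe_mul, ← hw1'] at h3
    rwa [show ∀ A B C : V, A + B + (B + C) = A + C from fun A B C => by
      rw [show A + B + (B + C) = A + C + (B + B) by abel, add_self, add_zero]] at h3
  obtain ⟨m, hm, k, hk⟩ := exists_prime_part 3 w1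
  set q' := w1 ^ (m * m) with hq'
  obtain ⟨h31, h32, h33⟩ := three_facts
  have hθq' : theta hι q' = rP * (tP * rP * tP⁻¹) := by
    rw [hq', map_pow, hθw, pow_mul_self_eq h31 hm]
  have hpowR : ∀ (n : ℕ) (x : V), ((w1 ^ n : stab (H := H) ι hι) : H) • x + x ∈ R := by
    intro n
    induction n with
    | zero => intro x; simp [add_self]
    | succ n ih =>
      intro x
      have h1 := ih ((w1 : H) • x)
      have h3 := add_mem h1 (hw1R x)
      rw [← mul_smul, ← Subgroup.coe_mul, ← pow_succ] at h3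
      rwa [show ∀ A B C : V, A + B + (B + C) = A + C from fun A B C => by
        rw [show A + B + (B + C) = A + C + (B + B) by abel, add_self, add_zero]] at h3
  have hq'3el : ∃ t, (q' : H) ^ 3 ^ t = 1 := by
    refine ⟨k, ?_⟩
    rw [← SubgroupClass.coe_pow, hq', ← pow_mul, show m * m * 3 ^ k = m * 3 ^ k * m by ring, pow_mul,
      pow_mul, hk, one_pow]
    rfl
  have hq'3 : q' ^ 3 = 1 := by
    obtain ⟨t, ht3⟩ := hq'3el
    refine Subtype.ext (hA _ ⟨t, ?_⟩ (ι (1, 0, 0)) (ι (0, 1, 0)) (hιne _ (by decide))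
      (hιne _ (by decide)) (fun h => absurd (hι h) (by decide)) ?_ ?_)
    · rw [SubgroupClass.coe_pow, ← pow_mul, mul_comm, pow_mul, ht3, one_pow]
    · rw [theta_spec hι (q' ^ 3), map_pow, hθq', h31, Equiv.Perm.one_apply]
    · rw [theta_spec hι (q' ^ 3), map_pow, hθq', h31, Equiv.Perm.one_apply]
  obtain ⟨x, hx⟩ : ∃ x : V, x ∉ R := by
    by_contra h
    push Not at h
    have h1 : Nat.card V ≤ Nat.card Vec :=
      Nat.card_le_card_of_surjective ι fun v => LinearMap.mem_range.1 (h v)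
    rw [show Nat.card Vec = 8 by simp [Nat.card_eq_fintype_card]] at h1
    omega
  set y := x + (q' : H) • x + ((q' * q' : stab (H := H) ι hι) : H) • x with hy
  have hyR : y ∉ R := by
    intro h
    have h1 : (q' : H) • x + x ∈ R := hpowR _ x
    have h2 : ((q' * q' : stab (H := H) ι hι) : H) • x + x ∈ R := by
      rw [hq', ← pow_add]; exact hpowR _ x
    refine hx ?_
    have h3 := add_mem (add_mem h h1) h2
    rwa [hy, show ∀ A B C : V, A + B + C + (B + A) + (C + A) = A from fun A B C => by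
      rw [show A + B + C + (B + A) + (C + A) = A + (A + A) + (B + B) + (C + C) by abel, add_self,
        add_self, add_self, add_zero, add_zero, add_zero]] at h3
  have hqy : (q' : H) • y = y := by
    have e : q' * (q' * q') = 1 := by rw [← hq'3, pow_three]
    rw [hy, smul_add, smul_add, ← mul_smul, ← mul_smul, ← Subgroup.coe_mul, ← Subgroup.coe_mul, e]
    simp only [Subgroup.coe_one, one_smul]
    abel
  have h111 : (q' : H) • ι (1, 1, 1) = ι (1, 1, 1) := by rw [theta_spec hι q', hθq', h33]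
  have hbad := hA _ hq'3el (ι (1, 1, 1)) y (hιne _ (by decide)) (fun h => hyR (h ▸ zero_mem _))
    (fun h => hyR (h ▸ ⟨_, rfl⟩)) h111 hqy
  have : q' = 1 := Subtype.ext hbad
  rw [this, map_one] at hθq'
  exact h32 hθq'.symm

end Cfsg.Agent.Pyr45
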