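import Cfsg.Agent.Pyr45.Setup
import Cfsg.Agent.Pyr45.Seven

/-!
# Descent to dimension three
-/

set_option autoImplicit false

namespace Cfsg.Agent.Pyr45

universe u

/-- A group of automorphisms of a commutative group acts on its additive version. -/
@[reducible] def autAdd {A : Type*} [CommGroup A] (R : Subgroup (MulAut A)) :
    DistribMulAction R (Additive A) where
  smul f x := Additive.ofMul ((f : MulAut A) x.toMul)
  one_smul x := rfl
  mul_smul f g x := rfl
  smul_zero f := show Additive.ofMul ((f : MulAut A) 1) = 0 by rw [map_one]; rfl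
  smul_add f x y := show Additive.ofMul ((f : MulAut A) (x.toMul * y.toMul)) = _ by
    rw [map_mul]; rfl

/-- **No odd configuration exists, if none exists in dimension three.** -/
theorem no_cfg_of_base
    (hbase : ∀ (K : Type u) [Group K] [Finite K] (E : Subgroup K), IsCfg E 3 → False) :
    ∀ (d : ℕ) (H : Type u) [Group H] [Finite H] (E : Subgroup H),
      IsCfg E d → Odd d → 3 ≤ d → False := by
  intro d
  induction d using Nat.strong_induction_on with
  | h d ih =>
    intro H _ _ E hE hd hd3
    classical
    by_cases h3 : d = 3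
    · subst h3; exact hbase H E hE
    haveI := hE.normal
    letI := commOf hE.elem
    set R := (MulAut.conjNormal : H →* MulAut E).range with hR
    letI := autAdd R
    letI : Module (ZMod 2) (Additive E) :=
      AddCommGroup.zmodModule (two_nsmul_zero hE.elem)
    haveI : Finite (Additive E) := Finite.of_equiv _ (Additive.ofMul (α := E))
    haveI : Finite (MulAut E) := Finite.of_injective _ DFunLike.coe_injective
    have hcard : 16 ≤ Nat.card (Additive E) := by
      rw [Nat.card_congr (Additive.toMul (α := E)), hE.card]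
      calc 16 = 2 ^ 4 := by norm_num
        _ ≤ 2 ^ d := Nat.pow_le_pow_right (by norm_num) (by omega)
    have h2 : TwoTrans R (Additive E) := by
      intro x y x' y' hx hy hxy hx' hy' hxy'
      obtain ⟨h, h1, h2⟩ := hE.twoTrans x y x' y' hx hy hxy hx' hy' hxy'
      exact ⟨⟨_, h, rfl⟩, h1, h2⟩
    refine false_of_threeFix (H := R) hcard h2 ?_
    rintro ⟨_, h, rfl⟩ ⟨k, hk⟩ x y hx hy hxy hgx hgy
    haveI : Fact (Nat.Prime 3) := ⟨Nat.prime_three⟩
    obtain ⟨m, hm, hm3⟩ := exists_prime_part 3 h
    have hne : ∀ z : Additive E, z ≠ 0 → (z.toMul : H) ≠ 1 := fun z hz hh => hz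
      (congrArg Additive.ofMul (show z.toMul = (1 : E) from Subtype.ext hh))
    have hcomm : ∀ z : Additive E,
        (⟨MulAut.conjNormal h, h, rfl⟩ : R) • z = z → Commute h (z.toMul : H) := fun z hz => by
      have : h * (z.toMul : H) * h⁻¹ = z.toMul :=
        congrArg (fun w : Additive E => (w.toMul : H)) hz
      show h * (z.toMul : H) = z.toMul * h
      calc h * (z.toMul : H) = h * z.toMul * h⁻¹ * h := by group
        _ = z.toMul * h := by rw [this]
    by_cases hall : ∀ e ∈ E, h ^ m * e = e * h ^ m
    · have h1 : (⟨MulAut.conjNormal h, h, rfl⟩ : R) ^ m = 1 := by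
        refine Subtype.ext ?_
        rw [SubgroupClass.coe_pow, OneMemClass.coe_one, ← map_pow]
        refine MulEquiv.ext fun e => Subtype.ext ?_
        rw [MulAut.conjNormal_apply, hall e e.2, mul_inv_cancel_right]
        rfl
      have hco : Nat.Coprime (3 ^ k) m :=
        Nat.Coprime.pow_left _ ((Nat.Prime.coprime_iff_not_dvd Nat.prime_three).2 hm)
      rw [← orderOf_eq_one_iff]
      exact Nat.eq_one_of_dvd_coprimes hco (orderOf_dvd_of_pow_eq_one hk)
        (orderOf_dvd_of_pow_eq_one h1)
    · push Not at hall
      obtain ⟨e, he, hne'⟩ := hall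
      obtain ⟨N, F, f, hF, hfo, hf3, hfd⟩ := hE.reduce hd hm3 x.toMul.2 y.toMul.2 (hne x hx)
        (hne y hy) (fun hh => hxy (Additive.toMul.injective (Subtype.ext hh)))
        ((hcomm x hgx).pow_left m).eq ((hcomm y hgy).pow_left m).eq he hne'
      exact (ih f hfd N F hF hfo hf3).elim

end Cfsg.Agent.Pyr45
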