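import Cfsg.Agent.Pyr45.BaseAbel
import Cfsg.Agent.Pyr45.BaseNonab
import Cfsg.Agent.Pyr45.Descent

/-!
# No odd configuration
-/

set_option autoImplicit false

namespace Cfsg.Agent.Pyr45

universe u

theorem dec_basis : ((1, 0, 0) : Vec) ≠ 0 ∧ ((0, 1, 0) : Vec) ≠ 0 ∧
    ((1, 0, 0) : Vec) ≠ (0, 1, 0) :=
  ⟨by decide +kernel, by decide +kernel, by decide +kernel⟩

theorem Ctx.false_of {H : Type*} [Group H] [Finite H] {E P : Subgroup H} {b : Vec → H}
    (C : Ctx E P b) : False := by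
  by_cases h : ∀ x ∈ P, ∀ y ∈ P, x * y = y * x
  · exact C.abel_false h
  · exact C.nonab_false h

/-- **No configuration in dimension three.** -/
theorem base_false {K : Type u} [Group K] [Finite K] {E : Subgroup K} (hE : IsCfg E 3) : False := by
  classical
  haveI : Fact (Nat.Prime 2) := ⟨Nat.prime_two⟩
  haveI := hE.normal
  letI := commOf hE.elem
  letI := conjAdd E
  letI : Module (ZMod 2) (Additive E) := AddCommGroup.zmodModule (two_nsmul_zero hE.elem)
  haveI : Finite (Additive E) := Finite.of_equiv _ (Additive.ofMul (α := E))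
  have hcardV : Nat.card (Additive E) = 8 := by
    rw [Nat.card_congr (Additive.toMul (α := E)), hE.card]; norm_num
  obtain ⟨ι, hι, hr, ht⟩ := exists_frame (H := K) (V := Additive E) hcardV.ge hE.twoTrans
  have hιb : Function.Bijective ι := (Nat.bijective_iff_injective_and_card ι).2 ⟨hι, by
    rw [hcardV]; simp⟩
  set L := Subgroup.centralizer (E : Set K) with hL
  obtain ⟨P⟩ : Nonempty (Sylow 2 L) := inferInstance
  set P' := (P : Subgroup L).map L.subtype with hP'
  set N := Subgroup.normalizer (P' : Set K) with hN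
  have hEL : E ≤ L := fun x hx => Subgroup.mem_centralizer_iff.2 fun y hy => by
    haveI := hE.elem.1
    exact congrArg Subtype.val (mul_comm' (⟨y, hy⟩ : E) ⟨x, hx⟩)
  have hcomE : ∀ l ∈ L, ∀ e ∈ E, l * e = e * l := fun l hl e he =>
    (Subgroup.mem_centralizer_iff.1 hl e he).symm
  have hEp : IsPGroup 2 (E.subgroupOf L) := fun x =>
    ⟨1, Subtype.ext (Subtype.ext (by simpa using hE.elem.2 _ x.2))⟩
  obtain ⟨Q, hQ⟩ := hEp.exists_le_sylow
  obtain ⟨c, hc⟩ := MulAction.exists_smul_eq L Q P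
  have hEP : ∀ e ∈ E, e ∈ P' := by
    intro e he
    refine ⟨⟨e, hEL he⟩, ?_, rfl⟩
    rw [← hc, Sylow.coe_subgroup_smul]
    refine ⟨⟨e, hEL he⟩, hQ he, Subtype.ext ?_⟩
    show (c : K) * e * (c : K)⁻¹ = e
    rw [hcomE c c.2 e he, mul_inv_cancel_right]
  have hPL : P' ≤ L := Subgroup.map_subtype_le _
  have hEN : ∀ e ∈ E, e ∈ N := by
    intro e he
    rw [hN, Subgroup.mem_normalizer_iff]
    intro q
    constructor
    · intro hq; rwa [← hcomE q (hPL hq) e he, mul_inv_cancel_right]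
    · intro hq
      have h1 : e * (e * q * e⁻¹) = e * q * e⁻¹ * e := (hcomE _ (hPL hq) e he).symm
      have h2 : e * q * e⁻¹ = q := by
        calc e * q * e⁻¹ = e⁻¹ * (e * (e * q * e⁻¹)) := by group
          _ = e⁻¹ * (e * q * e⁻¹ * e) := by rw [h1]
          _ = q := by group
      rwa [h2] at hq
  haveI hLn : L.Normal := ⟨fun l hl g => Subgroup.mem_centralizer_iff.2 fun e he => by
    have h1 := hcomE l hl (g⁻¹ * e * g) (by simpa using hE.normal.conj_mem e he g⁻¹)
    calc e * (g * l * g⁻¹) = g * ((g⁻¹ * e * g) * l) * g⁻¹ := by group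
      _ = g * (l * (g⁻¹ * e * g)) * g⁻¹ := by rw [h1]
      _ = g * l * g⁻¹ * e := by group⟩
  have hfr : ∀ h : K, ∃ n ∈ N, ∀ e ∈ E, n * e * n⁻¹ = h * e * h⁻¹ := by
    intro h
    have hh : h ∈ N ⊔ L := by rw [hN, hP', Sylow.normalizer_sup_eq_top P]; trivial
    obtain ⟨n, hn, l, hl, rfl⟩ := Subgroup.mem_sup_of_normal_right.1 hh
    refine ⟨n, hn, fun e he => ?_⟩
    calc n * e * n⁻¹ = n * (l * e * l⁻¹) * n⁻¹ := by rw [hcomE l hl e he, mul_inv_cancel_right]
      _ = n * l * e * (n * l)⁻¹ := by group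
  let B : Vec → K := fun x => ((ι x).toMul : E)
  have hBE : ∀ x, B x ∈ E := fun x => ((ι x).toMul : E).2
  let b : Vec → N := fun x => ⟨B x, hEN _ (hBE x)⟩
  have hBinj : Function.Injective B := fun x y h =>
    hι (Additive.toMul.injective (Subtype.ext h))
  have hBsurj : ∀ e ∈ E, ∃ x, B x = e := fun e he => by
    obtain ⟨x, hx⟩ := hιb.2 (Additive.ofMul (⟨e, he⟩ : E))
    exact ⟨x, by show (((ι x).toMul : E) : K) = e; rw [hx]; rfl⟩
  have hreal : ∀ m, Realizes K ι m → ∃ n : N, Rz b n m := by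
    intro m ⟨h, hh⟩
    obtain ⟨n, hn, hne⟩ := hfr h
    refine ⟨⟨n, hn⟩, fun x => Subtype.ext ?_⟩
    show n * B x * n⁻¹ = B (app m x)
    rw [hne _ (hBE x)]
    exact congrArg (fun z : Additive E => ((z.toMul : E) : K)) (hh x)
  refine Ctx.false_of (E := E.subgroupOf N) (P := P'.subgroupOf N) (b := b) {
    b_add := fun x y => Subtype.ext (by
      show (((ι (x + y)).toMul : E) : K) = B x * B y
      rw [map_add]; rfl)
    b_inj := fun x y h => hBinj (congrArg (Subtype.val : N → K) h)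
    b_range := fun e => by
      rw [Subgroup.mem_subgroupOf]
      exact ⟨fun he => (hBsurj _ he).imp fun x hx => Subtype.ext hx,
        fun ⟨x, hx⟩ => hx ▸ hBE x⟩
    invol := fun x hx => hE.invol _ (congrArg Subtype.val hx)
    P_normal := ⟨fun x hx g => (Subgroup.mem_normalizer_iff.1 g.2 _).1 hx⟩
    P_pg := by
      intro x
      obtain ⟨y, hy, hxy⟩ := x.2
      obtain ⟨k, hk⟩ := P.isPGroup' ⟨y, hy⟩
      refine ⟨k, Subtype.ext (Subtype.ext ?_)⟩
      show ((x : N) : K) ^ 2 ^ k = 1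
      rw [show ((x : N) : K) = (y : K) from hxy.symm]
      exact congrArg (fun z : (P : Subgroup L) => ((z : L) : K)) hk
    E_le := fun x hx => hEP _ hx
    P_cent := fun x hx y => Subtype.ext (hcomE _ (hPL hx) _ (hBE y))
    two_el := ?_
    r_real := hreal _ hr
    t_real := hreal _ ht
    two_trans := ?_ }
  · rintro ⟨h, hN'⟩ hh ⟨k, hk⟩
    have hhL : h ∈ L := Subgroup.mem_centralizer_iff.2 fun e he => by
      obtain ⟨x, rfl⟩ := hBsurj e he
      exact (congrArg Subtype.val (hh x).eq).symm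
    have hp : IsPGroup 2 (Subgroup.zpowers (⟨h, hhL⟩ : L)) := by
      rintro ⟨y, hy⟩
      obtain ⟨i, rfl⟩ := Subgroup.mem_zpowers_iff.1 hy
      refine ⟨k, Subtype.ext ?_⟩
      rw [SubgroupClass.coe_pow, OneMemClass.coe_one, ← zpow_natCast, ← zpow_mul, mul_comm,
        zpow_mul, zpow_natCast,
        show (⟨h, hhL⟩ : L) ^ 2 ^ k = 1 from Subtype.ext (congrArg (Subtype.val : N → K) hk), one_zpow]
    have hnorm : (⟨h, hhL⟩ : L) ∈ Subgroup.normalizer (P : Set L) := by
      show (⟨h, hhL⟩ : L) ∈ Subgroup.normalizer ((P : Subgroup L) : Set L)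
      rw [Subgroup.mem_normalizer_iff]
      intro q
      have := Subgroup.mem_normalizer_iff.1 hN' (q : K)
      simp only [hP', Subgroup.mem_map, Subgroup.coe_subtype] at this
      constructor
      · intro hq
        obtain ⟨z, hz, hze⟩ := this.1 ⟨q, hq, rfl⟩
        rwa [show z = ⟨h, hhL⟩ * q * (⟨h, hhL⟩ : L)⁻¹ from Subtype.ext hze] at hz
      · intro hq
        obtain ⟨z, hz, hze⟩ := this.2 ⟨_, hq, rfl⟩
        rwa [show z = q from Subtype.ext hze] at hz
    have hmem : (⟨h, hhL⟩ : L) ∈ (P : Subgroup L) := by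
      have hm : (⟨h, hhL⟩ : L) ∈ Subgroup.zpowers (⟨h, hhL⟩ : L) ⊓
          Subgroup.normalizer (P : Set L) :=
        ⟨Subgroup.mem_zpowers _, hnorm⟩
      rw [hp.inf_normalizer_sylow P] at hm
      exact hm.2
    exact ⟨_, hmem, rfl⟩
  · intro x y hx hy hxy
    have hne : ∀ u : Vec, u ≠ 0 → B u ≠ 1 := fun u hu h => hu (hι (Additive.toMul.injective
      (Subtype.ext (h.trans (by rw [map_zero]; rfl)))))
    obtain ⟨h, h1, h2⟩ := hE.two_trans _ _ _ _ (hBE x) (hBE y) (hBE (1, 0, 0)) (hBE (0, 1, 0))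
      (hne x hx) (hne y hy) (hne _ dec_basis.1) (hne _ dec_basis.2.1)
      (fun h => hxy (hBinj h)) (fun h => dec_basis.2.2 (hBinj h))
    obtain ⟨n, hn, hne'⟩ := hfr h
    exact ⟨⟨n, hn⟩, Subtype.ext ((hne' _ (hBE x)).trans h1), Subtype.ext ((hne' _ (hBE y)).trans h2)⟩

/-- **No odd configuration exists.** -/
theorem no_cfg {H : Type u} [Group H] [Finite H] {E : Subgroup H} {d : ℕ} (hE : IsCfg E d)
    (hd : Odd d) (hd3 : 3 ≤ d) : False :=
  no_cfg_of_base (fun _ _ _ _ h => base_false h) d H E hE hd hd3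

end Cfsg.Agent.Pyr45
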