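import Cfsg.Agent.Pyr45.BaseCtx

/-!
# No configuration in dimension three with an abelian 2-kernel
-/

set_option autoImplicit false

namespace Cfsg.Agent.Pyr45

variable {H : Type*} [Group H] [Finite H] {E P : Subgroup H} {b : Vec → H}

omit [Finite H] in
theorem int_dvd_two_pow {α k N : ℕ} (hk : k = 2 ^ N) :
    ∃ A B : ℤ, (2 : ℤ) = A * ((α * α + 1 : ℕ) : ℤ) + B * (k : ℤ) := by
  subst hk
  have h1 : Nat.gcd (α * α + 1) (2 ^ N) ∣ 2 := by
    obtain ⟨r, -, hr⟩ := (Nat.dvd_prime_pow Nat.prime_two).1 (Nat.gcd_dvd_right (α * α + 1) (2 ^ N))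
    rw [hr]
    rcases Nat.lt_or_ge r 2 with h | h
    · interval_cases r <;> decide
    · exfalso
      have h4 : 4 ∣ α * α + 1 := (pow_dvd_pow 2 h).trans (hr ▸ Nat.gcd_dvd_left _ _)
      rw [Nat.dvd_iff_mod_eq_zero, Nat.add_mod, Nat.mul_mod] at h4
      have := Nat.mod_lt α (show 4 > 0 by norm_num)
      interval_cases hm : α % 4 <;> simp at h4
  obtain ⟨c, hc⟩ := h1
  refine ⟨Nat.gcdA (α * α + 1) (2 ^ N) * c, Nat.gcdB (α * α + 1) (2 ^ N) * c, ?_⟩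
  have h := congrArg (fun n : ℕ => (n : ℤ)) hc
  have h2 := Nat.gcd_eq_gcd_ab (α * α + 1) (2 ^ N)
  push_cast at h h2 ⊢
  linear_combination h + (c : ℤ) * h2

theorem dec_fix_tr : ∀ w : Vec, app tr w = w → w.2.2 = 0 := by decide +kernel

theorem dec_fix_tT : ∀ w : Vec, app tT w = w → w.2.1 = 0 := by decide +kernel

theorem dec_span_S : ∀ w : Vec, w.2.2 = 0 → w ≠ 0 → w ≠ (1, 0, 0) → ∀ x : Vec,
    ∃ i l n : ZMod 2, x = i • (0, 0, 1) + (l • (1, 0, 0) + n • w) := by decide +kernel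

theorem dec_span_T : ∀ w : Vec, w.2.1 = 0 → w ≠ 0 → w ≠ (1, 0, 0) → ∀ x : Vec,
    ∃ i l n : ZMod 2, x = i • (0, 1, 0) + (l • (1, 0, 0) + n • w) := by decide +kernel

theorem dec_consts : Pyr45.mul gS gS = tr ∧ Pyr45.mul gT gT = tT :=
  ⟨by decide +kernel, by decide +kernel⟩

theorem dec_moves : app tr (1, 0, 0) = (1, 0, 0) ∧ app tT (1, 0, 0) = (1, 0, 0) ∧
    app tr (0, 0, 1) = (0, 0, 1) + (1, 0, 0) ∧ app tT (0, 1, 0) = (0, 1, 0) + (1, 0, 0) :=
  ⟨by decide +kernel, by decide +kernel, by decide +kernel, by decide +kernel⟩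

theorem dec_fix_both : ∀ w : Vec, app tr w = w → app tT w = w → w = 0 ∨ w = (1, 0, 0) := by
  decide +kernel

set_option synthInstance.maxSize 2000 in
set_option synthInstance.maxHeartbeats 200000 in
theorem dec_final : ∀ y₁ y₂ z : Vec, app tr y₁ = y₁ → y₁ ≠ 0 → y₁ ≠ (1, 0, 0) →
    app tT y₂ = y₂ → y₂ ≠ 0 → y₂ ≠ (1, 0, 0) → app tr z + z = y₁ + app tT y₁ →
    z + app tT z = app tr y₂ + y₂ →
    ∃ x : Vec, app (Pyr45.mul tr tT) x + (z + (app tT y₁ + y₂)) + x = 0 := by decide +kernel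

theorem dec_not_one : tr ≠ one ∧ tT ≠ one ∧ Pyr45.mul tr tT ≠ one :=
  ⟨by decide +kernel, by decide +kernel, by decide +kernel⟩

namespace Ctx

variable (C : Ctx E P b)
include C

omit [Finite H] in
theorem not_mem_E {h : H} {m : Mat} (hh : Rz b h m) (hm : m ≠ one) : h ∉ E := by
  intro hE
  apply hm
  obtain ⟨x, rfl⟩ := (C.b_range h).1 hE
  have h1 : Rz b (b x) one := Rz.of_commute fun y =>
    show b x * b y = b y * b x by rw [← C.b_add, ← C.b_add, add_comm]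
  have h2 : ∀ y, app m y = y := fun y => C.b_inj (by rw [← hh y, h1 y, app_one])
  have e1 := h2 (1, 0, 0)
  have e2 := h2 (0, 1, 0)
  have e3 := h2 (0, 0, 1)
  obtain ⟨m1, m2, m3⟩ := m
  simp [app] at e1 e2 e3
  subst e1; subst e2; subst e3
  rfl

variable (hcomm : ∀ x ∈ P, ∀ y ∈ P, x * y = y * x)
include hcomm

/-- Elements centralising `E` centralise `P`. -/
theorem cent_P {h : H} (hh : ∀ y, Commute h (b y)) {y : H} (hy : y ∈ P) : Commute h y := by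
  obtain ⟨m, hm, hk⟩ := exists_prime_part 2 h
  have hmP : h ^ m ∈ P := C.two_el _ (fun w => (hh w).pow_left m) hk
  obtain ⟨k, hk'⟩ := C.P_pg ⟨y, hy⟩
  have hk'' : y ^ 2 ^ k = 1 := congrArg Subtype.val hk'
  clear hk'
  induction k generalizing y with
  | zero => rw [pow_zero, pow_one] at hk''; subst hk''; exact Commute.one_right h
  | succ k ih =>
    have hy2 : y * y ∈ P := mul_mem hy hy
    have h1 : Commute h (y * y) := ih hy2 (by rw [← pow_two, ← pow_mul, ← pow_succ']; exact hk'')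
    have hcy : h * y * h⁻¹ ∈ P := C.P_normal.conj_mem y hy h
    set d := h * y * h⁻¹ * y⁻¹ with hd
    have hd2 : d ^ 2 = 1 := by
      rw [pow_two, hd]
      calc h * y * h⁻¹ * y⁻¹ * (h * y * h⁻¹ * y⁻¹)
          = h * y * h⁻¹ * (y⁻¹ * (h * y * h⁻¹)) * y⁻¹ := by group
        _ = h * y * h⁻¹ * (h * y * h⁻¹ * y⁻¹) * y⁻¹ := by
              rw [hcomm _ (inv_mem hy) _ hcy]
        _ = h * (y * y) * h⁻¹ * (y * y)⁻¹ := by group
        _ = 1 := by rw [h1.eq, mul_inv_cancel_right, mul_inv_cancel]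
    obtain ⟨w, hw⟩ := (C.b_range d).1 (C.invol d hd2)
    have hit : ∀ i : ℕ, h ^ i * y * (h ^ i)⁻¹ = d ^ i * y := by
      intro i
      induction i with
      | zero => simp
      | succ i ihi =>
        calc h ^ (i + 1) * y * (h ^ (i + 1))⁻¹ = h * (h ^ i * y * (h ^ i)⁻¹) * h⁻¹ := by group
          _ = h * d ^ i * h⁻¹ * (h * y * h⁻¹) := by rw [ihi]; group
          _ = d ^ i * (d * y) := by
              rw [show h * d ^ i = d ^ i * h from ((hw ▸ hh w).pow_right i).eq, hd]; group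
          _ = d ^ (i + 1) * y := by group
    have e := hit m
    rw [hcomm _ hmP _ hy, mul_inv_cancel_right] at e
    obtain ⟨i, hi⟩ : ∃ i, m = 2 * i + 1 := ⟨m / 2, by omega⟩
    rw [hi, pow_succ, pow_mul, hd2, one_pow, one_mul] at e
    have hd1 : d = 1 := mul_eq_right.1 e.symm
    rw [hd, mul_inv_eq_one, mul_inv_eq_iff_eq_mul] at hd1
    exact hd1

/-- Elements inducing the same matrix act alike on `P`. -/
theorem act_eq {h k : H} {m : Mat} (hh : Rz b h m) (hk : Rz b k m) {y : H} (hy : y ∈ P) :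
    h * y * h⁻¹ = k * y * k⁻¹ := by
  have e := (C.cent_P hcomm (hh.unique hk) hy).eq
  calc h * y * h⁻¹ = k * (k⁻¹ * h * y) * h⁻¹ := by group
    _ = k * (y * (k⁻¹ * h)) * h⁻¹ := by rw [e]
    _ = k * y * k⁻¹ := by group

/-- **The fixed-point lemma.** -/
theorem key {Q : Subgroup H} (hQP : Q ≤ P) (hQn : Q.Normal) {j : ℕ} (hj : 1 ≤ j)
    (hpowE : ∀ y ∈ Q, y ^ 2 ^ j ∈ E) (hker : ∀ y ∈ Q, y ^ 2 ^ j = 1 → ∃ w ∈ Q, w * w = y)
    (honto : ∀ x, ∃ y ∈ Q, y ^ 2 ^ j = b x)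
    {g s : H} {gm τ : Mat} (hg : Rz b g gm) (hgg : Pyr45.mul gm gm = τ) (hs : Rz b s τ)
    {a w : Vec} (hτa : app τ a = a + (1, 0, 0)) (hτe : app τ (1, 0, 0) = (1, 0, 0))
    (hgen : ∀ x : Vec, ∃ i l n : ZMod 2, x = i • a + (l • (1, 0, 0) + n • w))
    {k : H} (hk : k ∈ Q) (hks : Commute s k) (hkw : k ^ 2 ^ j = b w) : False := by
  have hgg' : Rz b (g * g) τ := (hg.mul hg).congr hgg
  set σ := g * g with hσ
  set F : Subgroup H := Q ⊓ Subgroup.centralizer {σ} with hF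
  have hFmem : ∀ y : H, y ∈ F ↔ y ∈ Q ∧ σ * y * σ⁻¹ = y := by
    intro y
    rw [hF, Subgroup.mem_inf, Subgroup.mem_centralizer_singleton_iff]
    refine and_congr Iff.rfl ?_
    rw [mul_inv_eq_iff_eq_mul]
    exact eq_comm
  obtain ⟨x, hx, hxa⟩ := honto a
  have cQ : ∀ u v : H, u ∈ Q → v ∈ Q → Commute u v := fun u v hu hv => hcomm u (hQP hu) v (hQP hv)
  set sx := σ * x * σ⁻¹ with hsx
  have hsxQ : sx ∈ Q := hQn.conj_mem x hx σ
  have hσσ : ∀ y ∈ P, σ * (σ * y * σ⁻¹) * σ⁻¹ = y := by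
    intro y hy
    have h2 : Rz b (σ * σ) (Pyr45.mul τ τ) := hgg'.mul hgg'
    have h1 : Rz b (σ * σ) one := fun v => by
      rw [app_one, h2 v, app_mul]
      obtain ⟨i, l, n, rfl⟩ := hgen v
      have hw : app τ w = w := C.b_inj (by
        rw [← hs, ← hkw, ← conj_pow, hks.eq, mul_inv_cancel_right])
      have hlin : ∀ u v : Vec, app τ (u + v) = app τ u + app τ v := fun u v => by
        simp only [app, Prod.fst_add, Prod.snd_add, add_smul]; abel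
      have hsm : ∀ (c : ZMod 2) (u : Vec), app τ (c • u) = c • app τ u := fun c u => by
        simp [app, smul_add, smul_smul]
      simp only [hlin, hsm, hτa, hτe, hw, smul_add]
      congr 2
      rw [add_assoc, ← smul_add, add_self, smul_zero, add_zero]
    calc σ * (σ * y * σ⁻¹) * σ⁻¹ = σ * σ * y * (σ * σ)⁻¹ := by group
      _ = y := by rw [(C.cent_P hcomm h1.commute hy).eq, mul_inv_cancel_right]
  have hxsx : x * sx ∈ F := (hFmem _).2 ⟨mul_mem hx hsxQ, by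
    calc σ * (x * sx) * σ⁻¹ = σ * x * σ⁻¹ * (σ * sx * σ⁻¹) := by group
      _ = sx * x := by rw [← hsx, hσσ x (hQP hx)]
      _ = x * sx := (cQ _ _ hsxQ hx).eq⟩
  have hkF : k ∈ F := (hFmem _).2 ⟨hk, by
    rw [C.act_eq hcomm hgg' hs (hQP hk), hks.eq, mul_inv_cancel_right]⟩
  let M : H → Prop := fun y => ∃ (i : ℕ) (f : H), f ∈ F ∧ y = x ^ i * f
  have hMQ : ∀ y, M y → y ∈ Q := by
    rintro _ ⟨i, f, hf, rfl⟩; exact mul_mem (pow_mem hx i) ((hFmem f).1 hf).1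
  have hMmul : ∀ y z, M y → M z → M (y * z) := by
    rintro _ _ ⟨i, f, hf, rfl⟩ ⟨i', f', hf', rfl⟩
    refine ⟨i + i', f * f', mul_mem hf hf', ?_⟩
    calc x ^ i * f * (x ^ i' * f') = x ^ i * (f * x ^ i') * f' := by group
      _ = x ^ i * (x ^ i' * f) * f' := by rw [(cQ _ _ ((hFmem f).1 hf).1 (pow_mem hx i')).eq]
      _ = x ^ (i + i') * (f * f') := by rw [pow_add]; group
  have hM1 : M 1 := ⟨0, 1, one_mem _, by simp⟩
  have hMpow : ∀ y, M y → ∀ i : ℕ, M (y ^ i) := fun y hy i => by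
    induction i with
    | zero => rwa [pow_zero]
    | succ i ih => rw [pow_succ]; exact hMmul _ _ ih hy
  have hMtop : ∀ v : Vec, ∃ m, M m ∧ m ^ 2 ^ j = b v := by
    have hpe : (x * sx) ^ 2 ^ j = b (1, 0, 0) := by
      rw [(cQ _ _ hx hsxQ).mul_pow, hsx, conj_pow, hxa, hgg' a, hτa, ← C.b_add, ← add_assoc,
        add_self, zero_add]
    have base : ∀ u : Vec, (u = a ∨ u = (1, 0, 0) ∨ u = w) → ∀ c : ZMod 2,
        ∃ m, M m ∧ m ^ 2 ^ j = b (c • u) := by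
      intro u hu c
      rcases two_cases c with rfl | rfl
      · exact ⟨1, hM1, by rw [zero_smul, C.b_zero, one_pow]⟩
      · rw [one_smul]
        rcases hu with rfl | rfl | rfl
        · exact ⟨x, ⟨1, 1, one_mem _, by simp⟩, hxa⟩
        · exact ⟨x * sx, ⟨0, _, hxsx, by simp⟩, hpe⟩
        · exact ⟨k, ⟨0, _, hkF, by simp⟩, hkw⟩
    intro v
    obtain ⟨i, l, n, rfl⟩ := hgen v
    obtain ⟨m1, hm1, e1⟩ := base a (Or.inl rfl) i
    obtain ⟨m2, hm2, e2⟩ := base (1, 0, 0) (Or.inr (Or.inl rfl)) l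
    obtain ⟨m3, hm3, e3⟩ := base w (Or.inr (Or.inr rfl)) n
    refine ⟨m1 * (m2 * m3), hMmul _ _ hm1 (hMmul _ _ hm2 hm3), ?_⟩
    rw [(cQ _ _ (hMQ _ hm1) (mul_mem (hMQ _ hm2) (hMQ _ hm3))).mul_pow,
      (cQ _ _ (hMQ _ hm2) (hMQ _ hm3)).mul_pow, e1, e2, e3, ← C.b_add, ← C.b_add]
  have hsplit : ∀ i : ℕ, ∀ y ∈ Q, ∃ m u, M m ∧ u ∈ Q ∧ y = m * u ^ 2 ^ i := by
    intro i
    induction i with
    | zero => exact fun y hy => ⟨1, y, hM1, hy, by simp⟩
    | succ i ih =>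
      intro y hy
      obtain ⟨m, u, hm, hu, rfl⟩ := ih y hy
      obtain ⟨m', hm', hpm⟩ : ∃ m', M m' ∧ (m'⁻¹ * u) ^ 2 ^ j = 1 := by
        obtain ⟨v, hv⟩ := (C.b_range _).1 (hpowE u hu)
        obtain ⟨m', hm', e⟩ := hMtop v
        exact ⟨m', hm', by
          rw [(cQ _ _ (inv_mem (hMQ _ hm')) hu).mul_pow, inv_pow, e, hv, inv_mul_cancel]⟩
      obtain ⟨u', hu', e⟩ := hker _ (mul_mem (inv_mem (hMQ _ hm')) hu) hpm
      refine ⟨m * m' ^ 2 ^ i, u', hMmul _ _ hm (hMpow _ hm' _), hu', ?_⟩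
      have : u = m' * (u' * u') := by rw [e, mul_inv_cancel_left]
      rw [this, (cQ _ _ (hMQ _ hm') (mul_mem hu' hu')).mul_pow, ← pow_two, ← pow_mul, ← pow_succ']
      group
  obtain ⟨N, hN⟩ : ∃ N, Nat.card P = 2 ^ N := (IsPGroup.iff_card (p := 2)).1 C.P_pg
  have hexp : ∀ y ∈ P, y ^ 2 ^ N = 1 := fun y hy => by
    rw [← hN]; exact congrArg Subtype.val (pow_card_eq_one' (x := (⟨y, hy⟩ : P)))
  obtain ⟨m, u, ⟨α, f, hf, hm⟩, hu, he⟩ := hsplit N _ (hQn.conj_mem x hx g)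
  rw [hexp u (hQP hu), mul_one, hm] at he
  have hf' := (hFmem f).1 hf
  have hgf : g * f * g⁻¹ ∈ F := (hFmem _).2 ⟨hQn.conj_mem f hf'.1 g, by
    calc σ * (g * f * g⁻¹) * σ⁻¹ = g * (σ * f * σ⁻¹) * g⁻¹ := by rw [hσ]; group
      _ = g * f * g⁻¹ := by rw [hf'.2]⟩
  have hsx2 : sx = x ^ (α * α) * (f ^ α * (g * f * g⁻¹)) := by
    calc sx = g * (g * x * g⁻¹) * g⁻¹ := by rw [hsx, hσ]; group
      _ = (g * x * g⁻¹) ^ α * (g * f * g⁻¹) := by
          rw [conj_pow]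
          conv_lhs => rw [he]
          group
      _ = x ^ (α * α) * (f ^ α * (g * f * g⁻¹)) := by
          rw [he, (cQ _ _ (pow_mem hx α) hf'.1).mul_pow, ← pow_mul]; group
  set f2 := f ^ α * (g * f * g⁻¹) with hf2
  have hf2F : f2 ∈ F := mul_mem (pow_mem hf α) hgf
  have hxp : x ^ (α * α + 1) ∈ F := by
    have : x ^ (α * α + 1) = x * sx * f2⁻¹ := by rw [hsx2, pow_succ']; group
    rw [this]; exact mul_mem hxsx (inv_mem hf2F)
  obtain ⟨A, B, hAB⟩ := int_dvd_two_pow (α := α) (rfl : 2 ^ N = 2 ^ N)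
  have hx2 : x * x ∈ F := by
    have h1 : x ^ (2 : ℤ) ∈ F := by
      rw [hAB, zpow_add, mul_comm A, mul_comm B, zpow_mul, zpow_mul, zpow_natCast, zpow_natCast,
        hexp x (hQP hx), one_zpow, mul_one]
      exact zpow_mem hxp A
    rwa [zpow_two] at h1
  have hsxsx : sx * sx = x * x := by
    rw [hsx]
    calc σ * x * σ⁻¹ * (σ * x * σ⁻¹) = σ * (x * x) * σ⁻¹ := by group
      _ = x * x := ((hFmem _).1 hx2).2
  have hinv : (sx * x⁻¹) ^ 2 = 1 := by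
    rw [(cQ _ _ hsxQ (inv_mem hx)).mul_pow, pow_two, pow_two, hsxsx, ← mul_inv_rev, mul_inv_cancel]
  obtain ⟨v, hv⟩ := (C.b_range _).1 (C.invol _ hinv)
  have h0 : (sx * x⁻¹) ^ 2 ^ j = 1 := hv ▸ C.b_pow_two_pow v hj
  rw [(cQ _ _ hsxQ (inv_mem hx)).mul_pow, inv_pow, mul_inv_eq_one, hsx, conj_pow, hxa,
    hgg' a] at h0
  have h3 := C.b_inj h0
  rw [hτa] at h3
  exact absurd (left_eq_add.1 h3.symm) (by simp)

end Ctx


/-- The squares in `Q`. -/
def sqSub {Q : Subgroup H} (hc : ∀ x ∈ Q, ∀ y ∈ Q, x * y = y * x) : Subgroup H where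
  carrier := {y | ∃ w ∈ Q, w * w = y}
  one_mem' := ⟨1, one_mem _, one_mul 1⟩
  mul_mem' := by
    rintro _ _ ⟨v, hv, rfl⟩ ⟨w, hw, rfl⟩
    refine ⟨v * w, mul_mem hv hw, ?_⟩
    calc v * w * (v * w) = v * (w * v) * w := by group
      _ = v * (v * w) * w := by rw [hc w hw v hv]
      _ = v * v * (w * w) := by group
  inv_mem' := by
    rintro _ ⟨v, hv, rfl⟩
    exact ⟨v⁻¹, inv_mem hv, by group⟩

namespace Ctx

variable (C : Ctx E P b) (hcomm : ∀ x ∈ P, ∀ y ∈ P, x * y = y * x)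
include C hcomm

/-- **The descent through the levels of `P`.** -/
theorem no_level : ∀ (j : ℕ) (Q : Subgroup H), Q ≤ P → Q.Normal →
    (∀ y ∈ Q, y ^ 2 ^ j ∈ E) → (∀ x, ∃ y ∈ Q, y ^ 2 ^ j = b x) →
    (∀ y ∈ Q, y ^ 2 ^ j = 1 → ∃ w ∈ Q, w * w = y) →
    ∀ s t : H, Rz b s tr → Rz b t tT → s * s ∈ Q → t * t ∈ Q → s * t * s⁻¹ * t⁻¹ ∈ Q → False := by
  intro j
  induction j with
  | zero =>
    intro Q _ _ hpow _ _ s t hs ht hsq htq hzq
    have hE : ∀ y ∈ Q, ∃ v, b v = y := fun y hy =>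
      (C.b_range y).1 (by have := hpow y hy; rwa [pow_zero, pow_one] at this)
    obtain ⟨y₁, h1⟩ := hE _ hsq
    obtain ⟨y₂, h2⟩ := hE _ htq
    obtain ⟨z, h3⟩ := hE _ hzq
    have f1 : app tr y₁ = y₁ := C.b_inj (by rw [← hs, h1]; group)
    have f2 : app tT y₂ = y₂ := C.b_inj (by rw [← ht, h2]; group)
    have noinv : ∀ (h : H) (m : Mat) (v : Vec), Rz b h m → m ≠ one → b v = h * h →
        ∀ x, app m x + v + x ≠ 0 := by
      intro h m v hh hm hv x hx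
      have hinv : h * b x ∈ E := C.invol _ (by
        calc (h * b x) ^ 2 = h * b x * h⁻¹ * (h * h) * b x := by rw [pow_two]; group
          _ = 1 := by rw [hh x, ← hv, ← C.b_add, ← C.b_add, hx, C.b_zero])
      refine C.not_mem_E hh hm ?_
      rw [show h = h * b x * (b x)⁻¹ by group]
      exact mul_mem hinv (inv_mem (C.b_mem x))
    have n1 : y₁ ≠ 0 := fun e => noinv s tr y₁ hs dec_not_one.1 h1 0 (by subst e; decide)
    have n1' : y₁ ≠ (1, 0, 0) := fun e => noinv s tr y₁ hs dec_not_one.1 h1 (0, 0, 1)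
      (by subst e; decide)
    have n2 : y₂ ≠ 0 := fun e => noinv t tT y₂ ht dec_not_one.2.1 h2 0 (by subst e; decide)
    have n2' : y₂ ≠ (1, 0, 0) := fun e => noinv t tT y₂ ht dec_not_one.2.1 h2 (0, 1, 0)
      (by subst e; decide)
    have ty : t * (s * s) * t⁻¹ = b (app tT y₁) := by rw [← h1, ht]
    have sy : s * (t * t) * s⁻¹ = b (app tr y₂) := by rw [← h2, hs]
    have e1 : app tr z + z = y₁ + app tT y₁ := C.b_inj (by
      calc b (app tr z + z) = s * b z * s⁻¹ * b z := by rw [C.b_add, hs]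
        _ = s * s * (t * (s * s) * t⁻¹)⁻¹ := by rw [h3]; group
        _ = b (y₁ + app tT y₁) := by rw [ty, C.b_inv, ← h1, C.b_add])
    have e2 : z + app tT z = app tr y₂ + y₂ := C.b_inj (by
      calc b (z + app tT z) = b z * (t * b z * t⁻¹) := by rw [C.b_add, ht]
        _ = s * (t * t) * s⁻¹ * (t * t)⁻¹ := by rw [h3]; group
        _ = b (app tr y₂ + y₂) := by rw [sy, ← h2, C.b_inv, C.b_add])
    obtain ⟨x, hx⟩ := dec_final y₁ y₂ z f1 n1 n1' f2 n2 n2' e1 e2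
    refine noinv (s * t) _ (z + (app tT y₁ + y₂)) (hs.mul ht) dec_not_one.2.2 ?_ x hx
    rw [C.b_add, C.b_add, ← ty, h2, h3]
    group
  | succ j ih =>
    intro Q hQP hQn hpow honto hker s t hs ht hsq htq hzq
    obtain ⟨g, hg⟩ := C.exists_gS
    obtain ⟨g', hg'⟩ := C.exists_gT
    have hcQ : ∀ u ∈ Q, ∀ v ∈ Q, u * v = v * u := fun u hu v hv => hcomm u (hQP hu) v (hQP hv)
    set n := 2 ^ (j + 1) with hn
    have hmp : ∀ u v : H, u ∈ Q → v ∈ Q → (u * v) ^ n = u ^ n * v ^ n := fun u v hu hv =>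
      Commute.mul_pow (hcQ u hu v hv) n
    have cj : ∀ u ∈ Q, ∀ h : H, h * u * h⁻¹ ∈ Q := fun u hu h => hQn.conj_mem u hu h
    have par : ∀ y ∈ Q, ∃ v, y ^ n = b v := fun y hy => by
      obtain ⟨v, hv⟩ := (C.b_range _).1 (hpow y hy)
      exact ⟨v, hv.symm⟩
    have adjust : ∀ (h : H) (m τ : Mat) (a : Vec) (γ : H) (gm : Mat), Rz b h τ → Rz b γ gm →
        Pyr45.mul gm gm = τ → app τ a = a + (1, 0, 0) → app τ (1, 0, 0) = (1, 0, 0) →
        (∀ w, app τ w = w → w ≠ 0 → w ≠ (1, 0, 0) →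
          ∀ x : Vec, ∃ i l n : ZMod 2, x = i • a + (l • (1, 0, 0) + n • w)) →
        h * h ∈ Q → ∃ x ∈ Q, Rz b (h * x) τ ∧ h * x * (h * x) ∈ Q ∧
          (h * x * (h * x)) ^ n = 1 := by
      intro h m τ a γ gm hh hγ hgg hτa hτe hspan hhq
      obtain ⟨w, hw⟩ := par _ hhq
      have hfix : app τ w = w := C.b_inj (by rw [← hh, ← hw, ← conj_pow]; group)
      by_cases hw0 : w = 0
      · exact ⟨1, one_mem _, by rwa [mul_one], by rwa [mul_one],
          by rw [mul_one, hw, hw0, C.b_zero]⟩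
      by_cases hwe : w = (1, 0, 0)
      · obtain ⟨x, hx, hxa⟩ := honto a
        have hcx := cj x hx h
        have e : h * x * (h * x) = h * x * h⁻¹ * (h * h * x) := by group
        refine ⟨x, hx, fun v => ?_, ?_, ?_⟩
        · calc h * x * b v * (h * x)⁻¹ = h * (x * b v * x⁻¹) * h⁻¹ := by group
            _ = b (app τ v) := by
              rw [(C.P_cent x (hQP hx) v).eq, mul_inv_cancel_right, hh]
        · rw [e]; exact mul_mem hcx (mul_mem hhq hx)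
        · rw [e, hmp _ _ hcx (mul_mem hhq hx), hmp _ _ hhq hx, conj_pow, hxa, hh, hw, hwe, hτa,
            ← C.b_add, ← C.b_add, show a + (1, 0, 0) + ((1, 0, 0) + a) = (0 : Vec) from ?_, C.b_zero]
          rw [add_comm ((1, 0, 0) : Vec) a, add_self]
      · exact absurd (C.key hcomm hQP hQn (by omega) hpow hker honto hγ hgg hh hτa hτe
          (hspan w hfix hw0 hwe) hhq (show h * (h * h) = h * h * h by group) hw) id
    obtain ⟨xs, hxs, hs', hsq', hs0⟩ := adjust s tr tr (0, 0, 1) g gS hs hg dec_consts.1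
      dec_moves.2.2.1 dec_moves.1 (fun w h1 => dec_span_S w (dec_fix_tr w h1)) hsq
    obtain ⟨xt, hxt, ht', htq', ht0⟩ := adjust t tT tT (0, 1, 0) g' gT ht hg' dec_consts.2
      dec_moves.2.2.2 dec_moves.2.1 (fun w h1 => dec_span_T w (dec_fix_tT w h1)) htq
    have hzq' : s * xs * (t * xt) * (s * xs)⁻¹ * (t * xt)⁻¹ ∈ Q := by
      rw [show s * xs * (t * xt) * (s * xs)⁻¹ * (t * xt)⁻¹ =
        s * xs * s⁻¹ * (s * t * s⁻¹ * t⁻¹) * (t * (s * xt * s⁻¹) * t⁻¹) *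
          (t * (s * xs⁻¹ * s⁻¹) * t⁻¹) * (t * xt⁻¹ * t⁻¹) by group]
      exact mul_mem (mul_mem (mul_mem (mul_mem (cj _ hxs s) hzq) (cj _ (cj _ hxt s) t))
        (cj _ (cj _ (inv_mem hxs) s) t)) (cj _ (inv_mem hxt) t)
    generalize s * xs = s' at hs' hsq' hs0 hzq'
    generalize t * xt = t' at ht' htq' ht0 hzq'
    set z := s' * t' * s'⁻¹ * t'⁻¹ with hz
    obtain ⟨v, hv⟩ := par z hzq'
    have f1 : app tr v = v := by
      have he : s' * z * s'⁻¹ * z = s' * s' * (t' * (s' * s')⁻¹ * t'⁻¹) := by rw [hz]; group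
      have := congrArg (· ^ n) he
      simp only [hmp _ _ (cj z hzq' s') hzq', hmp _ _ hsq' (cj _ (inv_mem hsq') t'), conj_pow,
        inv_pow, hs0, hv, hs' v, inv_one, mul_one, mul_inv_cancel, ← C.b_add] at this
      exact add_right_cancel ((C.b_eq_one this).trans (add_self v).symm)
    have f2 : app tT v = v := by
      have he : z * (t' * z * t'⁻¹) = s' * (t' * t') * s'⁻¹ * (t' * t')⁻¹ := by rw [hz]; group
      have := congrArg (· ^ n) he
      simp only [hmp _ _ hzq' (cj z hzq' t'), hmp _ _ (cj _ htq' s') (inv_mem htq'), conj_pow,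
        inv_pow, ht0, hv, ht' v, inv_one, mul_one, mul_inv_cancel, ← C.b_add] at this
      exact add_left_cancel ((C.b_eq_one this).trans (add_self v).symm)
    obtain ⟨x, hx, hxv⟩ : ∃ x ∈ Q, x ^ n = b (if v = 0 then 0 else (0, 0, 1)) := honto _
    have hcx := cj x hx t'
    have hsx := cj x hx s'
    have et : t' * x * (t' * x) = t' * x * t'⁻¹ * (t' * t' * x) := by group
    have ez : s' * (t' * x) * s'⁻¹ * (t' * x)⁻¹ = z * (t' * (s' * x * s'⁻¹ * x⁻¹) * t'⁻¹) := by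
      rw [hz]; group
    have htx : Rz b (t' * x) tT := fun u => by
      calc t' * x * b u * (t' * x)⁻¹ = t' * (x * b u * x⁻¹) * t'⁻¹ := by group
        _ = b (app tT u) := by rw [(C.P_cent x (hQP hx) u).eq, mul_inv_cancel_right, ht']
    refine ih (sqSub hcQ) ?_ ⟨?_⟩ ?_ ?_ ?_ s' (t' * x) hs' htx ?_ ?_ ?_
    · rintro _ ⟨w, hw, rfl⟩; exact hQP (mul_mem hw hw)
    · rintro _ ⟨w, hw, rfl⟩ h; exact ⟨h * w * h⁻¹, cj w hw h, by group⟩
    · rintro _ ⟨w, hw, rfl⟩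
      rw [← pow_two, ← pow_mul, ← pow_succ']; exact hpow w hw
    · intro u
      obtain ⟨y, hy, hyu⟩ := honto u
      exact ⟨y * y, ⟨y, hy, rfl⟩, by rw [← pow_two, ← pow_mul, ← pow_succ']; exact hyu⟩
    · rintro _ ⟨w, hw, rfl⟩ h1
      rw [← pow_two, ← pow_mul, ← pow_succ'] at h1
      obtain ⟨u, hu, rfl⟩ := hker w hw h1
      exact ⟨u * u, ⟨u, hu, rfl⟩, rfl⟩
    · exact hker _ hsq' hs0
    · refine hker _ (by rw [et]; exact mul_mem hcx (mul_mem htq' hx)) ?_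
      rw [et, hmp _ _ hcx (mul_mem htq' hx), hmp _ _ htq' hx, ht0, one_mul, conj_pow, hxv, ht',
        ← C.b_add]
      split_ifs <;> exact (congrArg b (by decide +kernel)).trans C.b_zero
    · have hd : s' * x * s'⁻¹ * x⁻¹ ∈ Q := mul_mem hsx (inv_mem hx)
      refine hker _ (by rw [ez]; exact mul_mem hzq' (cj _ hd t')) ?_
      rw [ez, hmp _ _ hzq' (cj _ hd t'), conj_pow, hmp _ _ hsx (inv_mem hx), conj_pow,
        inv_pow, hxv, hs', C.b_inv, ← C.b_add, ht', hv, ← C.b_add]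
      rcases dec_fix_both v f1 f2 with rfl | rfl
      · rw [if_pos rfl]; exact (congrArg b (by decide +kernel)).trans C.b_zero
      · rw [if_neg (by decide)]; exact (congrArg b (by decide +kernel)).trans C.b_zero

/-- **The abelian case.** -/
theorem abel_false : False := by
  classical
  obtain ⟨N, hN⟩ : ∃ N, Nat.card P = 2 ^ N := (IsPGroup.iff_card (p := 2)).1 C.P_pg
  have hex : ∃ i, ∀ y ∈ P, y ^ 2 ^ i = 1 := ⟨N, fun y hy => by
    rw [← hN]; exact congrArg Subtype.val (pow_card_eq_one' (x := (⟨y, hy⟩ : P)))⟩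
  have hpos : Nat.find hex ≠ 0 := by
    intro h0
    have h1 := Nat.find_spec hex (b (1, 0, 0)) (C.b_memP _)
    rw [h0, pow_zero, pow_one] at h1
    exact absurd (C.b_eq_one h1) (by decide)
  obtain ⟨j, hj⟩ : ∃ j, Nat.find hex = j + 1 := ⟨Nat.find hex - 1, by omega⟩
  have hall : ∀ y ∈ P, y ^ 2 ^ (j + 1) = 1 := hj ▸ Nat.find_spec hex
  obtain ⟨y₀, hy₀, hy₀1⟩ : ∃ y ∈ P, y ^ 2 ^ j ≠ 1 := by
    by_contra hc
    push Not at hc
    have := Nat.find_min' hex hc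
    omega
  have hpowE : ∀ y ∈ P, y ^ 2 ^ j ∈ E := fun y hy =>
    C.invol _ (by rw [← pow_mul, ← pow_succ]; exact hall y hy)
  have honto : ∀ x, ∃ y ∈ P, y ^ 2 ^ j = b x := by
    intro x
    by_cases hx : x = 0
    · exact ⟨1, one_mem _, by rw [one_pow, hx, C.b_zero]⟩
    obtain ⟨u, hu⟩ := (C.b_range _).1 (hpowE y₀ hy₀)
    have hu0 : u ≠ 0 := fun h => hy₀1 (by rw [← hu, h, C.b_zero])
    obtain ⟨x', hx'0, hx'⟩ : ∃ x', x' ≠ 0 ∧ x' ≠ x := by
      by_cases hxe : x = (1, 0, 0)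
      · exact ⟨(0, 1, 0), by decide, by rw [hxe]; decide⟩
      · exact ⟨(1, 0, 0), by decide, fun h => hxe h.symm⟩
    obtain ⟨u', hu'0, hu'⟩ : ∃ u', u' ≠ 0 ∧ u' ≠ u := by
      by_cases hxe : u = (1, 0, 0)
      · exact ⟨(0, 1, 0), by decide, by rw [hxe]; decide⟩
      · exact ⟨(1, 0, 0), by decide, fun h => hxe h.symm⟩
    obtain ⟨h, hh, -⟩ := C.two_trans x x' hx hx'0 (Ne.symm hx')
    obtain ⟨k, hk, -⟩ := C.two_trans u u' hu0 hu'0 (Ne.symm hu')
    refine ⟨(h⁻¹ * k) * y₀ * (h⁻¹ * k)⁻¹, C.P_normal.conj_mem _ hy₀ _, ?_⟩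
    rw [conj_pow, ← hu, show h⁻¹ * k * b u * (h⁻¹ * k)⁻¹ = h⁻¹ * (k * b u * k⁻¹) * h by group, hk,
      ← hh]
    group
  have hkl : ∀ i, i ≤ j → ∀ y ∈ P, y ^ 2 ^ i = 1 → ∃ w ∈ P, w * w = y := by
    intro i
    induction i with
    | zero => exact fun _ y _ h => ⟨1, one_mem _, by rw [pow_zero, pow_one] at h; rw [h, one_mul]⟩
    | succ i ih =>
      intro hi y hy h
      obtain ⟨v, hv⟩ := (C.b_range _).1
        (C.invol (y ^ 2 ^ i) (by rw [← pow_mul, ← pow_succ]; exact h))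
      obtain ⟨w, hw, hwv⟩ := honto v
      obtain ⟨l, rfl⟩ : ∃ l, j = i + 1 + l := ⟨j - (i + 1), by omega⟩
      have hw' : (w ^ 2 ^ l * w ^ 2 ^ l) ^ 2 ^ i = y ^ 2 ^ i := by
        rw [← pow_two, ← pow_mul, ← pow_mul, ← hv, ← hwv]
        congr 1
        ring
      have hm := mul_mem (pow_mem hw (2 ^ l)) (pow_mem hw (2 ^ l))
      obtain ⟨u, hu, huy⟩ := ih (by omega) (y * (w ^ 2 ^ l * w ^ 2 ^ l)⁻¹) (mul_mem hy (inv_mem hm))
        (by rw [Commute.mul_pow (hcomm _ hy _ (inv_mem hm)), inv_pow, hw', mul_inv_cancel])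
      refine ⟨u * w ^ 2 ^ l, mul_mem hu (pow_mem hw _), ?_⟩
      rw [eq_mul_inv_iff_mul_eq] at huy
      calc u * w ^ 2 ^ l * (u * w ^ 2 ^ l) = u * (w ^ 2 ^ l * u) * w ^ 2 ^ l := by group
        _ = u * (u * w ^ 2 ^ l) * w ^ 2 ^ l := by rw [hcomm _ (pow_mem hw _) _ hu]
        _ = y := by rw [← huy]; group
  obtain ⟨s, t, hs, ht, hsq, htq, hzq⟩ := C.exists_st
  exact C.no_level hcomm j P le_rfl C.P_normal hpowE honto (fun y hy => hkl j le_rfl y hy)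
    s t hs ht hsq htq hzq

end Ctx

end Cfsg.Agent.Pyr45
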