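import Cfsg.Agent.Pyr45.Frame
import Cfsg.Agent.Pyr45.Seven

/-!
# The context of the three-dimensional case
-/

set_option autoImplicit false

namespace Cfsg.Agent.Pyr45

variable {H : Type*} [Group H]

/-- `h` induces the matrix `m` on the coordinatised subgroup. -/
def Rz (b : Vec → H) (h : H) (m : Mat) : Prop := ∀ x, h * b x * h⁻¹ = b (app m x)

/-- Unitriangular matrices. -/
def U (a b c : ZMod 2) : Mat := ((1, 0, 0), (a, 1, 0), (b, c, 1))

def tT : Mat := ((1, 0, 0), (1, 1, 0), (0, 0, 1))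
def gS : Mat := ((1, 0, 0), (1, 1, 0), (0, 1, 1))
def gT : Mat := ((1, 0, 0), (0, 1, 1), (1, 0, 1))
def swapM : Mat := ((0, 1, 0), (1, 0, 0), (0, 0, 1))

/-- The standing hypotheses: `b` coordinatises `E`, which contains all involutions, `P` is the
normal 2-subgroup of the centraliser of `E` containing all its 2-elements. -/
structure Ctx (E P : Subgroup H) (b : Vec → H) : Prop where
  b_add : ∀ x y, b (x + y) = b x * b y
  b_inj : Function.Injective b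
  b_range : ∀ e, e ∈ E ↔ ∃ x, b x = e
  invol : ∀ x : H, x ^ 2 = 1 → x ∈ E
  P_normal : P.Normal
  P_pg : IsPGroup 2 P
  E_le : E ≤ P
  P_cent : ∀ x ∈ P, ∀ y, Commute x (b y)
  two_el : ∀ h : H, (∀ y, Commute h (b y)) → (∃ k, h ^ 2 ^ k = 1) → h ∈ P
  r_real : ∃ h, Rz b h r0
  t_real : ∃ h, Rz b h tr
  two_trans : ∀ x y : Vec, x ≠ 0 → y ≠ 0 → x ≠ y →
    ∃ h : H, h * b x * h⁻¹ = b (1, 0, 0) ∧ h * b y * h⁻¹ = b (0, 1, 0)

namespace Ctx

variable {E P : Subgroup H} {b : Vec → H} (C : Ctx E P b)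
include C

theorem b_zero : b 0 = 1 := by
  have h := C.b_add 0 0
  rw [add_zero] at h
  exact mul_eq_left.1 h.symm

theorem b_mem (x : Vec) : b x ∈ E := (C.b_range _).2 ⟨x, rfl⟩

theorem b_memP (x : Vec) : b x ∈ P := C.E_le (C.b_mem x)

theorem b_sq (x : Vec) : b x * b x = 1 := by rw [← C.b_add, add_self, C.b_zero]

theorem b_inv (x : Vec) : (b x)⁻¹ = b x := inv_eq_of_mul_eq_one_right (C.b_sq x)

theorem b_eq_one {x : Vec} (h : b x = 1) : x = 0 := C.b_inj (h.trans C.b_zero.symm)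

theorem b_pow_two_pow (x : Vec) {j : ℕ} (hj : 1 ≤ j) : b x ^ 2 ^ j = 1 := by
  obtain ⟨i, rfl⟩ : ∃ i, j = i + 1 := ⟨j - 1, by omega⟩
  rw [pow_succ', pow_mul, pow_two, C.b_sq, one_pow]

end Ctx

variable {b : Vec → H}

theorem Rz.mul {h k : H} {m n : Mat} (hm : Rz b h m) (hn : Rz b k n) :
    Rz b (h * k) (Pyr45.mul m n) := fun x => by
  rw [app_mul, ← hm, ← hn]; group

theorem Rz.one' : Rz b 1 one := fun x => by rw [app_one]; group

theorem Rz.of_commute {h : H} (hc : ∀ y, Commute h (b y)) : Rz b h one := fun x => by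
  rw [app_one, (hc x).eq, mul_inv_cancel_right]

theorem Rz.commute {h : H} (hm : Rz b h one) (y : Vec) : Commute h (b y) := by
  have := hm y
  rw [app_one] at this
  show h * b y = b y * h
  calc h * b y = h * b y * h⁻¹ * h := by group
    _ = b y * h := by rw [this]

theorem Rz.congr {h : H} {m n : Mat} (hm : Rz b h m) (e : m = n) : Rz b h n := e ▸ hm

theorem Rz.pow_one' {h : H} (hm : Rz b h one) : ∀ i : ℕ, Rz b (h ^ i) one
  | 0 => by rw [pow_zero]; exact Rz.one'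
  | i + 1 => by rw [pow_succ]; exact ((hm.pow_one' i).mul hm).congr (by decide)

theorem Rz.pow_odd {h : H} {m : Mat} (hm : Rz b h m) (hsq : Pyr45.mul m m = one) {k : ℕ}
    (hk : ¬ 2 ∣ k) : Rz b (h ^ k) m := by
  obtain ⟨i, rfl⟩ : ∃ i, k = 2 * i + 1 := ⟨k / 2, by omega⟩
  rw [pow_succ, pow_mul, pow_two]
  refine ((((hm.mul hm).congr hsq).pow_one' i).mul hm).congr ?_
  obtain ⟨a, c, d⟩ := m
  simp [Pyr45.mul, app_one]

theorem Rz.inv {h : H} {m n : Mat} (hm : Rz b h m) (hmn : Pyr45.mul m n = one) :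
    Rz b h⁻¹ n := fun x => by
  have h1 := hm (app n x)
  rw [← app_mul, hmn, app_one] at h1
  rw [← h1]; group

theorem Rz.unique {h k : H} {m : Mat} (hm : Rz b h m) (hk : Rz b k m) (y : Vec) :
    Commute (k⁻¹ * h) (b y) := by
  have e := (hm y).trans (hk y).symm
  show k⁻¹ * h * b y = b y * (k⁻¹ * h)
  calc k⁻¹ * h * b y = k⁻¹ * (h * b y * h⁻¹) * h := by group
    _ = k⁻¹ * (k * b y * k⁻¹) * h := by rw [e]
    _ = b y * (k⁻¹ * h) := by group

theorem U_mul : ∀ a c d a' c' d' : ZMod 2,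
    Pyr45.mul (U a c d) (U a' c' d') = U (a + a') (c + c' + d' * a) (d + d') := by decide +kernel

theorem U_inv : ∀ a c d : ZMod 2, Pyr45.mul (U a c d) (U a (c + d * a) d) = one := by
  decide +kernel

theorem tr_eq : tr = U 0 1 0 ∧ tT = U 1 0 0 ∧ Pyr45.mul (U 1 1 0) tr = tT ∧
    Pyr45.mul tr tr = one ∧ Pyr45.mul tT tT = one :=
  ⟨by decide +kernel, by decide +kernel, by decide +kernel, by decide +kernel, by decide +kernel⟩

theorem U_conj : ∀ a c d : ZMod 2,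
    Pyr45.mul (Pyr45.mul (U a c d) tr) (U a (c + d * a) d) = tr ∧
      Pyr45.mul (Pyr45.mul (U a c d) tT) (U a (c + d * a) d) = U 1 d 0 := by decide +kernel

theorem comm_st : Pyr45.mul (Pyr45.mul (Pyr45.mul tr tT) tr) tT = one := by decide +kernel

theorem two_cases : ∀ x : ZMod 2, x = 0 ∨ x = 1 := by decide

/-- The stabiliser of the flag. -/
def flagStab (b : Vec → H) : Subgroup H where
  carrier := {h | ∃ a c d, Rz b h (U a c d)}
  one_mem' := ⟨0, 0, 0, Rz.one'.congr (by decide)⟩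
  mul_mem' := fun {g h} ⟨a, c, d, hg⟩ ⟨a', c', d', hh⟩ =>
    ⟨a + a', c + c' + d' * a, d + d', (hg.mul hh).congr (U_mul ..)⟩
  inv_mem' := fun {g} ⟨a, c, d, hg⟩ => ⟨a, c + d * a, d, hg.inv (U_inv ..)⟩

namespace Ctx

variable [Finite H] {E P : Subgroup H} (C : Ctx E P b)
include C

omit [Finite H] in
theorem real (u : List ℕ) : ∃ h, Rz b h (word [r0, tr] u) := by
  obtain ⟨r, hr⟩ := C.r_real
  obtain ⟨t, ht⟩ := C.t_real
  suffices H' : ∀ (u : List ℕ) (m : Mat), (∃ h, Rz b h m) →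
      ∃ h, Rz b h (u.foldl (fun x i => Pyr45.mul x ([r0, tr].getD i Pyr45.one)) m) from
    H' u _ ⟨1, Rz.one'⟩
  intro u
  induction u with
  | nil => exact fun m hm => hm
  | cons i u ih =>
    intro m ⟨h, hh⟩
    refine ih _ ?_
    match i with
    | 0 => exact ⟨h * r, hh.mul hr⟩
    | 1 => exact ⟨h * t, hh.mul ht⟩
    | i + 2 => exact ⟨h * 1, hh.mul Rz.one'⟩

omit [Finite H] in
theorem exists_gS : ∃ h, Rz b h gS := by
  obtain ⟨h, hh⟩ := C.real [0, 0, 0, 1, 0, 0, 1, 0, 0, 0, 1]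
  exact ⟨h, hh.congr (by decide +kernel)⟩

omit [Finite H] in
theorem exists_gT : ∃ h, Rz b h gT := by
  obtain ⟨h, hh⟩ := C.real [0, 1, 0, 0]
  exact ⟨h, hh.congr (by decide +kernel)⟩

omit [Finite H] in
theorem exists_tT : ∃ h, Rz b h tT := by
  obtain ⟨h, hh⟩ := C.real [0, 1, 0, 0, 0, 1, 0, 0]
  exact ⟨h, hh.congr (by decide +kernel)⟩

omit [Finite H] in
theorem exists_swap : ∃ h, Rz b h swapM := by
  obtain ⟨h, hh⟩ := C.real [0, 1, 0, 0, 0, 0, 1, 0, 0, 0]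
  exact ⟨h, hh.congr (by decide +kernel)⟩

/-- Commuting representatives modulo `P`. -/
theorem exists_st : ∃ s t : H, Rz b s tr ∧ Rz b t tT ∧ s * s ∈ P ∧ t * t ∈ P ∧
    s * t * s⁻¹ * t⁻¹ ∈ P := by
  classical
  haveI : Fact (Nat.Prime 2) := ⟨Nat.prime_two⟩
  obtain ⟨s₀, hs₀⟩ := C.t_real
  obtain ⟨t₀, ht₀⟩ := C.exists_tT
  obtain ⟨S⟩ : Nonempty (Sylow 2 (flagStab b)) := inferInstance
  have key : ∀ (h : H) (m : Mat), Rz b h m → Pyr45.mul m m = one →
      (∃ a c d, m = U a c d) → ∃ h' : (flagStab b), h' ∈ (S : Subgroup (flagStab b)) ∧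
        ∃ a c d, Rz b (h' : H) (Pyr45.mul (Pyr45.mul (U a c d) m) (U a (c + d * a) d)) := by
    intro h m hm hsq ⟨a, c, d, hacd⟩
    obtain ⟨i, hi, k, hk⟩ := exists_prime_part 2 h
    have hm' : Rz b (h ^ i) m := hm.pow_odd hsq hi
    set x : (flagStab b) := ⟨h ^ i, a, c, d, hm'.congr hacd⟩ with hx
    have hp : IsPGroup 2 (Subgroup.zpowers x) := by
      intro y
      obtain ⟨y, hy⟩ := y
      obtain ⟨n, rfl⟩ := Subgroup.mem_zpowers_iff.1 hy
      refine ⟨k, Subtype.ext ?_⟩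
      rw [SubgroupClass.coe_pow, OneMemClass.coe_one, ← zpow_natCast, ← zpow_mul, mul_comm,
        zpow_mul, zpow_natCast, show x ^ 2 ^ k = 1 from Subtype.ext hk, one_zpow]
    obtain ⟨S', hS'⟩ := hp.exists_le_sylow
    obtain ⟨g, hg⟩ := MulAction.exists_smul_eq (flagStab b) S' S
    obtain ⟨a', c', d', hga⟩ := g.2
    refine ⟨g * x * g⁻¹, ?_, a', c', d', (hga.mul hm').mul (hga.inv (U_inv ..))⟩
    rw [← hg, Sylow.coe_subgroup_smul]
    exact ⟨x, hS' (Subgroup.mem_zpowers x), rfl⟩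
  obtain ⟨s, hsS, a, c, d, hs⟩ := key s₀ tr hs₀ tr_eq.2.2.2.1 ⟨0, 1, 0, tr_eq.1⟩
  have hs : Rz b (s : H) tr := hs.congr (U_conj ..).1
  obtain ⟨t, htS, a', c', d', ht⟩ := key t₀ tT ht₀ tr_eq.2.2.2.2 ⟨1, 0, 0, tr_eq.2.1⟩
  have ht : Rz b (t : H) (U 1 d' 0) := ht.congr (U_conj ..).2
  obtain ⟨t', htS', ht'⟩ : ∃ t' : (flagStab b), t' ∈ (S : Subgroup (flagStab b)) ∧
      Rz b (t' : H) tT := by
    by_cases hd : d' = 0
    · exact ⟨t, htS, ht.congr (by rw [hd, tr_eq.2.1])⟩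
    · have hd1 : d' = 1 := (two_cases d').resolve_left hd
      exact ⟨t * s, mul_mem htS hsS, (ht.mul hs).congr (by rw [hd1, tr_eq.2.2.1])⟩
  have two : ∀ x : (flagStab b), x ∈ (S : Subgroup (flagStab b)) → Rz b (x : H) one → (x : H) ∈ P := by
    intro x hxS hx1
    refine C.two_el _ hx1.commute ?_
    obtain ⟨k, hk⟩ := S.isPGroup' ⟨x, hxS⟩
    exact ⟨k, congrArg (fun w : (S : Subgroup (flagStab b)) => ((w : (flagStab b)) : H)) hk⟩
  exact ⟨s, t', hs, ht', two (s * s) (mul_mem hsS hsS) ((hs.mul hs).congr tr_eq.2.2.2.1),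
    two (t' * t') (mul_mem htS' htS') ((ht'.mul ht').congr tr_eq.2.2.2.2),
    two (s * t' * s⁻¹ * t'⁻¹) (mul_mem (mul_mem (mul_mem hsS htS') (inv_mem hsS)) (inv_mem htS'))
      ((((hs.mul ht').mul (hs.inv tr_eq.2.2.2.1)).mul (ht'.inv tr_eq.2.2.2.2)).congr
        comm_st)⟩

end Ctx

end Cfsg.Agent.Pyr45
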