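import Mathlib.LinearAlgebra.Matrix.SpecialLinearGroup
import Mathlib.FieldTheory.Finite.GaloisField
import Mathlib.GroupTheory.Solvable
import Mathlib.Algebra.Group.MinimalAxioms
import Mathlib.GroupTheory.OrderOfElement
import Mathlib.Tactic

/-!
# Non-solvable groups with one class of `q²` involutions
-/

set_option autoImplicit false

namespace Cfsg.Agent.Pyr45

open Matrix

variable (F : Type) [Field F]

/-- The special affine group of the plane. -/
@[ext] structure Aff where
  vec : Fin 2 → F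
  lin : Matrix.SpecialLinearGroup (Fin 2) F

namespace Aff

variable {F}

instance : Mul (Aff F) :=
  ⟨fun a b => ⟨a.vec + (a.lin : Matrix (Fin 2) (Fin 2) F) *ᵥ b.vec, a.lin * b.lin⟩⟩
instance : One (Aff F) := ⟨⟨0, 1⟩⟩
instance : Inv (Aff F) :=
  ⟨fun a => ⟨-((a.lin⁻¹ : Matrix.SpecialLinearGroup (Fin 2) F) : Matrix (Fin 2) (Fin 2) F) *ᵥ a.vec,
    a.lin⁻¹⟩⟩

@[simp] theorem mul_vec (a b : Aff F) :
    (a * b).vec = a.vec + (a.lin : Matrix (Fin 2) (Fin 2) F) *ᵥ b.vec := rfl
@[simp] theorem mul_lin (a b : Aff F) : (a * b).lin = a.lin * b.lin := rfl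
@[simp] theorem one_vec : (1 : Aff F).vec = 0 := rfl
@[simp] theorem one_lin : (1 : Aff F).lin = 1 := rfl
@[simp] theorem inv_vec (a : Aff F) : (a⁻¹).vec =
    -((a.lin⁻¹ : Matrix.SpecialLinearGroup (Fin 2) F) : Matrix (Fin 2) (Fin 2) F) *ᵥ a.vec := rfl
@[simp] theorem inv_lin (a : Aff F) : (a⁻¹).lin = a.lin⁻¹ := rfl

instance : Group (Aff F) :=
  Group.ofLeftAxioms
    (fun a b c => Aff.ext (by simp [Matrix.mulVec_add, Matrix.mulVec_mulVec, add_assoc]) (by
      simp [mul_assoc]))
    (fun a => Aff.ext (by simp) (by simp))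
    (fun a => Aff.ext (by simp [Matrix.neg_mulVec]) (by simp))

instance [Finite F] : Finite (Aff F) :=
  Finite.of_injective (fun a => (a.vec, (a.lin : Matrix (Fin 2) (Fin 2) F))) fun a b h =>
    Aff.ext (congrArg Prod.fst h) (Subtype.ext (congrArg Prod.snd h))

/-- The projection. -/
def proj : Aff F →* Matrix.SpecialLinearGroup (Fin 2) F where
  toFun a := a.lin
  map_one' := rfl
  map_mul' _ _ := rfl

theorem sq_eq_one_cases (h2 : (2 : F) ≠ 0) (g : Matrix.SpecialLinearGroup (Fin 2) F)
    (hg : g * g = 1) : g = 1 ∨ g = -1 := by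
  have hm := congrArg (fun x : Matrix.SpecialLinearGroup (Fin 2) F => (x : Matrix (Fin 2) (Fin 2) F)) hg
  simp only [Matrix.SpecialLinearGroup.coe_mul, Matrix.SpecialLinearGroup.coe_one] at hm
  have hd : (g : Matrix (Fin 2) (Fin 2) F) 0 0 * (g : Matrix (Fin 2) (Fin 2) F) 1 1 -
      (g : Matrix (Fin 2) (Fin 2) F) 0 1 * (g : Matrix (Fin 2) (Fin 2) F) 1 0 = 1 := by
    rw [← Matrix.det_fin_two]; exact g.2
  have e00 := congrFun (congrFun hm 0) 0
  have e01 := congrFun (congrFun hm 0) 1
  have e10 := congrFun (congrFun hm 1) 0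
  have e11 := congrFun (congrFun hm 1) 1
  simp [Matrix.mul_apply, Fin.sum_univ_two] at e00 e01 e10 e11
  set a := (g : Matrix (Fin 2) (Fin 2) F) 0 0 with ha
  set b := (g : Matrix (Fin 2) (Fin 2) F) 0 1 with hb
  set c := (g : Matrix (Fin 2) (Fin 2) F) 1 0 with hc
  set d := (g : Matrix (Fin 2) (Fin 2) F) 1 1 with hdd
  have hs : a + d ≠ 0 := by
    intro h
    have : a * a + b * c = -1 := by
      have hdeq : d = -a := eq_neg_of_add_eq_zero_right h
      rw [hdeq] at hd
      linear_combination (-1 : F) * hd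
    rw [e00] at this
    exact h2 (by linear_combination this)
  have hb0 : b = 0 := by
    rcases mul_eq_zero.1 (show b * (a + d) = 0 by linear_combination e01) with h | h
    · exact h
    · exact absurd h hs
  have hc0 : c = 0 := by
    rcases mul_eq_zero.1 (show c * (a + d) = 0 by linear_combination e10) with h | h
    · exact h
    · exact absurd h hs
  have hda : d = a := by
    rw [hb0, hc0] at hd
    rw [hb0] at e00
    simp at e00 hd
    have ha0 : a ≠ 0 := fun h => by rw [h, zero_mul] at e00; exact zero_ne_one e00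
    exact mul_left_cancel₀ ha0 (hd.trans e00.symm)
  rw [hb0] at e00
  simp at e00
  rcases mul_self_eq_one_iff.1 e00 with h | h
  · left
    refine Subtype.ext (Matrix.ext fun i l => ?_)
    fin_cases i <;> fin_cases l <;>
      simp [← ha, ← hb, ← hc, ← hdd, hb0, hc0, hda, h]
  · right
    refine Subtype.ext (Matrix.ext fun i l => ?_)
    fin_cases i <;> fin_cases l <;>
      simp [← ha, ← hb, ← hc, ← hdd, hb0, hc0, hda, h]

theorem orderOf_eq_two (h2 : (2 : F) ≠ 0) (x : Aff F) : orderOf x = 2 ↔ x.lin = -1 := by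
  rw [orderOf_eq_prime_iff (p := 2)]
  constructor
  · rintro ⟨hx, hx1⟩
    rw [pow_two] at hx
    rcases sq_eq_one_cases h2 x.lin (congrArg Aff.lin hx) with h | h
    · refine absurd (Aff.ext ?_ h) hx1
      have hv := congrArg Aff.vec hx
      simp [h] at hv
      funext i
      have hi := congrFun hv i
      simp at hi
      rw [← two_mul] at hi
      simpa [h2] using hi
    · exact h
  · intro h
    refine ⟨?_, fun h1 => ?_⟩
    · rw [pow_two]
      exact Aff.ext (by simp [h, Matrix.neg_mulVec]) (by simp [h])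
    · have hl := congrArg (fun y : Aff F => ((y.lin : Matrix (Fin 2) (Fin 2) F)) 0 0) h1
      simp [h] at hl
      exact h2 (by linear_combination (-1 : F) * hl)

theorem card_involutions (h2 : (2 : F) ≠ 0) :
    Nat.card {x : Aff F // orderOf x = 2} = Nat.card F ^ 2 := by
  have e : {x : Aff F // orderOf x = 2} ≃ (Fin 2 → F) :=
    { toFun := fun x => x.1.vec
      invFun := fun v => ⟨⟨v, -1⟩, (orderOf_eq_two h2 _).2 rfl⟩
      left_inv := fun x => Subtype.ext (Aff.ext rfl ((orderOf_eq_two h2 x.1).1 x.2).symm)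
      right_inv := fun v => rfl }
  rw [Nat.card_congr e, Nat.card_fun, Nat.card_fin]

theorem one_class (h2 : (2 : F) ≠ 0) (x y : Aff F) (hx : orderOf x = 2) (hy : orderOf y = 2) :
    ∃ g : Aff F, g * x * g⁻¹ = y := by
  rw [orderOf_eq_two h2] at hx hy
  refine ⟨⟨(2 : F)⁻¹ • (y.vec - x.vec), 1⟩, Aff.ext ?_ (by simp [hx, hy])⟩
  simp [hx, Matrix.neg_mulVec]
  funext i
  simp
  field_simp
  ring

theorem not_solvable [Finite F] (h4 : 4 ≤ Nat.card F) : ¬ Group.IsSolvable (Aff F) := by
  intro h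
  have hs : Group.IsSolvable (Matrix.SpecialLinearGroup (Fin 2) F) :=
    Group.isSolvable_of_surjective (f := proj) fun g => ⟨⟨0, g⟩, rfl⟩
  obtain ⟨a, ha0, ha1⟩ : ∃ a : F, a ≠ 0 ∧ a ^ 2 ≠ 1 := by
    by_contra hc
    push Not at hc
    classical
    haveI := Fintype.ofFinite F
    have hsub : (Finset.univ : Finset F) ⊆ {0, 1, -1} := by
      intro a _
      by_cases h0 : a = 0
      · simp [h0]
      · rcases sq_eq_one_iff.1 (hc a h0) with h | h <;> simp [h]
    have h1 := (Finset.card_le_card hsub).trans Finset.card_le_three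
    rw [Finset.card_univ, ← Nat.card_eq_fintype_card] at h1
    omega
  have hperf := Matrix.SL2.commutator_eq_top ha0 ha1
  obtain ⟨n, hn⟩ := hs
  have hd : ∀ n, derivedSeries (Matrix.SpecialLinearGroup (Fin 2) F) n = ⊤ := by
    intro n
    induction n with
    | zero => rfl
    | succ n ih => rw [derivedSeries_succ, ih, ← commutator_def, hperf]
  rw [hd] at hn
  let u : Matrix.SpecialLinearGroup (Fin 2) F :=
    ⟨!![1, 1; 0, 1], by simp [Matrix.det_fin_two]⟩
  have hu : u = 1 := Subgroup.mem_bot.1 (hn ▸ Subgroup.mem_top u)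
  have h01 := congrArg
    (fun g : Matrix.SpecialLinearGroup (Fin 2) F => (g : Matrix (Fin 2) (Fin 2) F) 0 1) hu
  simp [u] at h01

end Aff

end Cfsg.Agent.Pyr45
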