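import Mathlib.GroupTheory.PGroup
import Mathlib.GroupTheory.Sylow
import Mathlib.GroupTheory.GroupAction.Quotient
import Mathlib.GroupTheory.GroupAction.Basic
import Mathlib.LinearAlgebra.Dual.Lemmas
import Mathlib.LinearAlgebra.FiniteDimensional.Lemmas
import Mathlib.Algebra.Module.ZMod
import Mathlib.Data.ZMod.Basic
import Mathlib.Algebra.Field.ZMod
import Mathlib.FieldTheory.Finiteness

/-!
# Doubly transitive linear groups over the field with two elements: the three-space frame

If `H` is doubly transitive on the non-zero vectors of `V = F₂^d`, `d ≥ 3`, then some three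
independent vectors are such that all of `GL₃(2)` is realised on their span.
-/

set_option autoImplicit false

namespace Cfsg.Agent.Pyr45

open scoped Pointwise

/-- Coordinates in a three-space. -/
abbrev Vec := ZMod 2 × ZMod 2 × ZMod 2

/-- A linear map of a three-space, by the images of the basis. -/
abbrev Mat := Vec × Vec × Vec

def app (m : Mat) (x : Vec) : Vec := x.1 • m.1 + (x.2.1 • m.2.1 + x.2.2 • m.2.2)

def mul (m n : Mat) : Mat := (app m n.1, app m n.2.1, app m n.2.2)

def one : Mat := ((1, 0, 0), (0, 1, 0), (0, 0, 1))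

def word (g : List Mat) (w : List ℕ) : Mat :=
  w.foldl (fun x i => mul x (g.getD i one)) one

def m12 (x y : ZMod 2) : Mat := ((x, 1, 0), (1 + x * y, y, 0), (0, 0, 1))
def m23 (x y : ZMod 2) : Mat := ((1, 0, 0), (y, 0, 1), (x, 1, 0))
def t1 (b : ZMod 2) : Mat := ((1, 0, 0), (b, 1, 0), (1, 0, 1))
def t2 (b : ZMod 2) : Mat := ((1, 0, 0), (b, 1, 0), (0, 1, 1))

/-- An element of order seven. -/
def r0 : Mat := ((0, 1, 0), (0, 0, 1), (1, 1, 0))
/-- A transvection. -/
def tr : Mat := ((1, 0, 0), (0, 1, 0), (1, 0, 1))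
/-- An element of order three normalising `⟨r0⟩`. -/
def q0 : Mat := ((1, 0, 0), (0, 0, 1), (0, 1, 1))

def wordsR : List (List ℕ) :=
  [[0, 1], [0, 1, 2], [3, 0, 1], [3, 0, 1, 2], [2, 0, 1, 2, 1, 3, 1], [1, 2, 1, 2, 3, 2, 0, 3, 1],
    [1, 3, 3, 1, 0, 1, 3, 1, 3], [3, 0, 3, 3, 1], [1, 3, 3, 1, 3, 3, 0, 3, 1], [0, 3, 3, 1, 2],
    [1, 2, 1, 2, 0, 3, 1, 2], [0, 3, 3, 1]]

def wordT : List ℕ := [1, 2, 3, 1, 3, 2, 1, 3]

def allBits : List (ZMod 2) := [0, 1]

set_option maxRecDepth 10000 in
theorem words_cover : ∀ x y z w b c : ZMod 2,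
    (∃ u ∈ wordsR, word [m12 x y, m23 z w, t1 b, t2 c] u = r0) ∧
      word [m12 x y, m23 z w, t1 b, t2 c] wordT = tr := by
  decide +kernel

theorem word_q0 : word [r0, tr] [1, 0, 0, 1, 0, 0, 0, 0, 1] = q0 := by decide +kernel

/-- The span of three vectors, as a linear map. -/
def comb {V : Type*} [AddCommGroup V] [Module (ZMod 2) V] (e v a : V) : Vec →ₗ[ZMod 2] V :=
  (LinearMap.toSpanSingleton (ZMod 2) V e).coprod
    ((LinearMap.toSpanSingleton (ZMod 2) V v).coprod (LinearMap.toSpanSingleton (ZMod 2) V a))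

theorem comb_apply {V : Type*} [AddCommGroup V] [Module (ZMod 2) V] (e v a : V) (x : Vec) :
    comb e v a x = x.1 • e + (x.2.1 • v + x.2.2 • a) := by
  simp [comb]

section

variable {H : Type*} [Group H] {V : Type*} [AddCommGroup V] [Module (ZMod 2) V]
  [DistribMulAction H V]

/-- The linear map of a group element. -/
def lin (h : H) : V →ₗ[ZMod 2] V := (DistribSMul.toAddMonoidHom V h).toZModLinearMap 2

@[simp] theorem lin_apply (h : H) (x : V) : lin h x = h • x := rfl

theorem smul_zsmul2 (h : H) (c : ZMod 2) (x : V) : h • (c • x) = c • (h • x) :=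
  (lin (V := V) h).map_smul c x

theorem add_self (x : V) : x + x = 0 := by
  have h := two_smul (ZMod 2) x
  rw [show (2 : ZMod 2) = 0 from by decide, zero_smul] at h
  exact h.symm

theorem eq_add_iff_add_eq {x y z : V} : x = y + z ↔ x + z = y := by
  constructor
  · rintro rfl; rw [add_assoc, add_self, add_zero]
  · rintro rfl; rw [add_assoc, add_self, add_zero]

/-- `m` is induced on the frame `ι` by an element of `H`. -/
def Realizes (H : Type*) [Group H] {V : Type*} [AddCommGroup V] [Module (ZMod 2) V]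
    [DistribMulAction H V] (ι : Vec →ₗ[ZMod 2] V) (m : Mat) : Prop :=
  ∃ h : H, ∀ x : Vec, h • ι x = ι (app m x)

theorem realizes_of_basis {ι : Vec →ₗ[ZMod 2] V} {m : Mat} (h : H)
    (h1 : h • ι (1, 0, 0) = ι m.1) (h2 : h • ι (0, 1, 0) = ι m.2.1)
    (h3 : h • ι (0, 0, 1) = ι m.2.2) : ∀ x : Vec, h • ι x = ι (app m x) := by
  intro x
  have hx : x = x.1 • ((1 : ZMod 2), (0 : ZMod 2), (0 : ZMod 2)) + (x.2.1 • ((0 : ZMod 2), (1 : ZMod 2),
      (0 : ZMod 2)) + x.2.2 • ((0 : ZMod 2), (0 : ZMod 2), (1 : ZMod 2))) := by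
    ext <;> simp
  conv_lhs => rw [hx]
  simp only [map_add, map_smul, smul_add, smul_zsmul2, h1, h2, h3, app]

theorem app_mul (m n : Mat) (x : Vec) : app (mul m n) x = app m (app n x) := by
  revert m n x
  intro m n x
  simp only [app, mul, Prod.smul_fst, Prod.smul_snd, Prod.fst_add, Prod.snd_add, smul_eq_mul]
  ext <;> simp <;> ring

theorem app_one (x : Vec) : app one x = x := by
  ext <;> simp [app, one]

theorem Realizes.mul {ι : Vec →ₗ[ZMod 2] V} {m n : Mat} (hm : Realizes H ι m)
    (hn : Realizes H ι n) : Realizes H ι (Pyr45.mul m n) := by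
  obtain ⟨g, hg⟩ := hm
  obtain ⟨k, hk⟩ := hn
  exact ⟨g * k, fun x => by rw [mul_smul, hk, hg, app_mul]⟩

theorem Realizes.one (ι : Vec →ₗ[ZMod 2] V) : Realizes H ι Pyr45.one :=
  ⟨1, fun x => by rw [one_smul, app_one]⟩

theorem Realizes.word {ι : Vec →ₗ[ZMod 2] V} {g : List Mat} (hg : ∀ m ∈ g, Realizes H ι m)
    (w : List ℕ) : Realizes H ι (Pyr45.word g w) := by
  suffices h : ∀ (w : List ℕ) (x : Mat), Realizes H ι x →
      Realizes H ι (w.foldl (fun x i => Pyr45.mul x (g.getD i Pyr45.one)) x) from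
    h w _ (.one ι)
  intro w
  induction w with
  | nil => exact fun x hx => hx
  | cons i t ih =>
    intro x hx
    refine ih _ (hx.mul ?_)
    by_cases hi : i < g.length
    · rw [List.getD_eq_getElem?_getD, List.getElem?_eq_getElem hi]
      exact hg _ (List.getElem_mem hi)
    · rw [List.getD_eq_getElem?_getD, List.getElem?_eq_none (not_lt.1 hi)]
      exact .one ι

/-- Double transitivity on the non-zero vectors. -/
def TwoTrans (H : Type*) [Group H] (V : Type*) [AddCommGroup V] [DistribMulAction H V] : Prop :=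
  ∀ x y x' y' : V, x ≠ 0 → y ≠ 0 → x ≠ y → x' ≠ 0 → y' ≠ 0 → x' ≠ y' →
    ∃ h : H, h • x = x' ∧ h • y = y'

/-- The dual space with the contragredient action. -/
def DV (H : Type*) (V : Type*) [AddCommGroup V] [Module (ZMod 2) V] := V →ₗ[ZMod 2] ZMod 2

theorem comp_lin_one (l : V →ₗ[ZMod 2] ZMod 2) : l.comp (lin (1 : H)⁻¹) = l := by
  ext x
  simp

theorem comp_lin_mul (g h : H) (l : V →ₗ[ZMod 2] ZMod 2) :
    l.comp (lin (g * h)⁻¹) = (l.comp (lin h⁻¹)).comp (lin g⁻¹) := by
  ext x
  simp [mul_smul]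

instance : MulAction H (DV H V) where
  smul h l := (LinearMap.comp (l : V →ₗ[ZMod 2] ZMod 2) (lin h⁻¹) : V →ₗ[ZMod 2] ZMod 2)
  one_smul l := comp_lin_one l
  mul_smul g h l := comp_lin_mul g h l

/-- A point of `DV` as a functional. -/
def DV.toLin (l : DV H V) : V →ₗ[ZMod 2] ZMod 2 := l

/-- A functional as a point of `DV`. -/
def DV.ofLin (l : V →ₗ[ZMod 2] ZMod 2) : DV H V := l

@[simp] theorem DV.toLin_ofLin (l : V →ₗ[ZMod 2] ZMod 2) :
    (DV.ofLin l : DV H V).toLin = l := rfl

theorem smul_dv_apply (h : H) (l : DV H V) (x : V) :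
    (h • l).toLin x = l.toLin (h⁻¹ • x) := rfl

variable [Finite V]

theorem card_fixed_dual (g : H) :
    Nat.card {l : V →ₗ[ZMod 2] ZMod 2 // l.comp (lin g⁻¹) = l} =
      Nat.card {x : V // g • x = x} := by
  set f : V →ₗ[ZMod 2] V := lin g⁻¹ + LinearMap.id with hf
  have h1 : Nat.card {l : V →ₗ[ZMod 2] ZMod 2 // l.comp (lin g⁻¹) = l} =
      Nat.card (LinearMap.range f).dualAnnihilator := by
    refine Nat.card_congr (Equiv.subtypeEquivRight fun l => ?_)
    rw [Submodule.mem_dualAnnihilator]
    constructor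
    · rintro hl _ ⟨y, rfl⟩
      have h := LinearMap.congr_fun hl y
      simp only [LinearMap.comp_apply, lin_apply] at h
      simp only [hf, LinearMap.add_apply, lin_apply, LinearMap.id_apply, map_add, h, CharTwo.add_self_eq_zero]
    · intro hl
      ext y
      have h := hl (f y) ⟨y, rfl⟩
      simp only [hf, LinearMap.add_apply, lin_apply, LinearMap.id_apply, map_add] at h
      rw [CharTwo.add_eq_zero] at h
      simpa using h
  have h2 : Nat.card {x : V // g • x = x} = Nat.card (LinearMap.ker f) := by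
    refine Nat.card_congr (Equiv.subtypeEquivRight fun x => ?_)
    simp only [LinearMap.mem_ker, hf, LinearMap.add_apply, lin_apply, LinearMap.id_apply]
    constructor
    · intro hx
      rw [inv_smul_eq_iff.2 hx.symm, add_self]
    · intro hx
      have h : g⁻¹ • x = x := by
        have := eq_add_iff_add_eq.2 hx
        simpa using this
      exact (inv_smul_eq_iff.1 h).symm
  rw [h1, h2, Module.natCard_eq_pow_finrank (K := ZMod 2),
    Module.natCard_eq_pow_finrank (K := ZMod 2) (V := LinearMap.ker f)]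
  congr 1
  have h3 := LinearMap.finrank_range_add_finrank_ker f
  have h4 := Subspace.finrank_add_finrank_dualAnnihilator_eq (LinearMap.range f)
  omega

theorem exists_functional {e x : V} (hx : x ≠ 0) (hxe : x ≠ e) :
    ∃ l : V →ₗ[ZMod 2] ZMod 2, l x = 1 ∧ l e = 0 := by
  have hnot : x ∉ Submodule.span (ZMod 2) ({e} : Set V) := by
    intro h
    obtain ⟨c, hc⟩ := Submodule.mem_span_singleton.1 h
    rcases (show c = 0 ∨ c = 1 from by clear hc; revert c; decide) with rfl | rfl
    · exact hx (by simpa using hc.symm)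
    · exact hxe (by simpa using hc.symm)
  obtain ⟨l, hlx, hl⟩ := Submodule.exists_dual_map_eq_bot_of_notMem hnot inferInstance
  refine ⟨l, ?_, ?_⟩
  · revert hlx; generalize l x = c; revert c; decide
  · have : l e ∈ (Submodule.span (ZMod 2) ({e} : Set V)).map l :=
      Submodule.mem_map_of_mem (Submodule.mem_span_singleton_self e)
    rwa [hl, Submodule.mem_bot] at this

variable [Finite H]

/-- **The stabiliser of a vector is transitive on the functionals taking value one there.** -/
theorem exists_fix_dual (hcard : 8 ≤ Nat.card V) (h2 : TwoTrans H V) {e : V} (he : e ≠ 0)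
    (l l' : V →ₗ[ZMod 2] ZMod 2) (hl : l e = 1) (hl' : l' e = 1) :
    ∃ g : H, g • e = e ∧ ∀ x, l (g • x) = l' x := by
  classical
  have := Fintype.ofFinite H
  set S := MulAction.stabilizer H e with hS
  have : Finite (DV H V) := show Finite (V →ₗ[ZMod 2] ZMod 2) from Finite.of_injective _ DFunLike.coe_injective
  obtain ⟨x₀, hx₀, hx₀e⟩ : ∃ x : V, x ≠ 0 ∧ x ≠ e := by
    by_contra h
    push Not at h
    have hsub : Function.Injective fun x : V => decide (x = 0) := by
      intro x y hxy
      simp only [decide_eq_decide] at hxy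
      by_cases hx : x = 0
      · rw [hx, hxy.1 hx]
      · rw [h x hx, h y (mt hxy.2 hx)]
    have := Nat.card_le_card_of_injective _ hsub
    simp at this
    omega
  -- orbit counts
  let ΩV := Quotient (MulAction.orbitRel S V)
  let ΩD := Quotient (MulAction.orbitRel S (DV H V))
  have hsum : Nat.card ΩV * Nat.card S = Nat.card ΩD * Nat.card S := by
    have := Fintype.ofFinite V
    have := Fintype.ofFinite (DV H V)
    rw [Nat.card_eq_fintype_card (α := ΩV), Nat.card_eq_fintype_card (α := ΩD),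
      Nat.card_eq_fintype_card (α := S),
      ← MulAction.sum_card_fixedBy_eq_card_orbits_mul_card_group S V,
      ← MulAction.sum_card_fixedBy_eq_card_orbits_mul_card_group S (DV H V)]
    refine Finset.sum_congr rfl fun g _ => ?_
    rw [← Nat.card_eq_fintype_card, ← Nat.card_eq_fintype_card]
    exact (card_fixed_dual (g : H)).symm
  have heq : Nat.card ΩV = Nat.card ΩD := Nat.eq_of_mul_eq_mul_right Nat.card_pos hsum
  have hV3 : Nat.card ΩV ≤ 3 := by
    have hsurj : Function.Surjective (fun i : Fin 3 =>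
        (Quotient.mk'' (![0, e, x₀] i) : ΩV)) := by
      intro q
      induction q using Quotient.inductionOn' with
      | _ y =>
      by_cases hy0 : y = 0
      · exact ⟨0, by simp [hy0]⟩
      by_cases hye : y = e
      · exact ⟨1, by simp [hye]⟩
      refine ⟨2, Quotient.sound' ?_⟩
      obtain ⟨g, hge, hgy⟩ := h2 e y e x₀ he hy0 (Ne.symm hye) he hx₀ (Ne.symm hx₀e)
      rw [MulAction.orbitRel_apply]
      exact ⟨⟨g, MulAction.mem_stabilizer_iff.2 hge⟩, by simpa using hgy⟩
    simpa using Nat.card_le_card_of_surjective _ hsurj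
  -- the classifier of dual orbits
  let cl : DV H V → Fin 3 := fun k =>
    if (DV.toLin (k)) = 0 then 0
    else if (DV.toLin (k)) e = 0 then 1 else 2
  have hinv : ∀ (g : S) (k : DV H V), cl (g • k) = cl k := by
    intro g k
    have hge : ((g : H)⁻¹) • e = e := inv_smul_eq_iff.2 (MulAction.mem_stabilizer_iff.1 g.2).symm
    have h0 : (DV.toLin (g • k)) = 0 ↔ (DV.toLin (k)) = 0 := by
      constructor
      · intro h; ext x
        have := LinearMap.congr_fun h ((g : H) • x)
        change k.toLin (((g : H))⁻¹ • ((g : H) • x)) = 0 at this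
        rw [inv_smul_smul] at this
        exact this
      · intro h; ext x
        change k.toLin (((g : H))⁻¹ • x) = 0
        rw [h]
        rfl
    have he' : (DV.toLin (g • k)) e = (DV.toLin (k)) e := by
      change k.toLin (((g : H))⁻¹ • e) = _
      rw [hge]
    simp only [cl, h0, he']
  let clQ : ΩD → Fin 3 := Quotient.lift cl fun a b hab => by
    obtain ⟨g, rfl⟩ := MulAction.orbitRel_apply.1 hab
    exact hinv g b
  have hsurjD : Function.Surjective clQ := by
    obtain ⟨k₁, hk₁x, hk₁e⟩ := exists_functional hx₀ hx₀e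
    intro i
    fin_cases i
    · exact ⟨Quotient.mk'' (DV.ofLin 0), by simp [clQ, cl]⟩
    · refine ⟨Quotient.mk'' (DV.ofLin k₁), ?_⟩
      have : k₁ ≠ 0 := fun h => by simp [h] at hk₁x
      simp [clQ, cl, this, hk₁e]
    · refine ⟨Quotient.mk'' (DV.ofLin l), ?_⟩
      have : l ≠ 0 := fun h => by simp [h] at hl
      simp [clQ, cl, this, hl]
  have hD3 : Nat.card ΩD = 3 := by
    have := Nat.card_le_card_of_surjective _ hsurjD
    simp at this
    omega
  have hinjD : Function.Injective clQ :=
    ((Nat.bijective_iff_surjective_and_card clQ).2 ⟨hsurjD, by simp [hD3]⟩).1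
  have hne : l ≠ 0 := fun h => by simp [h] at hl
  have hne' : l' ≠ 0 := fun h => by simp [h] at hl'
  have hq : (Quotient.mk'' (DV.ofLin l') : ΩD) = Quotient.mk'' (DV.ofLin l) :=
    hinjD (by simp [clQ, cl, hne, hne', hl, hl'])
  obtain ⟨g, hg⟩ := MulAction.orbitRel_apply.1 (Quotient.eq''.1 hq)
  refine ⟨((g : H))⁻¹, inv_smul_eq_iff.2 (MulAction.mem_stabilizer_iff.1 g.2).symm, fun x => ?_⟩
  have := LinearMap.congr_fun (congrArg DV.toLin hg) x
  exact this

end

end Cfsg.Agent.Pyr45
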