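import Cfsg.Agent.Pyr45.Frame
import Mathlib.Algebra.BigOperators.Group.Finset.Basic
import Mathlib.Algebra.BigOperators.Ring.Finset
import Mathlib.Tactic.LinearCombination
import Mathlib.Tactic.Linarith
import Mathlib.Tactic.Ring

/-!
# Anisotropic quadratic maps between spaces over the field with two elements

`q : M → W` vanishes only at zero and all its non-zero fibres have the same size.  Then either `q`
is injective, or `dim M = 2 dim W`, every non-zero functional gives a non-degenerate form, `M` has no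
orthogonal decomposition, and no automorphism exchanges two functionals when `dim W = 3`.
-/

set_option autoImplicit false

namespace Cfsg.Agent.Pyr45

/-- The sign character of `ZMod 2`. -/
def chi (x : ZMod 2) : ℤ := if x = 0 then 1 else -1

theorem chi_zero : chi 0 = 1 := rfl

theorem chi_add (x y : ZMod 2) : chi (x + y) = chi x * chi y := by
  revert x y; decide

variable {M W : Type*} [AddCommGroup M] [Module (ZMod 2) M] [Fintype M]
  [AddCommGroup W] [Module (ZMod 2) W] [Fintype W]

theorem sum_chi_hom (f : M → ZMod 2) (hf : ∀ x y, f (x + y) = f x + f y) {a : M} (ha : f a = 1) :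
    ∑ x, chi (f x) = 0 := by
  have h : ∑ x, chi (f x) = ∑ x, chi (f (x + a)) :=
    (Equiv.sum_comp (Equiv.addRight a) fun x => chi (f x)).symm
  have hneg : ∑ x, chi (f (x + a)) = - ∑ x, chi (f x) := by
    rw [← Finset.sum_neg_distrib]
    refine Finset.sum_congr rfl fun x _ => ?_
    rw [hf, chi_add, ha, show chi 1 = -1 from rfl, mul_neg_one]
  omega

/-- The sum over all functionals of the sign at a fixed vector. -/
theorem sum_dual_chi [DecidableEq W] [Fintype (W →ₗ[ZMod 2] ZMod 2)] (w : W) :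
    ∑ l : W →ₗ[ZMod 2] ZMod 2, chi (l w) = if w = 0 then (Fintype.card W : ℤ) else 0 := by
  have := Finite.of_fintype W
  split_ifs with hw
  · subst hw
    simp only [map_zero, chi_zero, Finset.sum_const, Finset.card_univ, nsmul_eq_mul, mul_one]
    congr 1
    rw [← Nat.card_eq_fintype_card, ← Nat.card_eq_fintype_card,
      Module.natCard_eq_pow_finrank (K := ZMod 2),
      Module.natCard_eq_pow_finrank (K := ZMod 2) (V := W), Subspace.dual_finrank_eq]
  · obtain ⟨l, hl, -⟩ := exists_functional (e := (0 : W)) hw hw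
    exact sum_chi_hom (M := W →ₗ[ZMod 2] ZMod 2) (fun k => k w) (fun _ _ => rfl) hl

variable (q : M → W)

/-- The polar of `q`. -/
def polar (x y : M) : W := q (x + y) + q x + q y

/-- The hypotheses on `q`. -/
structure IsAniso : Prop where
  eq_zero : ∀ x, q x = 0 ↔ x = 0
  polar_add : ∀ x y z, polar q (x + y) z = polar q x z + polar q y z
  fibre : ∀ a b : W, a ≠ 0 → b ≠ 0 →
    Nat.card {x : M // q x = a} = Nat.card {x : M // q x = b}

variable {q}

theorem polar_comm (x y : M) : polar q x y = polar q y x := by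
  unfold polar; rw [add_comm x y]; abel

namespace IsAniso

variable (hq : IsAniso q)
include hq

theorem polar_add_right (x y z : M) : polar q x (y + z) = polar q x y + polar q x z := by
  rw [polar_comm, hq.polar_add, polar_comm y, polar_comm z]

theorem q_add (x y : M) : q (x + y) = q x + q y + polar q x y := by
  unfold polar
  rw [show q x + q y + (q (x + y) + q x + q y) = q (x + y) + (q x + q x) + (q y + q y) by abel,
    add_self, add_self, add_zero, add_zero]

theorem polar_self (x : M) : polar q x x = 0 := by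
  unfold polar
  rw [add_self, (hq.eq_zero 0).2 rfl, zero_add, add_self]

/-- The bilinear form of a functional. -/
noncomputable def form (l : W →ₗ[ZMod 2] ZMod 2) : M →ₗ[ZMod 2] M →ₗ[ZMod 2] ZMod 2 :=
  (AddMonoidHom.mk' (fun x => (AddMonoidHom.mk' (fun y => l (polar q x y))
      fun y z => by rw [hq.polar_add_right, map_add]).toZModLinearMap 2)
    fun x y => LinearMap.ext fun z => by
      show l (polar q (x + y) z) = l (polar q x z) + l (polar q y z)
      rw [hq.polar_add, map_add]).toZModLinearMap 2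

theorem form_apply (l : W →ₗ[ZMod 2] ZMod 2) (x y : M) : hq.form l x y = l (polar q x y) := rfl

end IsAniso

/-- The Gauss sum of a functional on a subspace. -/
noncomputable def gauss (q : M → W) (l : W →ₗ[ZMod 2] ZMod 2) (F : Submodule (ZMod 2) M)
    [Fintype F] : ℤ :=
  ∑ x : F, chi (l (q x))

theorem sum_chi_polar (hq : IsAniso q) (l : W →ₗ[ZMod 2] ZMod 2) (F : Submodule (ZMod 2) M)
    [Fintype F] (w : F) [Decidable (∀ v : F, l (polar q v w) = 0)] :
    ∑ v : F, chi (l (polar q v w)) =
      if (∀ v : F, l (polar q v w) = 0) then (Fintype.card F : ℤ) else 0 := by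
  split_ifs with h
  · simp [h, chi_zero]
  · push Not at h
    obtain ⟨v, hv⟩ := h
    refine sum_chi_hom (M := F) (fun v => l (polar q v w)) (fun x y => ?_) (a := v) ?_
    · rw [Submodule.coe_add, hq.polar_add, map_add]
    · revert hv; generalize l (polar q (v : M) w) = c; revert c; decide

theorem gauss_sq (hq : IsAniso q) (l : W →ₗ[ZMod 2] ZMod 2) (F : Submodule (ZMod 2) M)
    [Fintype F] [DecidablePred fun w : F => ∀ v : F, l (polar q v w) = 0] :
    gauss q l F * gauss q l F = Fintype.card F *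
      ∑ w ∈ Finset.univ.filter (fun w : F => ∀ v : F, l (polar q v w) = 0), chi (l (q w)) := by
  have key : ∀ v w : F, chi (l (q v)) * chi (l (q ((v + w : F) : M))) =
      chi (l (q w)) * chi (l (polar q v w)) := by
    intro v w
    rw [Submodule.coe_add, hq.q_add, map_add, map_add, chi_add, chi_add]
    have hsq : ∀ c : ZMod 2, chi c * chi c = 1 := by decide
    linear_combination (chi (l (q (w : M))) * chi (l (polar q (v : M) (w : M)))) * hsq (l (q (v : M)))
  calc gauss q l F * gauss q l F
      = ∑ v : F, ∑ u : F, chi (l (q v)) * chi (l (q u)) := by rw [gauss, Finset.sum_mul_sum]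
    _ = ∑ v : F, ∑ w : F, chi (l (q v)) * chi (l (q ((v + w : F) : M))) :=
        Finset.sum_congr rfl fun v _ =>
          (Equiv.sum_comp (Equiv.addLeft v) fun u => chi (l (q v)) * chi (l (q u))).symm
    _ = ∑ w : F, chi (l (q w)) * ∑ v : F, chi (l (polar q v w)) := by
        rw [Finset.sum_comm]
        simp only [key, Finset.mul_sum]
    _ = _ := by
        rw [Finset.mul_sum, Finset.sum_filter]
        refine Finset.sum_congr rfl fun w _ => ?_
        rw [sum_chi_polar hq]
        split_ifs <;> ring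

/-- `m = 2n`, and every non-zero functional gives a non-degenerate form of minus type. -/
structure IsDouble (q : M → W) (n : ℕ) [Fintype (⊤ : Submodule (ZMod 2) M)] : Prop where
  card : Fintype.card M = 2 ^ (2 * n)
  gauss_eq : ∀ l : W →ₗ[ZMod 2] ZMod 2, l ≠ 0 → gauss q l ⊤ = -(2 : ℤ) ^ n
  nondeg : ∀ l : W →ₗ[ZMod 2] ZMod 2, l ≠ 0 → ∀ w, (∀ v, l (polar q v w) = 0) → w = 0

variable [Fintype (⊤ : Submodule (ZMod 2) M)]

/-- **The dichotomy.** -/
theorem injective_or_double (hq : IsAniso q) {n : ℕ} (hn : 2 ≤ n) (hW : Fintype.card W = 2 ^ n)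
    (hsurj : ∀ a, a ≠ 0 → ∃ x, q x = a) : Function.Injective q ∨ IsDouble q n := by
  classical
  have := Finite.of_fintype M
  have := Finite.of_fintype W
  haveI : Nontrivial W := Fintype.one_lt_card_iff_nontrivial.1 (by
    rw [hW]; exact Nat.one_lt_two_pow (by omega))
  obtain ⟨a₀, ha₀⟩ := exists_ne (0 : W)
  set c := Nat.card {x : M // q x = a₀} with hc
  have hfib : ∀ a, a ≠ 0 → (Finset.univ.filter fun x => q x = a).card = c := by
    intro a ha
    rw [hc, hq.fibre a₀ a ha₀ ha, Nat.card_eq_fintype_card, Fintype.card_subtype]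
  have hfib0 : (Finset.univ.filter fun x => q x = (0 : W)).card = 1 := by
    rw [Finset.card_eq_one]
    exact ⟨0, by ext x; simp [hq.eq_zero]⟩
  have hcardM : Fintype.card M = 1 + (2 ^ n - 1) * c := by
    rw [← Finset.card_univ, Finset.card_eq_sum_card_fiberwise (t := Finset.univ)
      (f := q) (fun x _ => Finset.mem_univ (q x)), ← Finset.add_sum_erase _ _ (Finset.mem_univ (0 : W)),
      hfib0, Finset.sum_congr rfl (fun a ha => hfib a (Finset.mem_erase.1 ha).1), Finset.sum_const,
      Finset.card_erase_of_mem (Finset.mem_univ _), Finset.card_univ, hW, smul_eq_mul]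
  have hc1 : 1 ≤ c := by
    obtain ⟨x, hx⟩ := hsurj a₀ ha₀
    rw [← hfib a₀ ha₀]
    exact Finset.card_pos.2 ⟨x, by simp [hx]⟩
  rcases Nat.eq_or_lt_of_le hc1 with hc1' | hc2
  · left
    intro x y hxy
    by_cases h0 : q x = 0
    · rw [(hq.eq_zero x).1 h0, (hq.eq_zero y).1 (hxy ▸ h0)]
    · exact Finset.card_le_one.1 ((hfib _ h0).trans hc1'.symm).le x (by simp) y (by simp [hxy])
  right
  -- the value of the Gauss sums
  have hS : ∀ l : W →ₗ[ZMod 2] ZMod 2, l ≠ 0 → gauss q l ⊤ = 1 - (c : ℤ) := by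
    intro l hl
    have h1 : gauss q l ⊤ = ∑ x : M, chi (l (q x)) := by
      rw [gauss]
      exact Fintype.sum_bijective (fun x : (⊤ : Submodule (ZMod 2) M) => (x : M))
        ⟨Subtype.val_injective, fun x => ⟨⟨x, trivial⟩, rfl⟩⟩ _ _ fun x => rfl
    obtain ⟨a, ha⟩ : ∃ a, l a = 1 := by
      by_contra h
      push Not at h
      exact hl (LinearMap.ext fun z => by
        have := h z; revert this; rw [LinearMap.zero_apply]; generalize l z = d; revert d; decide)
    have h2 := sum_chi_hom (M := W) (fun z => l z) (fun x y => map_add l x y) ha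
    rw [← Finset.add_sum_erase _ _ (Finset.mem_univ (0 : W)), map_zero, chi_zero] at h2
    rw [h1, ← Finset.sum_fiberwise Finset.univ q,
      ← Finset.add_sum_erase _ _ (Finset.mem_univ (0 : W))]
    have h3 : ∀ b : W, ∑ x ∈ Finset.univ.filter (fun x => q x = b), chi (l (q x)) =
        (Finset.univ.filter (fun x => q x = b)).card * chi (l b) := by
      intro b
      rw [Finset.sum_congr rfl (fun x hx => by rw [(Finset.mem_filter.1 hx).2]), Finset.sum_const,
        nsmul_eq_mul]
    rw [h3 0, hfib0, map_zero, chi_zero, Finset.sum_congr rfl fun b hb => by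
      rw [h3 b, hfib b (Finset.mem_erase.1 hb).1], ← Finset.mul_sum,
      show ∑ b ∈ Finset.univ.erase (0 : W), chi (l b) = -1 by omega]
    push_cast; ring
  -- radicals
  have hrad : ∀ l : W →ₗ[ZMod 2] ZMod 2, l ≠ 0 → ∃ r : ℕ, ((c : ℤ) - 1) * ((c : ℤ) - 1) =
      (Fintype.card M : ℤ) * 2 ^ r ∧ (r = 0 → ∀ w, (∀ v, l (polar q v w) = 0) → w = 0) := by
    intro l hl
    let R : Submodule (ZMod 2) M := LinearMap.ker (hq.form l).flip
    have hmem : ∀ w : M, w ∈ R ↔ ∀ v, l (polar q v w) = 0 := by
      intro w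
      simp only [R, LinearMap.mem_ker]
      constructor
      · intro h v; exact LinearMap.congr_fun h v
      · intro h; ext v; exact h v
    have h := gauss_sq hq l ⊤
    rw [hS l hl] at h
    have hcT : Fintype.card (⊤ : Submodule (ZMod 2) M) = Fintype.card M :=
      Fintype.card_congr (Equiv.subtypeUnivEquiv fun _ => trivial)
    have hsum : ∑ w ∈ Finset.univ.filter
        (fun w : (⊤ : Submodule (ZMod 2) M) => ∀ v : (⊤ : Submodule (ZMod 2) M),
          l (polar q v w) = 0), chi (l (q w)) = ∑ w : R, chi (l (q w)) := by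
      refine Finset.sum_bij (fun w hw => (⟨(w : M), (hmem _).2 fun v =>
        (Finset.mem_filter.1 hw).2 ⟨v, trivial⟩⟩ : R)) (fun _ _ => Finset.mem_univ _) ?_ ?_ ?_
      · intro a _ b _ hab; exact Subtype.ext (congrArg (fun x : R => (x : M)) hab)
      · intro b _
        exact ⟨⟨b, trivial⟩, Finset.mem_filter.2 ⟨Finset.mem_univ _, fun v => (hmem _).1 b.2 v⟩, rfl⟩
      · intro a _; rfl
    have hhom : ∀ x y : R, l (q ((x + y : R) : M)) = l (q x) + l (q y) := fun x y => by
      rw [Submodule.coe_add, hq.q_add, map_add, map_add, (hmem _).1 y.2 x, add_zero]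
    rw [hsum, hcT] at h
    by_cases hz : ∀ x : R, l (q x) = 0
    · simp only [hz, chi_zero, Finset.sum_const, Finset.card_univ, nsmul_eq_mul, mul_one] at h
      refine ⟨Module.finrank (ZMod 2) R, ?_, fun hr w hw => ?_⟩
      · rw [show ((c : ℤ) - 1) * ((c : ℤ) - 1) = (1 - (c : ℤ)) * (1 - (c : ℤ)) by ring, h,
          ← Nat.card_eq_fintype_card (α := R), Module.natCard_eq_pow_finrank (K := ZMod 2),
          Nat.card_zmod]
        push_cast; ring
      · have hR : R = ⊥ := Submodule.finrank_eq_zero.1 hr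
        exact (Submodule.eq_bot_iff R).1 hR w ((hmem w).2 hw)
    · push Not at hz
      obtain ⟨x, hx⟩ := hz
      rw [sum_chi_hom (M := R) (fun z => l (q z)) hhom (a := x)
        (by revert hx; generalize l (q (x : M)) = d; revert d; decide), mul_zero] at h
      have : (1 : ℤ) - c = 0 := by nlinarith
      omega
  obtain ⟨m, hm⟩ : ∃ m, Fintype.card M = 2 ^ m := ⟨Module.finrank (ZMod 2) M, by
    rw [← Nat.card_eq_fintype_card, Module.natCard_eq_pow_finrank (K := ZMod 2), Nat.card_zmod]⟩
  obtain ⟨l₀, hl₀, -⟩ := exists_functional (e := (0 : W)) ha₀ ha₀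
  obtain ⟨r, hr, -⟩ := hrad l₀ (fun h => by simp [h] at hl₀)
  obtain ⟨s, -, hs⟩ : ∃ s, s ≤ m + r ∧ c - 1 = 2 ^ s := by
    refine (Nat.dvd_prime_pow Nat.prime_two).1 ⟨c - 1, ?_⟩
    have h1 : ((c - 1 : ℕ) : ℤ) = (c : ℤ) - 1 := by omega
    have : ((2 ^ (m + r) : ℕ) : ℤ) = (((c - 1) * (c - 1) : ℕ) : ℤ) := by
      rw [Nat.cast_mul, h1, hr, hm]; push_cast; ring
    exact_mod_cast this
  have hc' : c = 2 ^ s + 1 := by omega
  have hexp : 1 + (2 ^ n - 1) * c + 2 ^ s = 2 ^ (s + n) + 2 ^ n := by
    have h1 : 1 ≤ 2 ^ n := Nat.one_le_two_pow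
    zify [h1]
    rw [hc']; push_cast; rw [pow_add]; ring
  have hsn : s = n ∧ m = 2 * n := by
    rw [← hcardM, hm] at hexp
    rcases lt_trichotomy s n with hsn | rfl | hsn
    · exfalso
      obtain ⟨k, rfl⟩ := Nat.exists_eq_add_of_lt hsn
      rcases lt_trichotomy m s with hms | rfl | hms
      · have h1 : 2 ^ m < 2 ^ s := Nat.pow_lt_pow_right (by norm_num) hms
        have h2 : 2 * 2 ^ s ≤ 2 ^ (s + k + 1) := by
          rw [← pow_succ']; exact Nat.pow_le_pow_right (by norm_num) (by omega)
        have h3 : 0 ≤ 2 ^ (s + (s + k + 1)) := Nat.zero_le _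
        linarith
      · have h2 : 2 * 2 ^ m ≤ 2 ^ (m + k + 1) := by
          rw [← pow_succ']; exact Nat.pow_le_pow_right (by norm_num) (by omega)
        have h3 : 0 < 2 ^ (m + (m + k + 1)) := by positivity
        linarith
      · have hd : 2 ^ (s + 1) ∣ 2 ^ s := by
          have ha : 2 ^ (s + 1) ∣ 2 ^ m := pow_dvd_pow 2 hms
          have hb : 2 ^ (s + 1) ∣ 2 ^ (s + (s + k + 1)) + 2 ^ (s + k + 1) :=
            dvd_add (pow_dvd_pow 2 (by omega)) (pow_dvd_pow 2 (by omega))
          exact (Nat.dvd_add_right ha).1 (hexp ▸ hb)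
        have := Nat.le_of_dvd (by positivity) hd
        rw [pow_succ] at this
        have : 0 < 2 ^ s := by positivity
        omega
    · exact ⟨rfl, by
        have h : 2 ^ m = 2 ^ (2 * s) := by rw [two_mul]; omega
        exact Nat.pow_right_injective le_rfl h⟩
    · exfalso
      obtain ⟨k, rfl⟩ := Nat.exists_eq_add_of_lt hsn
      have h0 : 2 ^ n < 2 ^ (n + k + 1) := Nat.pow_lt_pow_right (by norm_num) (by omega)
      have h1 : 2 * 2 ^ (n + k + 1) ≤ 2 ^ (n + k + 1 + n) := by
        rw [← pow_succ']; exact Nat.pow_le_pow_right (by norm_num) (by omega)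
      have hmn : n < m := by
        by_contra h
        have : 2 ^ m ≤ 2 ^ n := Nat.pow_le_pow_right (by norm_num) (by omega)
        omega
      have hd : 2 ^ (n + 1) ∣ 2 ^ n := by
        have hb : 2 ^ (n + 1) ∣ 2 ^ m + 2 ^ (n + k + 1) :=
          dvd_add (pow_dvd_pow 2 hmn) (pow_dvd_pow 2 (by omega))
        exact (Nat.dvd_add_right (pow_dvd_pow 2 (by omega))).1 (hexp ▸ hb)
      have := Nat.le_of_dvd (by positivity) hd
      rw [pow_succ] at this
      omega
  refine ⟨by rw [hm, hsn.2], fun l hl => ?_, fun l hl w hw => ?_⟩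
  · rw [hS l hl, hc', hsn.1]; push_cast; ring
  · obtain ⟨r, hr, hr0⟩ := hrad l hl
    refine hr0 ?_ w hw
    rw [hm, hsn.2, hc', hsn.1] at hr
    push_cast at hr
    have h : (2 : ℤ) ^ (2 * n) * 2 ^ r = 2 ^ (2 * n) * 2 ^ 0 := by
      rw [pow_zero, mul_one, ← hr, two_mul, pow_add]; ring
    have h' := mul_left_cancel₀ (pow_ne_zero _ two_ne_zero) h
    exact Nat.pow_right_injective le_rfl (show 2 ^ r = 2 ^ 0 by exact_mod_cast h')

/-- **No orthogonal decomposition.** -/
theorem no_orthogonal (hq : IsAniso q) {n : ℕ} (hn : 2 ≤ n) (hW : Fintype.card W = 2 ^ n)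
    (hd : IsDouble q n) (F U : Submodule (ZMod 2) M) (hFU : IsCompl F U)
    (horth : ∀ x ∈ F, ∀ y ∈ U, polar q x y = 0) (hF : F ≠ ⊥) (hU : U ≠ ⊥) : False := by
  classical
  have := Finite.of_fintype M
  have := Finite.of_fintype W
  haveI : Finite (W →ₗ[ZMod 2] ZMod 2) := Finite.of_injective _ DFunLike.coe_injective
  have : Fintype (W →ₗ[ZMod 2] ZMod 2) := Fintype.ofFinite _
  have hsq : ∀ l : W →ₗ[ZMod 2] ZMod 2, l ≠ 0 → gauss q l F * gauss q l F = Fintype.card F := by
    intro l hl
    rw [gauss_sq hq l F, show (Finset.univ.filter fun w : F => ∀ v : F, l (polar q v w) = 0) = {0} from ?_]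
    · simp [(hq.eq_zero 0).2 rfl, chi_zero]
    · ext w
      simp only [Finset.mem_filter, Finset.mem_univ, true_and, Finset.mem_singleton]
      constructor
      · intro h
        refine Subtype.ext (hd.nondeg l hl _ fun v => ?_)
        obtain ⟨x, hx, y, hy, rfl⟩ := Submodule.mem_sup.1
          (hFU.sup_eq_top.ge (Submodule.mem_top : v ∈ (⊤ : Submodule (ZMod 2) M)))
        rw [hq.polar_add, map_add, h ⟨x, hx⟩, polar_comm, horth _ w.2 y hy, map_zero, add_zero]
      · rintro rfl v
        rw [Submodule.coe_zero, polar, add_zero, (hq.eq_zero 0).2 rfl, add_zero, add_self, map_zero]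
  have hfin : Module.finrank (ZMod 2) F + Module.finrank (ZMod 2) U = 2 * n := by
    rw [Submodule.finrank_add_eq_of_isCompl hFU]
    have h := Module.natCard_eq_pow_finrank (K := ZMod 2) (V := M)
    rw [Nat.card_zmod, Nat.card_eq_fintype_card, hd.card] at h
    exact (Nat.pow_right_injective le_rfl h).symm
  set f := Module.finrank (ZMod 2) F with hf
  have hFc : Fintype.card F = 2 ^ f := by
    rw [← Nat.card_eq_fintype_card, Module.natCard_eq_pow_finrank (K := ZMod 2), Nat.card_zmod]
  have hUpos : 1 ≤ Module.finrank (ZMod 2) U := Nat.one_le_iff_ne_zero.2 fun h =>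
    hU (Submodule.finrank_eq_zero.1 h)
  obtain ⟨a₀, ha₀⟩ : ∃ a : W, a ≠ 0 := by
    haveI : Nontrivial W := Fintype.one_lt_card_iff_nontrivial.1 (by
      rw [hW]; exact Nat.one_lt_two_pow (by omega))
    exact exists_ne 0
  obtain ⟨l₀, hl₀, -⟩ := exists_functional (e := (0 : W)) ha₀ ha₀
  obtain ⟨i, hi, hii⟩ : ∃ i, i ≤ f ∧ (gauss q l₀ F).natAbs = 2 ^ i := by
    refine (Nat.dvd_prime_pow Nat.prime_two).1 ⟨(gauss q l₀ F).natAbs, ?_⟩
    rw [← Int.natAbs_mul, hsq l₀ (fun h => by simp [h] at hl₀), Int.natAbs_natCast, hFc]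
  have hf2 : f = 2 * i := by
    have h := hsq l₀ (fun h => by simp [h] at hl₀)
    have h' := congrArg Int.natAbs h
    rw [Int.natAbs_mul, hii, Int.natAbs_natCast, hFc, ← pow_add] at h'
    exact (two_mul i).symm ▸ (Nat.pow_right_injective le_rfl h').symm
  have hval : ∀ l : W →ₗ[ZMod 2] ZMod 2, l ≠ 0 → ∃ e : ℤ, (e = 1 ∨ e = -1) ∧
      gauss q l F = 2 ^ i * e := by
    intro l hl
    have h := hsq l hl
    rw [hFc, hf2] at h
    push_cast at h
    rw [two_mul, pow_add] at h
    rcases mul_self_eq_mul_self_iff.1 h with h' | h'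
    · exact ⟨1, .inl rfl, by rw [h', mul_one]⟩
    · exact ⟨-1, .inr rfl, by rw [h', mul_neg_one]⟩
  -- the sum over all functionals
  have htot : ∑ l : W →ₗ[ZMod 2] ZMod 2, gauss q l F = 2 ^ n := by
    simp only [gauss]
    rw [Finset.sum_comm]
    simp only [sum_dual_chi]
    rw [Finset.sum_eq_single (0 : F) (fun x _ hx => if_neg fun h => hx (Subtype.ext ((hq.eq_zero _).1 h)))
      (fun h => absurd (Finset.mem_univ _) h), if_pos (by rw [Submodule.coe_zero]; exact (hq.eq_zero _).2 rfl), hW]
    push_cast; ring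
  rw [← Finset.add_sum_erase _ _ (Finset.mem_univ (0 : W →ₗ[ZMod 2] ZMod 2))] at htot
  have h0 : gauss q 0 F = 2 ^ f := by
    simp only [gauss, LinearMap.zero_apply, chi_zero, Finset.sum_const, Finset.card_univ, hFc,
      nsmul_eq_mul, mul_one]
    push_cast; ring
  rw [h0] at htot
  set s := (Finset.univ.erase (0 : W →ₗ[ZMod 2] ZMod 2)) with hs
  have hscard : Odd s.card := by
    have h1 : Fintype.card (W →ₗ[ZMod 2] ZMod 2) = 2 ^ n := by
      rw [← Nat.card_eq_fintype_card, Module.natCard_eq_pow_finrank (K := ZMod 2),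
        Subspace.dual_finrank_eq, ← Module.natCard_eq_pow_finrank, Nat.card_eq_fintype_card, hW]
    rw [hs, Finset.card_erase_of_mem (Finset.mem_univ _), Finset.card_univ, h1]
    exact Nat.Even.sub_odd Nat.one_le_two_pow (Nat.even_pow.2 ⟨by decide, by omega⟩) odd_one
  obtain ⟨k, hk⟩ : ∃ k : ℤ, ∑ l ∈ s, gauss q l F = 2 ^ i * k ∧ Odd k := by
    choose! e he hge using hval
    refine ⟨∑ l ∈ s, e l, ?_, ?_⟩
    · rw [Finset.mul_sum]
      exact Finset.sum_congr rfl fun l hl => hge l (Finset.mem_erase.1 hl).1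
    · have h : (((∑ l ∈ s, e l : ℤ)) : ZMod 2) = 1 := by
        push_cast
        rw [Finset.sum_congr rfl (fun l hl => by
          rcases he l (Finset.mem_erase.1 hl).1 with h | h <;> rw [h] <;> decide :
            ∀ l ∈ s, ((e l : ℤ) : ZMod 2) = 1), Finset.sum_const, nsmul_eq_mul, mul_one]
        obtain ⟨j, hj⟩ := hscard
        rw [hj]; push_cast
        rw [show (2 : ZMod 2) = 0 from by decide, zero_mul, zero_add]
      rw [← Int.not_even_iff_odd, even_iff_two_dvd]
      intro hev
      obtain ⟨z, hz⟩ := hev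
      rw [hz] at h
      push_cast at h
      rw [show (2 : ZMod 2) = 0 from by decide, zero_mul] at h
      exact zero_ne_one h
  obtain ⟨hk, hkodd⟩ := hk
  rw [hk, hf2] at htot
  have hi0 : 1 ≤ i := by
    have : f ≠ 0 := fun h => hF (Submodule.finrank_eq_zero.1 h)
    omega
  obtain ⟨j, hj⟩ := Nat.exists_eq_add_of_lt (show i < n by omega)
  have h2 : (2 : ℤ) ^ i * k = 2 ^ i * (2 ^ (j + 1) - 2 ^ i) := by
    rw [hj, two_mul, pow_add] at htot
    rw [mul_sub, ← pow_add, ← pow_add, show i + (j + 1) = i + j + 1 by omega, pow_add 2 i i]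
    linarith
  have h3 := mul_left_cancel₀ (pow_ne_zero _ two_ne_zero) h2
  rw [h3, ← Int.not_even_iff_odd] at hkodd
  exact hkodd (Even.sub ((even_two).pow_of_ne_zero (by omega)) ((even_two).pow_of_ne_zero (by omega)))

end Cfsg.Agent.Pyr45
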