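import Cfsg.Agent.Pyr45.Frame

/-!
# All linear maps of a three-space are realised by a doubly transitive group
-/

set_option autoImplicit false
set_option maxHeartbeats 1000000

namespace Cfsg.Agent.Pyr45

variable {H : Type*} [Group H] [Finite H] {V : Type*} [AddCommGroup V] [Module (ZMod 2) V]
  [DistribMulAction H V] [Finite V]

theorem zmod2_cases (c : ZMod 2) : c = 0 ∨ c = 1 := by revert c; decide

theorem card_two_pow (hcard : 8 ≤ Nat.card V) :
    ∃ d, 3 ≤ d ∧ Nat.card V = 2 ^ d ∧ Module.finrank (ZMod 2) V = d := by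
  refine ⟨Module.finrank (ZMod 2) V, ?_, ?_, rfl⟩
  · have h := Module.natCard_eq_pow_finrank (K := ZMod 2) (V := V)
    rw [Nat.card_zmod] at h
    by_contra hd
    have : 2 ^ Module.finrank (ZMod 2) V ≤ 2 ^ 2 := Nat.pow_le_pow_right (by norm_num) (by omega)
    omega
  · rw [Module.natCard_eq_pow_finrank (K := ZMod 2) (V := V), Nat.card_zmod]

theorem exists_third (hcard : 8 ≤ Nat.card V) (x y : V) : ∃ z, z ≠ x ∧ z ≠ y := by
  classical
  have := Fintype.ofFinite V
  by_contra h
  push Not at h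
  have hsub : (Finset.univ : Finset V) ⊆ {x, y} := fun z _ => by
    rcases em (z = x) with hz | hz
    · simp [hz]
    · simp [h z hz]
  have h1 := (Finset.card_le_card hsub).trans Finset.card_le_two
  rw [Finset.card_univ, ← Nat.card_eq_fintype_card] at h1
  omega

theorem smul_ne_zero' {h : H} {x : V} (hx : x ≠ 0) : h • x ≠ 0 := fun hc => hx (by
  have := congrArg (h⁻¹ • ·) hc
  simpa using this)

/-- The stabiliser of a functional is transitive on the vectors outside its kernel. -/
theorem exists_stab_dual (hcard : 8 ≤ Nat.card V) (h2 : TwoTrans H V)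
    (l : V →ₗ[ZMod 2] ZMod 2) {x y : V} (hx : l x = 1) (hy : l y = 1) :
    ∃ g : H, (∀ z, l (g • z) = l z) ∧ g • x = y := by
  have hx0 : x ≠ 0 := fun h => by simp [h] at hx
  have hy0 : y ≠ 0 := fun h => by simp [h] at hy
  obtain ⟨x', hx'0, hx'x⟩ := exists_third hcard (0 : V) x
  obtain ⟨y', hy'0, hy'y⟩ := exists_third hcard (0 : V) y
  obtain ⟨h, hh, -⟩ := h2 x x' y y' hx0 hx'0 (Ne.symm hx'x) hy0 hy'0 (Ne.symm hy'y)
  obtain ⟨g, hg, hgl⟩ := exists_fix_dual hcard h2 hx0 (l.comp (lin h)) l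
    (by simp [hh, hy]) hx
  refine ⟨h * g, fun z => ?_, by rw [mul_smul, hg, hh]⟩
  rw [mul_smul]
  simpa using hgl z

/-- A Sylow 2-subgroup fixes a hyperplane, and is transitive outside it. -/
theorem exists_hyperplane (hcard : 8 ≤ Nat.card V) (h2 : TwoTrans H V) (T : Sylow 2 H) :
    ∃ l : V →ₗ[ZMod 2] ZMod 2, l ≠ 0 ∧ (∀ t ∈ T, ∀ x, l (t • x) = l x) ∧
      ∀ x y, l x = 1 → l y = 1 → ∃ t ∈ T, t • x = y := by
  classical
  obtain ⟨d, hd, hV, hfin⟩ := card_two_pow hcard
  haveI : Finite (DV H V) :=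
    show Finite (V →ₗ[ZMod 2] ZMod 2) from Finite.of_injective _ DFunLike.coe_injective
  haveI : Fact (Nat.Prime 2) := ⟨Nat.prime_two⟩
  have hDcard : 2 ∣ Nat.card (DV H V) := by
    change 2 ∣ Nat.card (V →ₗ[ZMod 2] ZMod 2)
    rw [Module.natCard_eq_pow_finrank (K := ZMod 2) (V := V →ₗ[ZMod 2] ZMod 2), Nat.card_zmod]
    refine dvd_pow_self 2 ?_
    rw [Subspace.dual_finrank_eq, hfin]
    omega
  have h0 : DV.ofLin (0 : V →ₗ[ZMod 2] ZMod 2) ∈ MulAction.fixedPoints T (DV H V) := fun t => rfl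
  obtain ⟨l', hl', hne⟩ :=
    T.isPGroup'.exists_fixed_point_of_prime_dvd_card_of_fixed_point (DV H V) hDcard h0
  set l := l'.toLin with hl
  have hl0 : l ≠ 0 := fun h => hne (show (0 : V →ₗ[ZMod 2] ZMod 2) = l from h.symm)
  have hinv : ∀ t ∈ T, ∀ x, l (t • x) = l x := by
    intro t ht x
    have h := LinearMap.congr_fun (congrArg DV.toLin (hl' ⟨t, ht⟩)) (t • x)
    change l'.toLin (t⁻¹ • t • x) = _ at h
    rw [inv_smul_smul] at h
    exact h.symm
  refine ⟨l, hl0, hinv, fun x y hx hy => ?_⟩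
  let Hl : Subgroup H :=
    { carrier := {g | ∀ z, l (g • z) = l z}
      one_mem' := fun z => by simp
      mul_mem' := fun {a b} ha hb z => by rw [mul_smul, ha, hb]
      inv_mem' := fun {a} ha z => by have := ha (a⁻¹ • z); simpa using this.symm }
  have hTl : (T : Subgroup H) ≤ Hl := fun t ht => hinv t ht
  let A : Set V := {z | l z = 1}
  have horbH : MulAction.orbit Hl x = A := by
    ext z
    constructor
    · rintro ⟨g, rfl⟩
      exact (g.2 x).trans hx
    · intro hz
      obtain ⟨g, hg, hgx⟩ := exists_stab_dual hcard h2 l hx hz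
      exact ⟨⟨g, hg⟩, hgx⟩
  have hsub : MulAction.orbit (T : Subgroup H) x ⊆ A := by
    rintro _ ⟨t, rfl⟩
    exact (hinv t t.2 x).trans hx
  -- counting
  have hAH : Nat.card A * Nat.card (MulAction.stabilizer Hl x) = Nat.card Hl := by
    rw [← horbH, ← Nat.card_prod, Nat.card_congr (MulAction.orbitProdStabilizerEquivGroup Hl x)]
  have hAT : Nat.card (MulAction.orbit (T : Subgroup H) x) *
      Nat.card (MulAction.stabilizer (T : Subgroup H) x) = Nat.card (T : Subgroup H) := by
    rw [← Nat.card_prod, Nat.card_congr (MulAction.orbitProdStabilizerEquivGroup _ x)]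
  obtain ⟨j, hj⟩ : Nat.card (MulAction.stabilizer (T : Subgroup H) x) ∣
      Nat.card (MulAction.stabilizer Hl x) := by
    let f : MulAction.stabilizer (T : Subgroup H) x →* MulAction.stabilizer Hl x :=
      MonoidHom.mk' (fun t => ⟨⟨t.1.1, hTl t.1.2⟩, t.2⟩) fun a b => rfl
    exact Subgroup.card_dvd_of_injective f fun a b hab =>
      Subtype.ext (Subtype.ext (congrArg (fun u : MulAction.stabilizer Hl x => (u : H)) hab))
  obtain ⟨m, hm⟩ : Nat.card (T : Subgroup H) ∣ Nat.card Hl := Subgroup.card_dvd_of_le hTl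
  have hmodd : ¬ 2 ∣ m := by
    intro h
    refine T.not_dvd_index ?_
    have h1 : Nat.card (T : Subgroup H) * m ∣ Nat.card (T : Subgroup H) * (T : Subgroup H).index := by
      rw [Subgroup.card_mul_index, ← hm]
      exact Subgroup.card_subgroup_dvd_card Hl
    exact h.trans (Nat.dvd_of_mul_dvd_mul_left Nat.card_pos h1)
  have hkey : Nat.card A * j = m * Nat.card (MulAction.orbit (T : Subgroup H) x) := by
    refine Nat.eq_of_mul_eq_mul_right (Nat.card_pos (α := MulAction.stabilizer (T : Subgroup H) x)) ?_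
    rw [mul_assoc, mul_assoc, hAT, mul_comm j, ← hj, hAH, hm, mul_comm]
  obtain ⟨i, hi⟩ : ∃ i, Nat.card A = 2 ^ i := by
    refine ⟨Module.finrank (ZMod 2) (LinearMap.ker l), ?_⟩
    have : Nat.card A = Nat.card (LinearMap.ker l) := by
      refine Nat.card_congr
        { toFun := fun z => ⟨z.1 + x, by
            rw [LinearMap.mem_ker, map_add, show l z.1 = 1 from z.2, hx]; rfl⟩
          invFun := fun z => ⟨z.1 + x, by
            show l (z.1 + x) = 1
            rw [map_add, LinearMap.mem_ker.1 z.2, hx, zero_add]⟩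
          left_inv := fun z => Subtype.ext (by simp [add_assoc, add_self])
          right_inv := fun z => Subtype.ext (by simp [add_assoc, add_self]) }
    rw [this, Module.natCard_eq_pow_finrank (K := ZMod 2) (V := LinearMap.ker l), Nat.card_zmod]
  have hdvd : Nat.card A ∣ Nat.card (MulAction.orbit (T : Subgroup H) x) := by
    refine (Nat.Coprime.dvd_of_dvd_mul_left ?_ ⟨j, hkey.symm⟩)
    rw [hi]
    exact Nat.Coprime.pow_left _ ((Nat.Prime.coprime_iff_not_dvd Nat.prime_two).2 hmodd)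
  have heq : MulAction.orbit (T : Subgroup H) x = A := by
    refine Set.eq_of_subset_of_ncard_le hsub ?_ (Set.toFinite _)
    rw [← Nat.card_coe_set_eq, ← Nat.card_coe_set_eq]
    refine Nat.le_of_dvd ?_ hdvd
    haveI : Nonempty (MulAction.orbit (T : Subgroup H) x) := ⟨⟨x, MulAction.mem_orbit_self x⟩⟩
    exact Nat.card_pos
  have hy' : y ∈ MulAction.orbit (T : Subgroup H) x := by rw [heq]; exact hy
  obtain ⟨t, ht⟩ := hy'
  exact ⟨t.1, t.2, ht⟩

/-- A Sylow 2-subgroup fixes a point and a line of its hyperplane. -/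
theorem exists_flag (hcard : 8 ≤ Nat.card V) (T : Sylow 2 H) (l : V →ₗ[ZMod 2] ZMod 2)
    (hl0 : l ≠ 0) (hinv : ∀ t ∈ T, ∀ x, l (t • x) = l x) :
    ∃ e v : V, e ≠ 0 ∧ v ≠ 0 ∧ v ≠ e ∧ l e = 0 ∧ l v = 0 ∧ (∀ t ∈ T, t • e = e) ∧
      ∀ t ∈ T, t • v = v ∨ t • v = v + e := by
  classical
  haveI : Fact (Nat.Prime 2) := ⟨Nat.prime_two⟩
  obtain ⟨d, hd, hV, hfin⟩ := card_two_pow hcard
  have hkfin : d - 1 ≤ Module.finrank (ZMod 2) (LinearMap.ker l) := by
    have h1 := LinearMap.finrank_range_add_finrank_ker l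
    have h2 := Submodule.finrank_le (LinearMap.range l)
    rw [Module.finrank_self] at h2
    omega
  have hkeven : 2 ∣ Nat.card (LinearMap.ker l) := by
    rw [Module.natCard_eq_pow_finrank (K := ZMod 2) (V := LinearMap.ker l), Nat.card_zmod]
    exact dvd_pow_self 2 (by omega)
  letI aK : MulAction (T : Subgroup H) (LinearMap.ker l) :=
    { smul := fun t z => ⟨(t : H) • z.1, by
        rw [LinearMap.mem_ker, hinv t t.2, LinearMap.mem_ker.1 z.2]⟩
      one_smul := fun z => Subtype.ext (one_smul H z.1)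
      mul_smul := fun a b z => Subtype.ext (mul_smul (a : H) (b : H) z.1) }
  obtain ⟨e', he', hne⟩ :=
    T.isPGroup'.exists_fixed_point_of_prime_dvd_card_of_fixed_point (LinearMap.ker l) hkeven
      (a := (0 : LinearMap.ker l)) (fun t => Subtype.ext (smul_zero (t : H)))
  set e : V := e'.1 with he
  have he0 : e ≠ 0 := fun h => hne (Subtype.ext h.symm)
  have hle : l e = 0 := LinearMap.mem_ker.1 e'.2
  have hte : ∀ t ∈ T, t • e = e := fun t ht => congrArg Subtype.val (he' ⟨t, ht⟩)
  set U := Submodule.span (ZMod 2) ({e} : Set V) with hU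
  set W := (LinearMap.ker l).map U.mkQ with hW
  have hUinv : ∀ t ∈ T, U ≤ U.comap (lin t) := by
    intro t ht
    rw [hU, Submodule.span_le]
    rintro _ rfl
    rw [SetLike.mem_coe, Submodule.mem_comap, lin_apply, hte t ht]
    exact Submodule.mem_span_singleton_self e
  letI aW : MulAction (T : Subgroup H) W :=
    { smul := fun t q => ⟨U.mapQ U (lin (t : H)) (hUinv t t.2) q.1, by
        obtain ⟨z, hz, hzq⟩ := q.2
        refine ⟨(t : H) • z, ?_, ?_⟩
        · rw [SetLike.mem_coe, LinearMap.mem_ker, hinv t t.2, LinearMap.mem_ker.1 hz]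
        · rw [← hzq]
          rfl⟩
      one_smul := fun q => by
        obtain ⟨z, hz, hzq⟩ := q.2
        refine Subtype.ext ?_
        change U.mapQ U (lin ((1 : (T : Subgroup H)) : H)) _ q.1 = q.1
        rw [← hzq]
        change U.mkQ ((1 : H) • z) = U.mkQ z
        rw [one_smul]
      mul_smul := fun a b q => by
        obtain ⟨z, hz, hzq⟩ := q.2
        refine Subtype.ext ?_
        change U.mapQ U (lin ((a * b : (T : Subgroup H)) : H)) _ q.1 =
          U.mapQ U (lin (a : H)) _ (U.mapQ U (lin (b : H)) _ q.1)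
        rw [← hzq]
        change U.mkQ (((a : H) * (b : H)) • z) = U.mkQ ((a : H) • (b : H) • z)
        rw [mul_smul] }
  have hUfin : Module.finrank (ZMod 2) U = 1 := finrank_span_singleton he0
  have hWne : W ≠ ⊥ := by
    intro h
    have hle' : LinearMap.ker l ≤ U := by
      intro z hz
      have : U.mkQ z ∈ W := ⟨z, hz, rfl⟩
      rw [h, Submodule.mem_bot] at this
      exact (Submodule.Quotient.mk_eq_zero U).1 this
    have h3 := Submodule.finrank_mono hle'
    omega
  haveI : Finite (V ⧸ U) := Finite.of_surjective _ U.mkQ_surjective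
  have hWeven : 2 ∣ Nat.card W := by
    rw [Module.natCard_eq_pow_finrank (K := ZMod 2) (V := W), Nat.card_zmod]
    exact dvd_pow_self 2 fun h => hWne (Submodule.finrank_eq_zero.1 h)
  obtain ⟨q, hq, hqne⟩ :=
    T.isPGroup'.exists_fixed_point_of_prime_dvd_card_of_fixed_point W hWeven
      (a := (0 : W)) (fun t => Subtype.ext (map_zero _))
  obtain ⟨v, hv, hvq⟩ := q.2
  have hvU : v ∉ U := fun h => hqne (Subtype.ext (by
    rw [← hvq]; exact ((Submodule.Quotient.mk_eq_zero U).2 h).symm))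
  refine ⟨e, v, he0, fun h => hvU (h ▸ zero_mem U),
    fun h => hvU (h ▸ Submodule.mem_span_singleton_self e), hle, LinearMap.mem_ker.1 hv, hte,
    fun t ht => ?_⟩
  have h1 : U.mkQ (t • v) = U.mkQ v := by
    have := congrArg Subtype.val (hq ⟨t, ht⟩)
    change U.mapQ U (lin t) _ q.1 = q.1 at this
    rwa [← hvq] at this
  have h2 : t • v + v ∈ U := by
    have := (Submodule.Quotient.eq U).1 h1
    rwa [sub_eq_add_neg, neg_eq_of_add_eq_zero_left (add_self v)] at this
  obtain ⟨c, hc⟩ := Submodule.mem_span_singleton.1 h2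
  rcases zmod2_cases c with rfl | rfl
  · left
    rw [zero_smul] at hc
    exact (neg_eq_of_add_eq_zero_left hc.symm).symm.trans (neg_eq_of_add_eq_zero_left (add_self v))
  · right
    rw [one_smul] at hc
    rw [hc, add_comm v, add_assoc, add_self, add_zero]

/-- **Some three-space has all of `GL₃(2)` realised on it.** -/
theorem exists_frame (hcard : 8 ≤ Nat.card V) (h2 : TwoTrans H V) :
    ∃ ι : Vec →ₗ[ZMod 2] V, Function.Injective ι ∧ Realizes H ι r0 ∧ Realizes H ι tr := by
  classical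
  have := Fintype.ofFinite V
  obtain ⟨T⟩ := (inferInstance : Nonempty (Sylow 2 H))
  obtain ⟨l, hl0, hinv, htrans⟩ := exists_hyperplane hcard h2 T
  obtain ⟨e, v, he0, hv0, hve, hle, hlv, hte, htv⟩ := exists_flag hcard T l hl0 hinv
  obtain ⟨a, ha⟩ : ∃ a, l a = 1 := by
    by_contra h
    push Not at h
    exact hl0 (LinearMap.ext fun z => ((zmod2_cases (l z)).resolve_right (h z)))
  set ι := comb e v a with hι
  have hinj : Function.Injective ι := by
    rw [injective_iff_map_eq_zero]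
    rintro ⟨x, y, z⟩ h
    rw [hι, comb_apply] at h
    have hz : z = 0 := by
      have := congrArg l h
      simpa [hle, hlv, ha] using this
    subst hz
    simp only [zero_smul, add_zero] at h
    rcases zmod2_cases x with rfl | rfl <;> rcases zmod2_cases y with rfl | rfl <;>
      simp only [zero_smul, one_smul, zero_add, add_zero] at h
    · rfl
    · exact absurd h hv0
    · exact absurd h he0
    · exact absurd (((neg_eq_of_add_eq_zero_left h).symm).trans
        (neg_eq_of_add_eq_zero_left (add_self v))).symm hve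
  have hιe : ι (1, 0, 0) = e := by simp [hι, comb_apply]
  have hιv : ι (0, 1, 0) = v := by simp [hι, comb_apply]
  have hιa : ι (0, 0, 1) = a := by simp [hι, comb_apply]
  have hιxy : ∀ x y z : ZMod 2, ι (x, y, z) = x • e + (y • v + z • a) := fun x y z => by
    simp [hι, comb_apply]
  -- an element of `T` mapping `a` to a given vector outside the hyperplane
  have hT : ∀ b, l b = 1 → ∃ t ∈ T, ∃ c : ZMod 2, t • e = e ∧ t • v = v + c • e ∧ t • a = b ∧
      t⁻¹ • e = e ∧ t⁻¹ • v = v + c • e ∧ t⁻¹ • b = a := by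
    intro b hb
    obtain ⟨t, ht, hta⟩ := htrans a b ha hb
    obtain ⟨c, hc⟩ : ∃ c : ZMod 2, t • v = v + c • e := by
      rcases htv t ht with h | h
      · exact ⟨0, by simp [h]⟩
      · exact ⟨1, by simp [h]⟩
    have he1 : t⁻¹ • e = e := inv_smul_eq_iff.2 (hte t ht).symm
    refine ⟨t, ht, c, hte t ht, hc, hta, he1, ?_, inv_smul_eq_iff.2 hta.symm⟩
    rw [inv_smul_eq_iff, smul_add, hc, smul_zsmul2, hte t ht, add_assoc, add_self, add_zero]
  -- translations
  obtain ⟨τ₁, -, b, hτ₁e, hτ₁v, hτ₁a, -, -, -⟩ := hT (a + e) (by simp [ha, hle])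
  have hg3 : Realizes H ι (t1 b) := ⟨τ₁, realizes_of_basis τ₁
    (by rw [hιe, hτ₁e]; simp [t1, hιe])
    (by rw [hιv, hτ₁v]; simp [t1, hιxy, add_comm])
    (by rw [hιa, hτ₁a]; simp [t1, hιxy, add_comm])⟩
  obtain ⟨τ₂, -, c, hτ₂e, hτ₂v, hτ₂a, -, -, -⟩ := hT (a + v) (by simp [ha, hlv])
  have hg4 : Realizes H ι (t2 c) := ⟨τ₂, realizes_of_basis τ₂
    (by rw [hιe, hτ₂e]; simp [t2, hιe])
    (by rw [hιv, hτ₂v]; simp [t2, hιxy, add_comm])
    (by rw [hιa, hτ₂a]; simp [t2, hιxy, add_comm])⟩
  set A : Finset V := Finset.univ.filter (fun z => l z = 1) with hA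
  have hA2 : 2 * A.card = Fintype.card V := by
    have hc := Finset.card_filter_add_card_filter_not
      (s := (Finset.univ : Finset V)) (fun z => l z = 1)
    have hb : (Finset.univ.filter (fun z => ¬ l z = 1)).card = A.card := by
      refine Finset.card_bij' (fun z _ => z + a) (fun z _ => z + a) ?_ ?_ ?_ ?_
      · intro z hz
        simp only [Finset.mem_filter, Finset.mem_univ, true_and, hA, map_add, ha] at hz ⊢
        rw [(zmod2_cases (l z)).resolve_right hz, zero_add]
      · intro z hz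
        simp only [Finset.mem_filter, Finset.mem_univ, true_and, hA, map_add, ha] at hz ⊢
        rw [hz]; decide
      · intro z _; simp [add_assoc, add_self]
      · intro z _; simp [add_assoc, add_self]
    rw [hb, Finset.card_univ, ← hA] at hc
    omega
  -- exchanging `e` and `v`
  obtain ⟨g₀, hg₀e, hg₀v⟩ := h2 e v v e he0 hv0 (Ne.symm hve) hv0 he0 hve
  obtain ⟨x, y, hg1⟩ : ∃ x y, Realizes H ι (m12 x y) := by
    have hnd : ¬ Disjoint A (A.image (g₀ • ·)) := by
      intro hd
      have hsub : A ∪ A.image (g₀ • ·) ⊆ Finset.univ.erase 0 := by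
        intro z hz
        simp only [Finset.mem_union, Finset.mem_image, hA, Finset.mem_filter, Finset.mem_univ,
          true_and] at hz
        refine Finset.mem_erase.2 ⟨?_, Finset.mem_univ _⟩
        rcases hz with hz | ⟨w, hw, rfl⟩
        · rintro rfl; simp at hz
        · exact smul_ne_zero' (by rintro rfl; simp at hw)
      have h := Finset.card_le_card hsub
      rw [Finset.card_union_of_disjoint hd, Finset.card_image_of_injective _ (MulAction.injective g₀),
        Finset.card_erase_of_mem (Finset.mem_univ _), Finset.card_univ] at h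
      have : 0 < Fintype.card V := Fintype.card_pos
      omega
    obtain ⟨w, hw1, hw2⟩ := Finset.not_disjoint_iff.1 hnd
    simp only [Finset.mem_image, hA, Finset.mem_filter, Finset.mem_univ, true_and] at hw1 hw2
    obtain ⟨a₂, ha₂, rfl⟩ := hw2
    obtain ⟨s₁, -, x, -, -, -, hs₁e, hs₁v, hs₁a⟩ := hT _ hw1
    obtain ⟨s₂, -, y, hs₂e, hs₂v, hs₂a, -, -, -⟩ := hT _ ha₂
    refine ⟨x, y, s₁⁻¹ * g₀ * s₂, realizes_of_basis _ ?_ ?_ ?_⟩
    · rw [hιe, mul_smul, mul_smul, hs₂e, hg₀e, hs₁v]
      simp [m12, hιxy, add_comm]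
    · rw [hιv, mul_smul, mul_smul, hs₂v, smul_add, smul_zsmul2, hg₀v, hg₀e, smul_add, smul_zsmul2,
        hs₁e, hs₁v]
      simp only [m12, hιxy, smul_add, smul_smul, add_smul, one_smul, zero_smul, add_zero]
      rw [mul_comm y x]
      abel
    · rw [hιa, mul_smul, mul_smul, hs₂a, hs₁a]
      simp [m12, hιxy]
  -- exchanging `v` and `a`
  obtain ⟨z, u, hg2⟩ : ∃ z u, Realizes H ι (m23 z u) := by
    set Y : Finset V := (Finset.univ.erase 0).erase e with hY
    have hYe : ∀ y' ∈ Y, ∃ g : H, g • e = e ∧ g • v = y' := fun y' hy' => by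
      simp only [hY, Finset.mem_erase, Finset.mem_univ, and_true] at hy'
      exact h2 e v e y' he0 hv0 (Ne.symm hve) he0 hy'.2 (Ne.symm hy'.1)
    let gy : V → H := fun y' => if h : y' ∈ Y then (hYe y' h).choose else 1
    have hgy : ∀ y' ∈ Y, gy y' • e = e ∧ gy y' • v = y' := fun y' hy' => by
      simp only [gy, hy', dif_pos]
      exact (hYe y' hy').choose_spec
    have hmemY : ∀ p ∈ Y ×ˢ A, gy p.1 • p.2 ∈ Y := by
      rintro ⟨y', w⟩ hp
      simp only [Finset.mem_product] at hp
      obtain ⟨hy', hw⟩ := hp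
      simp only [hA, Finset.mem_filter, Finset.mem_univ, true_and] at hw
      simp only [hY, Finset.mem_erase, Finset.mem_univ, and_true, ne_eq]
      refine ⟨fun h => ?_, smul_ne_zero' (by rintro rfl; simp at hw)⟩
      have : w = e := MulAction.injective (gy y') (h.trans (hgy y' hy').1.symm)
      rw [this, hle] at hw
      exact zero_ne_one hw
    let Φ : V × V → V × V := fun p => (p.1, gy p.1 • p.2)
    let Φ' : V × V → V × V := fun p => (gy p.1 • p.2, p.1)
    have hΦ : Function.Injective Φ := by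
      rintro ⟨y₁, w₁⟩ ⟨y₂, w₂⟩ h
      simp only [Φ, Prod.mk.injEq] at h
      obtain ⟨rfl, h⟩ := h
      exact Prod.ext rfl (MulAction.injective _ h)
    have hΦ' : Function.Injective Φ' := by
      rintro ⟨y₁, w₁⟩ ⟨y₂, w₂⟩ h
      simp only [Φ', Prod.mk.injEq] at h
      obtain ⟨h, rfl⟩ := h
      exact Prod.ext rfl (MulAction.injective _ h)
    have hnd : ¬ Disjoint ((Y ×ˢ A).image Φ) ((Y ×ˢ A).image Φ') := by
      intro hd
      have hsub : (Y ×ˢ A).image Φ ∪ (Y ×ˢ A).image Φ' ⊆ Y ×ˢ Y := by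
        intro p hp
        simp only [Finset.mem_union, Finset.mem_image] at hp
        rcases hp with ⟨q, hq, rfl⟩ | ⟨q, hq, rfl⟩
        · exact Finset.mem_product.2 ⟨(Finset.mem_product.1 hq).1, hmemY q hq⟩
        · exact Finset.mem_product.2 ⟨hmemY q hq, (Finset.mem_product.1 hq).1⟩
      have h := Finset.card_le_card hsub
      rw [Finset.card_union_of_disjoint hd, Finset.card_image_of_injective _ hΦ,
        Finset.card_image_of_injective _ hΦ', Finset.card_product, Finset.card_product] at h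
      have hYc : Y.card + 2 = Fintype.card V := by
        rw [hY, Finset.card_erase_of_mem (Finset.mem_erase.2 ⟨he0, Finset.mem_univ _⟩),
          Finset.card_erase_of_mem (Finset.mem_univ _), Finset.card_univ]
        have : 8 ≤ Fintype.card V := by rw [← Nat.card_eq_fintype_card]; exact hcard
        omega
      have h8 : 8 ≤ Fintype.card V := by rw [← Nat.card_eq_fintype_card]; exact hcard
      have h' : Y.card * (2 * A.card) ≤ Y.card * Y.card := by
        calc Y.card * (2 * A.card) = Y.card * A.card + Y.card * A.card := by ring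
          _ ≤ Y.card * Y.card := h
      have := Nat.le_of_mul_le_mul_left h' (by omega)
      omega
    obtain ⟨p, hp1, hp2⟩ := Finset.not_disjoint_iff.1 hnd
    simp only [Finset.mem_image, Finset.mem_product] at hp1 hp2
    obtain ⟨⟨y₁, a₁⟩, ⟨hy₁, ha₁⟩, rfl⟩ := hp1
    obtain ⟨⟨y₂, a₂⟩, ⟨hy₂, ha₂⟩, hp⟩ := hp2
    simp only [Φ, Φ', Prod.mk.injEq] at hp
    simp only [hA, Finset.mem_filter, Finset.mem_univ, true_and] at ha₁ ha₂
    obtain ⟨hp1, hp2⟩ := hp
    obtain ⟨hg₁e, hg₁v⟩ := hgy y₁ hy₁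
    obtain ⟨hg₂e, hg₂v⟩ := hgy y₂ hy₂
    have hh1 : (gy y₁)⁻¹ • e = e := inv_smul_eq_iff.2 hg₁e.symm
    have hhv : ((gy y₁)⁻¹ * gy y₂) • v = a₁ := by
      rw [mul_smul, hg₂v, hp2, inv_smul_smul]
    have hha : ((gy y₁)⁻¹ * gy y₂) • a₂ = v := by
      rw [mul_smul, hp1, inv_smul_eq_iff, hg₁v]
    obtain ⟨s₁, -, z, -, -, -, hs₁e, hs₁v, hs₁a⟩ := hT _ ha₁
    obtain ⟨s₂, -, u, hs₂e, hs₂v, hs₂a, -, -, -⟩ := hT _ ha₂
    have hhe : ((gy y₁)⁻¹ * gy y₂) • e = e := by rw [mul_smul, hg₂e, hh1]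
    refine ⟨z, u, s₁⁻¹ * ((gy y₁)⁻¹ * gy y₂) * s₂, realizes_of_basis _ ?_ ?_ ?_⟩
    · rw [hιe, mul_smul, mul_smul s₁⁻¹, hs₂e, hhe, hs₁e]
      simp [m23, hιe]
    · rw [hιv, mul_smul, mul_smul s₁⁻¹, hs₂v, smul_add, smul_zsmul2, hhv, hhe, smul_add, smul_zsmul2,
        hs₁e, hs₁a]
      simp [m23, hιxy, add_comm]
    · rw [hιa, mul_smul, mul_smul s₁⁻¹, hs₂a, hha, hs₁v]
      simp [m23, hιxy, add_comm]
  obtain ⟨⟨w, -, hw⟩, htr⟩ := words_cover x y z u b c
  have hall : ∀ m ∈ [m12 x y, m23 z u, t1 b, t2 c], Realizes H ι m := by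
    intro m hm
    simp only [List.mem_cons, List.not_mem_nil, or_false] at hm
    rcases hm with rfl | rfl | rfl | rfl
    exacts [hg1, hg2, hg3, hg4]
  exact ⟨ι, hinj, hw ▸ Realizes.word hall w, htr ▸ Realizes.word hall wordT⟩

end Cfsg.Agent.Pyr45
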