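import Cfsg.Agent.Pyr45.KernelCore
import Cfsg.Agent.Pyr45.Special
import Cfsg.Agent.H40.FactorTwo.MaxTwoPart
import Mathlib.GroupTheory.Perm.Cycle.Type

/-!
# The kernel of the action on the involutions is solvable
-/

set_option autoImplicit false

namespace Cfsg.Agent.Pyr45

open Subgroup

universe u

/-- Conjugation by an element normalising `A`. -/
def normAut {G : Type*} [Group G] (A : Subgroup G) : normalizer (A : Set G) →* MulAut A where
  toFun g :=
    { toFun := fun x => ⟨(g : G) * x * (g : G)⁻¹, (mem_normalizer_iff.1 g.2 _).1 x.2⟩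
      invFun := fun x => ⟨(g : G)⁻¹ * x * (g : G),
        (mem_normalizer_iff.1 g.2 _).2 (by
          rw [show (g : G) * ((g : G)⁻¹ * (x : G) * g) * (g : G)⁻¹ = x by group]; exact x.2)⟩
      left_inv := fun x => Subtype.ext (by group)
      right_inv := fun x => Subtype.ext (by group)
      map_mul' := fun x y => Subtype.ext (by simp [mul_assoc]) }
  map_one' := MulEquiv.ext fun x => Subtype.ext (by simp)
  map_mul' g h := MulEquiv.ext fun x => Subtype.ext (by simp [mul_assoc])

@[simp] theorem normAut_apply {G : Type*} [Group G] (A : Subgroup G) (g : normalizer (A : Set G))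
    (x : A) : ((normAut A g x : A) : G) = (g : G) * x * (g : G)⁻¹ := rfl

/-- A linear map of odd order fixing a non-zero vector, and preserving a non-degenerate
system of forms, is trivial. -/
theorem fixed_trivial {M W : Type*} [AddCommGroup M] [Module (ZMod 2) M] [Fintype M]
    [AddCommGroup W] [Module (ZMod 2) W] [Fintype W] [Fintype (⊤ : Submodule (ZMod 2) M)]
    {q : M → W} (hq : IsAniso q) {n : ℕ} (hn : 2 ≤ n) (hW : Fintype.card W = 2 ^ n)
    (hd : IsDouble q n) (T : M →ₗ[ZMod 2] M) {m : ℕ} (hm : Odd m)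
    (hT : ∀ x, T^[m] x = x) (hTq : ∀ x, q (T x) = q x) {u : M} (hu : u ≠ 0) (hTu : T u = u)
    (x : M) : T x = x := by
  set S := T + LinearMap.id with hS
  set F := LinearMap.ker S with hF
  set U := LinearMap.range S with hU
  have hSx : ∀ y, S y = T y + y := fun y => rfl
  have hFm : ∀ y, y ∈ F ↔ T y = y := fun y => by
    rw [hF, LinearMap.mem_ker, hSx]
    constructor
    · intro h; exact add_right_cancel (h.trans (add_self y).symm)
    · intro h; rw [h, add_self]
  have hTit : ∀ (i : ℕ) (a b : M), T^[i] (a + b) = T^[i] a + T^[i] b := by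
    intro i
    induction i with
    | zero => simp
    | succ i ih => intro a b; simp [Function.iterate_succ_apply', ih]
  have hdiff : ∀ (i : ℕ) (y : M), T^[i] y + y ∈ U := by
    intro i
    induction i with
    | zero => intro y; simp [add_self]
    | succ i ih =>
      intro y
      rw [Function.iterate_succ_apply', show T (T^[i] y) + y =
        S (T^[i] y) + (T^[i] y + y) by rw [hSx, add_assoc, ← add_assoc (T^[i] y), add_self, zero_add]]
      exact add_mem (LinearMap.mem_range_self S _) (ih y)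
  set av : M → M := fun y => ∑ i ∈ Finset.range m, T^[i] y with hav
  have hsum_self : ∀ z : M, ∑ _i ∈ Finset.range m, z = z := by
    intro z
    obtain ⟨l, rfl⟩ := hm
    rw [Finset.sum_const, Finset.card_range, add_nsmul, one_nsmul, mul_nsmul, two_nsmul, add_self,
      smul_zero, zero_add]
  have havF : ∀ y, T (av y) = av y := by
    intro y
    rw [hav]
    simp only [map_sum, ← Function.iterate_succ_apply' T]
    have h1 := Finset.sum_range_succ (fun i => T^[i] y) m
    rw [Finset.sum_range_succ', hT, Function.iterate_zero_apply] at h1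
    exact add_right_cancel h1
  have havid : ∀ y, T y = y → av y = y := by
    intro y hy
    have h : ∀ i, T^[i] y = y := fun i => by
      induction i with
      | zero => rfl
      | succ i ih => rw [Function.iterate_succ_apply', ih, hy]
    rw [hav]
    simp only [h]
    exact hsum_self y
  have havU : ∀ y ∈ U, av y = 0 := by
    rintro _ ⟨z, rfl⟩
    have : av (S z) = av (T z) + av z := by
      rw [hav]; simp only [hSx, hTit, Finset.sum_add_distrib]
    rw [this, show av (T z) = av z from ?_, add_self]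
    rw [← havF z, hav]
    simp only [map_sum, ← Function.iterate_succ_apply' T, ← Function.iterate_succ_apply]
  have hdisj : Disjoint F U := by
    rw [Submodule.disjoint_def]
    intro y hy hyU
    rw [← havid y ((hFm y).1 hy), havU y hyU]
  have hcod : Codisjoint F U := by
    rw [codisjoint_iff, eq_top_iff]
    intro y _
    refine Submodule.mem_sup.2 ⟨av y, (hFm _).2 (havF y), av y + y, ?_, ?_⟩
    · have h := Submodule.sum_mem U (t := Finset.range m) (fun i _ => hdiff i y)
      rw [Finset.sum_add_distrib, hsum_self y] at h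
      exact h
    · rw [← add_assoc, add_self, zero_add]
  have hinv : ∀ a b, polar q (T a) (T b) = polar q a b := fun a b => by
    unfold polar; rw [← map_add, hTq, hTq, hTq]
  have hU0 : U = ⊥ := by
    by_contra hU0
    refine no_orthogonal hq hn hW hd F U ⟨hdisj, hcod⟩ ?_ (fun hb => ?_) hU0
    · rintro a ha _ ⟨b, rfl⟩
      rw [hSx, polar_comm, hq.polar_add, polar_comm (T b), polar_comm b]
      conv_lhs => arg 1; rw [← (hFm a).1 ha, hinv]
      exact add_self _
    · have : u ∈ F := (hFm u).2 hTu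
      rw [hb, Submodule.mem_bot] at this
      exact hu this
  have hx : x ∈ F := by
    have := hcod.eq_top.ge (Submodule.mem_top : x ∈ (⊤ : Submodule (ZMod 2) M))
    rwa [hU0, sup_bot_eq] at this
  exact (hFm x).1 hx

/-- **The kernel is solvable.** -/
theorem kernel_solvable {G : Type u} [Group G] [Finite G] (E : Subgroup G) [E.Normal]
    (helem : Cfsg.IsElementaryAbelian 2 E) {n : ℕ} (hn : 2 ≤ n) (hcard : Nat.card E = 2 ^ n)
    (hprime : (2 ^ n - 1).Prime) (hinv : ∀ x : G, x ^ 2 = 1 → x ∈ E)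
    (htrans : ∀ a ∈ E, ∀ b ∈ E, a ≠ 1 → b ≠ 1 → ∃ g : G, g * a * g⁻¹ = b)
    (hO : ∀ N : Subgroup G, N.Normal → Odd (Nat.card N) → N = ⊥) :
    Group.IsSolvable (centralizer (E : Set G)) := by
  classical
  haveI : Fact (Nat.Prime 2) := ⟨Nat.prime_two⟩
  set L := centralizer (E : Set G) with hL
  haveI hLn : L.Normal := ⟨fun l hl g => mem_centralizer_iff.2 fun e he => by
    have h1 := mem_centralizer_iff.1 hl (g⁻¹ * e * g)
      (by simpa using (inferInstance : E.Normal).conj_mem e he g⁻¹)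
    calc e * (g * l * g⁻¹) = g * ((g⁻¹ * e * g) * l) * g⁻¹ := by group
      _ = g * (l * (g⁻¹ * e * g)) * g⁻¹ := by rw [h1]
      _ = g * l * g⁻¹ * e := by group⟩
  obtain ⟨r, hr⟩ := H40.FactorTwo.exists_perfect_core L
  set M := (derivedSeries L r).map L.subtype with hM
  by_cases hM0 : M = ⊥
  · exact ⟨r, (map_eq_bot_iff_of_injective _ L.subtype_injective).1 hM0⟩
  exfalso
  haveI hMn : M.Normal := by
    haveI := derivedSeries_characteristic L r
    infer_instance
  have hMperf : ⁅M, M⁆ = M := by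
    rw [hM, ← map_commutator, ← derivedSeries_succ]
    exact congrArg _ (le_antisymm (derivedSeries_antitone L (Nat.le_succ r)) (hr _))
  have hperfK : commutator M = ⊤ := by
    refine map_injective M.subtype_injective ?_
    rw [map_subtype_commutator, hMperf, ← MonoidHom.range_eq_map, range_subtype]
  haveI hMnt : Nontrivial M := (nontrivial_iff_ne_bot M).2 hM0
  have hML : M ≤ L := map_subtype_le _
  have hcE : ∀ x ∈ M, ∀ e ∈ E, x * e = e * x := fun x hx e he =>
    (mem_centralizer_iff.1 (hML hx) e he).symm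
  -- `E ≤ M`
  have heven : Even (Nat.card M) := by
    by_contra hodd
    obtain ⟨x, hx⟩ := exists_ne (1 : M)
    exact hx (perfect_solvable_trivial hperfK
      (PF14.feitThompson _ (Nat.not_even_iff_odd.1 hodd)) x)
  obtain ⟨t₀, ht₀M, ht₀⟩ := Involution.exists_involution_of_even heven
  have ht₀E : t₀ ∈ E := hinv t₀ (by rw [← ht₀]; exact pow_orderOf_eq_one t₀)
  have hEM : E ≤ M := fun e he => by
    by_cases he1 : e = 1
    · rw [he1]; exact one_mem _
    obtain ⟨g, hg⟩ := htrans t₀ ht₀E e he (Involution.ne_one_of_orderOf ht₀) he1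
    exact hg ▸ hMn.conj_mem _ ht₀M g
  have hOM : ∀ N : Subgroup M, N.Normal → Odd (Nat.card N) → N = ⊥ := by
    intro N hN hodd
    haveI : (Cfsg.oddCore M).Characteristic := Thompson.instPPrimeCoreCharacteristic
    haveI : ((Cfsg.oddCore M).map M.subtype).Normal := inferInstance
    have h1 : Odd (Nat.card ((Cfsg.oddCore M).map M.subtype)) := by
      rw [card_map_of_injective M.subtype_injective]
      exact Nat.coprime_two_right.1 Thompson.card_pPrimeCore_coprime
    have h2 := (map_eq_bot_iff_of_injective _ M.subtype_injective).1 (hO _ inferInstance h1)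
    exact le_bot_iff.1 (h2 ▸ Thompson.le_pPrimeCore hN (Nat.coprime_two_right.2 hodd))
  obtain ⟨P⟩ : Nonempty (Sylow 2 M) := inferInstance
  set Z := E.subgroupOf M with hZ
  haveI hZn : Z.Normal := (inferInstance : E.Normal).subgroupOf M
  have hZcent : ∀ z ∈ Z, ∀ x : M, z * x = x * z := fun z hz x =>
    Subtype.ext (hcE x x.2 _ hz).symm
  have hZP : Z ≤ (P : Subgroup M) := by
    have hp : IsPGroup 2 Z := fun z =>
      ⟨1, Subtype.ext (Subtype.ext (by simpa using helem.2 _ z.2))⟩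
    obtain ⟨Q, hQ⟩ := hp.exists_le_sylow
    obtain ⟨c, hc⟩ := MulAction.exists_smul_eq M Q P
    intro z hz
    rw [← hc, Sylow.coe_subgroup_smul]
    exact ⟨z, hQ hz, show c * z * c⁻¹ = z by rw [← hZcent z hz c, mul_inv_cancel_right]⟩
  -- the Sylow subgroup is not abelian
  have hna : ¬ ∀ x ∈ (P : Subgroup M), ∀ y ∈ (P : Subgroup M), x * y = y * x := by
    intro hab
    haveI : IsMulCommutative (P : Subgroup M) :=
      ⟨⟨fun a b => Subtype.ext (hab a a.2 b b.2)⟩⟩
    letI : CommGroup (P : Subgroup M) :=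
      { (inferInstance : Group (P : Subgroup M)) with mul_comm := fun a b => mul_comm' a b }
    let f : M →* (P : Subgroup M) := MonoidHom.transfer (MonoidHom.id _)
    have hz0 : (⟨t₀, ht₀M⟩ : M) ∈ Z := ht₀E
    have key : ∀ (k : ℕ) (g₀ : M), g₀⁻¹ * (⟨t₀, ht₀M⟩ : M) ^ k * g₀ ∈ (P : Subgroup M) →
        g₀⁻¹ * (⟨t₀, ht₀M⟩ : M) ^ k * g₀ = (⟨t₀, ht₀M⟩ : M) ^ k := fun k g₀ _ => by
      rw [mul_assoc, hZcent _ (pow_mem hz0 k) g₀, inv_mul_cancel_left]
    have h1 := MonoidHom.transfer_eq_pow (MonoidHom.id (P : Subgroup M)) (⟨t₀, ht₀M⟩ : M) key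
    have h2 := perfect_hom_trivial hperfK inferInstance f ⟨t₀, ht₀M⟩
    rw [show f ⟨t₀, ht₀M⟩ = _ from h1] at h2
    have h3 : t₀ ^ (P : Subgroup M).index = 1 :=
      congrArg (fun w : (P : Subgroup M) => ((w : M) : G)) h2
    have h4 := orderOf_dvd_of_pow_eq_one h3
    rw [ht₀] at h4
    exact P.not_dvd_index h4
  set P' := (P : Subgroup M).map M.subtype with hP'
  have hP'M : P' ≤ M := map_subtype_le _
  have hP'p : IsPGroup 2 P' := P.isPGroup'.map _
  have hmemP : ∀ x : M, (x : G) ∈ P' ↔ x ∈ (P : Subgroup M) := fun x =>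
    ⟨fun ⟨y, hy, e⟩ => (Subtype.ext e : y = x) ▸ hy, fun hx => ⟨x, hx, rfl⟩⟩
  have hEP' : E ≤ P' := fun e he => ⟨⟨e, hEM he⟩, hZP he, rfl⟩
  -- a transitive element normalising `P'`
  set Ω := {x : G // x ∈ E ∧ x ≠ 1} with hΩ
  have hΩcard : Nat.card Ω = 2 ^ n - 1 := by
    haveI := Fintype.ofFinite E
    rw [← hcard, Nat.card_congr (show Ω ≃ {x : E // x ≠ 1} from
      { toFun := fun x => ⟨⟨x.1, x.2.1⟩, fun h => x.2.2 (congrArg Subtype.val h)⟩
        invFun := fun x => ⟨x.1, x.1.2, fun h => x.2 (Subtype.ext h)⟩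
        left_inv := fun x => rfl
        right_inv := fun x => rfl }), Nat.card_eq_fintype_card, Nat.card_eq_fintype_card,
      Fintype.card_subtype_compl, Fintype.card_subtype_eq]
  have hconjE : ∀ (g : G), ∀ e ∈ E, g * e * g⁻¹ ∈ E := fun g e he =>
    (inferInstance : E.Normal).conj_mem e he g
  letI actΩ : MulAction (normalizer (P' : Set G)) Ω :=
    { smul := fun g x => ⟨(g : G) * x.1 * (g : G)⁻¹, hconjE _ _ x.2.1, fun h => x.2.2 (by
        simpa using h)⟩
      one_smul := fun x => Subtype.ext (by show (1 : G) * x.1 * (1 : G)⁻¹ = x.1; simp)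
      mul_smul := fun g h x => Subtype.ext (by
        show (g : G) * h * x.1 * ((g : G) * h)⁻¹ = g * (h * x.1 * (h : G)⁻¹) * (g : G)⁻¹
        group) }
  have hNtrans : ∀ a b : Ω, ∃ g : normalizer (P' : Set G), g • a = b := by
    intro a b
    obtain ⟨g, hg⟩ := htrans a.1 a.2.1 b.1 b.2.1 a.2.2 b.2.2
    have hh : g ∈ normalizer (P' : Set G) ⊔ M := by
      rw [hP', Sylow.normalizer_sup_eq_top P]; trivial
    obtain ⟨x, hx, m, hm, rfl⟩ := mem_sup_of_normal_right.1 hh
    refine ⟨⟨x, hx⟩, Subtype.ext ?_⟩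
    show x * a.1 * x⁻¹ = b.1
    rw [← hg]
    calc x * a.1 * x⁻¹ = x * (m * a.1 * m⁻¹) * x⁻¹ := by
          rw [hcE m hm _ a.2.1, mul_inv_cancel_right]
      _ = x * m * a.1 * (x * m)⁻¹ := by group
  haveI : Fact (2 ^ n - 1).Prime := ⟨hprime⟩
  obtain ⟨y, hy⟩ : ∃ y : normalizer (P' : Set G), ∀ a b : Ω, ∃ i : ℕ, y ^ i • a = b := by
    let φ := MulAction.toPermHom (normalizer (P' : Set G)) Ω
    haveI := Fintype.ofFinite Ω
    have hcΩ : Fintype.card Ω = 2 ^ n - 1 := by rw [← Nat.card_eq_fintype_card, hΩcard]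
    obtain ⟨a₀⟩ : Nonempty Ω := Fintype.card_pos_iff.1 (hcΩ ▸ hprime.pos)
    haveI : MulAction.IsPretransitive φ.range Ω := ⟨fun a b => by
      obtain ⟨g, hg⟩ := hNtrans a b
      exact ⟨⟨_, g, rfl⟩, hg⟩⟩
    have hdvd : 2 ^ n - 1 ∣ Nat.card φ.range := by
      rw [← hΩcard, ← MulAction.index_stabilizer_of_transitive φ.range a₀]
      exact index_dvd_card _
    obtain ⟨⟨σ, y, hy⟩, hσ⟩ := exists_prime_orderOf_dvd_card' (G := φ.range) (2 ^ n - 1) hdvd
    refine ⟨y, fun a b => ?_⟩
    have hσ : orderOf σ = Fintype.card Ω :=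
      ((Subgroup.orderOf_coe (⟨σ, y, hy⟩ : φ.range)).trans hσ).trans hcΩ.symm
    have hcyc : σ.IsCycle := Equiv.Perm.isCycle_of_prime_order'' (hcΩ ▸ hprime) hσ
    have hsupp : σ.support = Finset.univ :=
      Finset.eq_univ_of_card _ (by rw [← hcyc.orderOf, hσ])
    obtain ⟨i, hi⟩ := hcyc.exists_pow_eq
      (Equiv.Perm.mem_support.1 (hsupp ▸ Finset.mem_univ a))
      (Equiv.Perm.mem_support.1 (hsupp ▸ Finset.mem_univ b))
    refine ⟨i, ?_⟩
    rw [← hi, ← hy, ← map_pow]
    rfl
  set α := normAut P' with hα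
  set Z' := E.subgroupOf P' with hZ'
  have hinv' : ∀ x : P', x * x = 1 ↔ x ∈ Z' := fun x => by
    constructor
    · intro h; exact hinv _ (by rw [pow_two]; exact congrArg Subtype.val h)
    · intro h; exact Subtype.ext (by simpa [pow_two] using helem.2 _ h)
  have hne : ∀ x : P', x ≠ 1 → (x : G) ≠ 1 := fun x hx h => hx (Subtype.ext h)
  have htrY : ∀ x ∈ Z', ∀ z ∈ Z', x ≠ 1 → z ≠ 1 → ∃ f ∈ zpowers (α y), f x = z := by
    intro x hx z hz hx1 hz1
    obtain ⟨i, hi⟩ := hy ⟨x, hx, hne x hx1⟩ ⟨z, hz, hne z hz1⟩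
    exact ⟨α (y ^ i), by rw [map_pow]; exact npow_mem_zpowers _ _,
      Subtype.ext (congrArg (fun w : Ω => w.1) hi)⟩
  obtain ⟨e₁, he₁, e₂, he₂, he12, he11, he21⟩ :
      ∃ a ∈ E, ∃ b ∈ E, a ≠ b ∧ a ≠ 1 ∧ b ≠ 1 := by
    haveI := Fintype.ofFinite Ω
    have h1 : 1 < Fintype.card Ω := by
      rw [← Nat.card_eq_fintype_card, hΩcard]; exact hprime.one_lt
    obtain ⟨a, b, hab⟩ := Fintype.one_lt_card_iff.1 h1
    exact ⟨a.1, a.2.1, b.1, b.2.1, fun h => hab (Subtype.ext h), a.2.2, b.2.2⟩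
  have hnaP : ¬ ∀ x z : P', x * z = z * x := fun h => hna fun x hx z hz => by
    have h1 := congrArg Subtype.val (h ⟨x, (hmemP x).2 hx⟩ ⟨z, (hmemP z).2 hz⟩)
    exact Subtype.ext h1
  have D : SqData Z' := sqData_of_transitive hP'p hnaP hinv'
    ⟨⟨e₁, hEP' he₁⟩, he₁, ⟨e₂, hEP' he₂⟩, he₂, fun h => he12 (congrArg Subtype.val h),
      fun h => he11 (congrArg Subtype.val h), fun h => he21 (congrArg Subtype.val h)⟩
    _ inferInstance htrY
  have hq : IsAniso D.q := D.aniso fun a ha b hb ha1 hb1 => by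
    obtain ⟨f, -, hf⟩ := htrY a ha b hb ha1 hb1
    exact ⟨f, hf⟩
  haveI : Fintype (⊤ : Submodule (ZMod 2) D.Quo) := Fintype.ofFinite _
  have hW : Fintype.card D.Val = 2 ^ n := by
    rw [D.card_val, hZ', Nat.card_congr (subgroupOfEquivOfLe hEP').toEquiv, hcard]
  obtain ⟨x₀, hx₀⟩ : ∃ x : P', x ∉ Z' := by
    by_contra hh
    push Not at hh
    haveI := helem.1
    exact hnaP fun x z => Subtype.ext (congrArg Subtype.val
      (mul_comm' (⟨_, hh x⟩ : E) ⟨_, hh z⟩) :)
  have hsurj : ∀ a, a ≠ 0 → ∃ x, D.q x = a := by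
    intro a ha
    obtain ⟨f, -, hf⟩ := htrY _ (D.sq_mem x₀) _ (D.val_mem a)
      (fun h => hx₀ ((hinv' x₀).1 h)) (fun h => ha (D.val_inj (h.trans D.val_zero.symm)))
    exact ⟨D.cls (f x₀), D.val_inj (by rw [D.val_q, ← map_mul, hf])⟩
  -- the quotient
  let π : M →* M ⧸ Z := QuotientGroup.mk' Z
  have hπ : Function.Surjective π := QuotientGroup.mk'_surjective Z
  set Pb : Sylow 2 (M ⧸ Z) := P.mapSurjective hπ with hPb
  have hPbmem : ∀ a, a ∈ (Pb : Subgroup (M ⧸ Z)) ↔ ∃ x ∈ (P : Subgroup M), π x = a := fun a => by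
    rw [hPb, Sylow.coe_mapSurjective]; rfl
  have hback : ∀ x : M, π x ∈ (Pb : Subgroup (M ⧸ Z)) → x ∈ (P : Subgroup M) := by
    intro x hx
    obtain ⟨z, hz, hze⟩ := (hPbmem _).1 hx
    have : z⁻¹ * x ∈ Z := QuotientGroup.eq.1 hze
    simpa using mul_mem hz (hZP this)
  have hZiff : ∀ x : M, π x = 1 ↔ x ∈ Z := fun x => QuotientGroup.eq_one_iff x
  have lift : ∀ a ∈ normalizer ((Pb : Subgroup (M ⧸ Z)) : Set (M ⧸ Z)), Odd (orderOf a) →
      ∃ h : M, π h = a ∧ Odd (orderOf h) ∧ (h : G) ∈ normalizer (P' : Set G) := by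
    intro a ha hodd
    obtain ⟨h, rfl⟩ := hπ a
    obtain ⟨c, d, hcd, ⟨i, rfl⟩, ⟨j, rfl⟩, ⟨k, hk⟩, hd⟩ := exists_odd_part h
    have hπc : π (h ^ i) = 1 := by
      rw [← orderOf_eq_one_iff]
      refine Nat.eq_one_of_dvd_coprimes (Nat.Coprime.pow_left k (Nat.coprime_two_left.2 hodd))
        (orderOf_dvd_of_pow_eq_one (by rw [← map_pow, hk, map_one])) ?_
      rw [map_pow]; exact orderOf_pow_dvd i
    refine ⟨h ^ j, ?_, hd, ?_⟩
    · conv_rhs => rw [hcd, map_mul, hπc, one_mul]
    · rw [SubgroupClass.coe_pow]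
      refine pow_mem (mem_normalizer_iff.2 fun x => ?_) j
      constructor
      · rintro ⟨z, hz, rfl⟩
        exact (hmemP (h * z * h⁻¹)).2 (hback _ (by
          rw [map_mul, map_mul, map_inv]
          exact (mem_normalizer_iff.1 ha _).1 ((hPbmem _).2 ⟨z, hz, rfl⟩)))
      · intro hx
        have hxM : x ∈ M := by
          have := hMn.conj_mem _ (hP'M hx) (h : G)⁻¹
          simpa [mul_assoc] using this
        refine (hmemP ⟨x, hxM⟩).2 (hback _ ((mem_normalizer_iff.1 ha _).2 ?_))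
        rw [← map_inv, ← map_mul, ← map_mul]
        exact (hPbmem _).2 ⟨_, (hmemP _).1 hx, rfl⟩
  have hvfix : ∀ (h : normalizer (P' : Set G)), (h : G) ∈ M → ∀ a : D.Val,
      D.valMap (α h) a = a := fun h hh a => D.val_inj (Subtype.ext (by
    show (h : G) * (D.val a : G) * (h : G)⁻¹ = D.val a
    rw [show (h : G) * (D.val a : G) = (D.val a : G) * h from hcE _ hh _ (D.val_mem a),
      mul_inv_cancel_right]))
  let lam : P' →* M ⧸ Z := π.comp (Subgroup.inclusion hP'M)
  have hlam : ∀ x : P', lam x ∈ (Pb : Subgroup (M ⧸ Z)) := fun x =>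
    (hPbmem _).2 ⟨_, (hmemP ⟨x, hP'M x.2⟩).1 x.2, rfl⟩
  have hlam0 : ∀ x : P', lam x = 1 ↔ x ∈ Z' := fun x => hZiff _
  have hlamsurj : ∀ a ∈ (Pb : Subgroup (M ⧸ Z)), ∃ x : P', lam x = a := by
    intro a ha
    obtain ⟨z, hz, rfl⟩ := (hPbmem a).1 ha
    exact ⟨⟨z, (hmemP z).2 hz⟩, rfl⟩
  have hlamcls : ∀ x z : P', D.cls x = D.cls z ↔ lam x = lam z := fun x z => by
    rw [D.cls_eq_mk, ← hlam0, map_mul, map_inv, inv_mul_eq_one]
  have hPcomm : ∀ a ∈ (Pb : Subgroup (M ⧸ Z)), ∀ b ∈ (Pb : Subgroup (M ⧸ Z)), a * b = b * a := by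
    intro a ha b hb
    obtain ⟨x, rfl⟩ := hlamsurj a ha
    obtain ⟨z, rfl⟩ := hlamsurj b hb
    rw [← map_mul, ← map_mul, ← hlamcls, D.cls_mul, D.cls_mul, add_comm]
  have hPexp : ∀ a ∈ (Pb : Subgroup (M ⧸ Z)), a ^ 2 = 1 := by
    intro a ha
    obtain ⟨x, rfl⟩ := hlamsurj a ha
    rw [pow_two, ← map_mul, hlam0]
    exact D.sq_mem x
  have act : ∀ a ∈ normalizer ((Pb : Subgroup (M ⧸ Z)) : Set (M ⧸ Z)), Odd (orderOf a) →
      ∃ T : D.Quo →ₗ[ZMod 2] D.Quo, (∃ m, Odd m ∧ ∀ x, T^[m] x = x) ∧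
        (∀ x, D.q (T x) = D.q x) ∧
        ∀ x z : P', T (D.cls x) = D.cls z ↔ a * lam x * a⁻¹ = lam z := by
    intro a ha hodd
    obtain ⟨h, rfl, hh, hhN⟩ := lift a ha hodd
    refine ⟨(D.quoEquiv (α ⟨h, hhN⟩)).toLinearMap, ⟨orderOf h, hh, fun x => ?_⟩, fun x => ?_, ?_⟩
    · obtain ⟨x, rfl⟩ := D.cls_surjective x
      have hit : ∀ i : ℕ, (⇑(D.quoEquiv (α ⟨h, hhN⟩)).toLinearMap)^[i] (D.cls x) =
          D.cls (α (⟨h, hhN⟩ ^ i) x) := by
        intro i
        induction i with
        | zero => simp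
        | succ i ih =>
          rw [Function.iterate_succ_apply', ih, pow_succ', map_mul, MulAut.mul_apply]
          exact D.quoEquiv_cls _ _
      rw [hit, show (⟨(h : G), hhN⟩ : normalizer (P' : Set G)) ^ orderOf h = 1 from
        Subtype.ext (by
          rw [SubgroupClass.coe_pow]
          exact congrArg Subtype.val (pow_orderOf_eq_one h)), map_one, MulAut.one_apply]
    · show D.q (D.quoEquiv _ x) = D.q x
      rw [D.q_quoEquiv, hvfix _ h.2]
    · intro x z
      show D.quoEquiv _ (D.cls x) = D.cls z ↔ _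
      rw [D.quoEquiv_cls, hlamcls]
      have : lam (α ⟨h, hhN⟩ x) = π h * lam x * (π h)⁻¹ := by
        show π _ = π h * π _ * (π h)⁻¹
        rw [← map_inv, ← map_mul, ← map_mul]
        rfl
      rw [this]
  haveI hKperf : commutator (M ⧸ Z) = ⊤ := by
    rw [_root_.commutator_def, ← Subgroup.map_top_of_surjective π hπ, ← map_commutator,
      ← _root_.commutator_def, hperfK]
  have hfuspre : ∀ a ∈ normalizer ((Pb : Subgroup (M ⧸ Z)) : Set (M ⧸ Z)), ∀ x z : P',
      a * lam x * a⁻¹ = lam z → x * x = z * z := by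
    intro a ha x z hxz
    obtain ⟨h, rfl⟩ := hπ a
    have h1 : lam z = π (h * ⟨x, hP'M x.2⟩ * h⁻¹) := by
      rw [map_mul, map_mul, map_inv, ← hxz]; rfl
    obtain ⟨w, hw⟩ : ∃ w : P', (w : G) = (h : G) * x * (h : G)⁻¹ := by
      have hmem : h * ⟨x, hP'M x.2⟩ * h⁻¹ ∈ (P : Subgroup M) := hback _ (h1 ▸ hlam z)
      exact ⟨⟨_, (hmemP _).2 hmem⟩, rfl⟩
    have h2 : D.cls w = D.cls z := by
      rw [hlamcls, h1]
      exact congrArg π (Subtype.ext hw)
    have h3 := congrArg (fun v => ((D.val (D.q v) : P') : G)) h2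
    simp only [D.val_q, Subgroup.coe_mul, hw] at h3
    refine Subtype.ext ?_
    rw [Subgroup.coe_mul, Subgroup.coe_mul, ← h3]
    have h4 := hcE _ h.2 ((x : G) * x) (D.sq_mem x)
    calc (x : G) * x = (x : G) * x * (h : G) * (h : G)⁻¹ := by group
      _ = (h : G) * ((x : G) * x) * (h : G)⁻¹ := by rw [h4]
      _ = _ := by group
  haveI hKnt : Nontrivial (M ⧸ Z) := by
    refine ⟨lam x₀, 1, fun h => hx₀ ((hlam0 _).1 h)⟩
  have hclsne : ∀ x : P', lam x ≠ 1 → D.cls x ≠ 0 := fun x hx h =>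
    hx (by rw [← D.cls_one, hlamcls, map_one] at h; exact h)
  rcases injective_or_double hq hn hW hsurj with hinj | hd
  · have hburn : normalizer ((Pb : Subgroup (M ⧸ Z)) : Set (M ⧸ Z)) ≤
        centralizer ((Pb : Subgroup (M ⧸ Z)) : Set (M ⧸ Z)) := by
      intro a ha
      obtain ⟨c, d, rfl, ⟨i, hi⟩, ⟨j, hj⟩, ⟨k, hk⟩, hd⟩ := exists_odd_part a
      have hc' : c ∈ normalizer ((Pb : Subgroup (M ⧸ Z)) : Set (M ⧸ Z)) := by
        rw [hi]; exact pow_mem ha i
      have hd' : d ∈ normalizer ((Pb : Subgroup (M ⧸ Z)) : Set (M ⧸ Z)) := by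
        rw [hj]; exact pow_mem ha j
      have hcR : c ∈ (Pb : Subgroup (M ⧸ Z)) := by
        have hp : IsPGroup 2 (zpowers c) := by
          rintro ⟨w, hw⟩
          obtain ⟨l, rfl⟩ := mem_zpowers_iff.1 hw
          refine ⟨k, Subtype.ext ?_⟩
          rw [SubgroupClass.coe_pow, OneMemClass.coe_one, ← zpow_natCast, ← zpow_mul, mul_comm,
            zpow_mul, zpow_natCast, hk, one_zpow]
        have hm : c ∈ zpowers c ⊓ normalizer (Pb : Set (M ⧸ Z)) := ⟨mem_zpowers c, hc'⟩
        rw [hp.inf_normalizer_sylow Pb] at hm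
        exact hm.2
      obtain ⟨T, -, hTq, hT⟩ := act d hd' hd
      rw [mem_centralizer_iff]
      intro r hr
      obtain ⟨x, rfl⟩ := hlamsurj r hr
      have e := (hT x x).1 (hinj (hTq _))
      have hdr : d * lam x = lam x * d := by
        calc d * lam x = d * lam x * d⁻¹ * d := by group
          _ = lam x * d := by rw [e]
      calc lam x * (c * d) = lam x * c * d := (mul_assoc _ _ _).symm
        _ = c * lam x * d := by rw [hPcomm _ hr _ hcR]
        _ = c * (d * lam x) := by rw [hdr, mul_assoc]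
        _ = c * d * lam x := (mul_assoc _ _ _).symm
    set f := MonoidHom.transferSylow Pb hburn
    have hcompl : IsComplement' f.ker (Pb : Subgroup (M ⧸ Z)) :=
      MonoidHom.ker_transferSylow_isComplement' Pb hburn
    haveI : Group.IsNilpotent (Pb : Subgroup (M ⧸ Z)) := Pb.isPGroup'.isNilpotent
    have hker : f.ker = ⊤ := eq_top_iff.2 fun a _ =>
      MonoidHom.mem_ker.2 (perfect_hom_trivial hKperf inferInstance f a)
    have hbot : (Pb : Subgroup (M ⧸ Z)) = ⊥ := isComplement'_top_left.1 (hker ▸ hcompl)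
    exact hx₀ ((hlam0 _).1 (mem_bot.1 (hbot ▸ hlam x₀)))
  · have hS : Semireg Pb := by
      refine ⟨hPcomm, hPexp, fun a ha hodd u hu hu1 hau r hr => ?_⟩
      obtain ⟨T, ⟨m, hm, hTm⟩, hTq, hT⟩ := act a ha hodd
      obtain ⟨x, rfl⟩ := hlamsurj u hu
      obtain ⟨z, rfl⟩ := hlamsurj r hr
      have hTu : T (D.cls x) = D.cls x := (hT x x).2 (by rw [hau, mul_inv_cancel_right])
      have h1 := (hT z z).1 (fixed_trivial hq hn hW hd T hm hTm hTq (hclsne x hu1) hTu _)
      calc a * lam z = a * lam z * a⁻¹ * a := by group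
        _ = lam z * a := by rw [h1]
    refine hS.false_of_perfect hKperf ?_ ?_ ?_
    · -- no odd normal subgroup
      intro N hN hodd
      set m := Nat.card N with hm
      set R := N.comap π with hR
      have hxm : ∀ x ∈ R, x ^ m ∈ Z := fun x hx => by
        rw [← hZiff, map_pow]
        exact congrArg Subtype.val (pow_card_eq_one' (x := (⟨π x, hx⟩ : N)))
      have hZR : Z ≤ R := fun x hx => by
        show π x ∈ N
        rw [(hZiff x).2 hx]; exact one_mem _
      have hidx : (center R).index ∣ m := by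
        have hle : Z.subgroupOf R ≤ center R := fun z hz => mem_center_iff.2 fun x =>
          Subtype.ext (hZcent _ hz x).symm
        refine (index_dvd_of_le hle).trans ?_
        have hker : (π.subgroupComap N).ker = Z.subgroupOf R := by
          ext x
          rw [MonoidHom.mem_ker, mem_subgroupOf, ← hZiff]
          exact Subtype.ext_iff
        rw [← hker, Subgroup.index_ker, hm]
        exact card_subgroup_dvd_card _
      obtain ⟨c, hc⟩ := hidx
      let g : R →* center R :=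
        { toFun := fun x => MonoidHom.transferCenterPow R x ^ c
          map_one' := by simp
          map_mul' := fun x w => by rw [map_mul, Commute.mul_pow (mul_comm' _ _)] }
      have hg : ∀ x : R, ((g x : R) : M) = (x : M) ^ m := fun x => by
        show (((MonoidHom.transferCenterPow R x) ^ c : center R) : R).1 = _
        rw [SubgroupClass.coe_pow, SubgroupClass.coe_pow, MonoidHom.transferCenterPow_apply,
          SubgroupClass.coe_pow, ← pow_mul, ← hc]
      set R₀ := g.ker.map R.subtype with hR₀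
      haveI hRn : R.Normal := hN.comap π
      have hmem₀ : ∀ x : M, x ∈ R₀ ↔ x ∈ R ∧ x ^ m = 1 := by
        intro x
        constructor
        · rintro ⟨w, hw, rfl⟩
          refine ⟨w.2, ?_⟩
          show (w : M) ^ m = 1
          rw [← hg, show g w = 1 from hw]; rfl
        · rintro ⟨hx, hxm'⟩
          exact ⟨⟨x, hx⟩, MonoidHom.mem_ker.2 (Subtype.ext (Subtype.ext ((hg _).trans hxm'))), rfl⟩
      haveI : R₀.Normal := ⟨fun x hx a => (hmem₀ _).2 ⟨hRn.conj_mem _ ((hmem₀ x).1 hx).1 a, by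
        rw [conj_pow, ((hmem₀ x).1 hx).2, mul_one, mul_inv_cancel]⟩⟩
      have hodd₀ : Odd (Nat.card R₀) := by
        rw [← Nat.not_even_iff_odd]
        intro he
        obtain ⟨t, ht, ht2⟩ := Involution.exists_involution_of_even he
        have h1 := orderOf_dvd_of_pow_eq_one ((hmem₀ t).1 ht).2
        rw [ht2] at h1
        exact (Nat.not_even_iff_odd.2 hodd) (even_iff_two_dvd.2 h1)
      have h0 := hOM R₀ inferInstance hodd₀
      rw [eq_bot_iff]
      intro a ha
      obtain ⟨x, rfl⟩ := hπ a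
      have hx2 : x * x ∈ R₀ := (hmem₀ _).2 ⟨mul_mem ha ha, by
        rw [← pow_two, ← pow_mul, mul_comm, pow_mul, pow_two]
        exact Subtype.ext (by simpa [pow_two] using helem.2 _ (hxm x ha))⟩
      rw [h0, mem_bot] at hx2
      refine mem_bot.2 ?_
      rw [← orderOf_eq_one_iff]
      refine Nat.eq_one_of_dvd_coprimes (Nat.coprime_two_left.2 hodd)
        (orderOf_dvd_of_pow_eq_one (by rw [pow_two, ← map_mul, hx2, map_one])) ?_
      exact N.orderOf_dvd_natCard ha
    · have hrange : lam.range = (Pb : Subgroup (M ⧸ Z)) :=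
        le_antisymm (by rintro _ ⟨x, rfl⟩; exact hlam x)
          (fun a ha => (hlamsurj a ha).imp fun x hx => hx)
      have hker : lam.ker = Z' := Subgroup.ext fun x => hlam0 x
      show 8 ≤ Nat.card (Pb : Subgroup (M ⧸ Z))
      rw [← hrange, ← Subgroup.index_ker, hker, ← D.card_quo, hd.card]
      calc 8 ≤ 2 ^ 4 := by norm_num
        _ ≤ 2 ^ (2 * n) := Nat.pow_le_pow_right (by norm_num) (by omega)
    · intro u hu
      obtain ⟨R, hR⟩ := (IsPGroup.of_card (p := 2) (n := 1) (G := zpowers u)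
        (by rw [Nat.card_zpowers, hu, pow_one])).exists_le_sylow
      obtain ⟨g, hg⟩ := MulAction.exists_smul_eq (M ⧸ Z) R Pb
      have hgu : g * u * g⁻¹ ∈ (Pb : Subgroup (M ⧸ Z)) := by
        rw [← hg, Sylow.coe_subgroup_smul]; exact ⟨u, hR (mem_zpowers u), rfl⟩
      obtain ⟨x, hx⟩ := hlamsurj _ hgu
      obtain ⟨e, he, he1, hex⟩ : ∃ e ∈ E, e ≠ 1 ∧ e ≠ ((x * x : P') : G) := by
        by_cases h : e₁ = ((x * x : P') : G)
        · exact ⟨e₂, he₂, he21, fun h2 => he12 (h.trans h2.symm)⟩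
        · exact ⟨e₁, he₁, he11, h⟩
      obtain ⟨w, hw⟩ := hsurj (D.toVal ⟨e, hEP' he⟩ he) (fun h => he1
        (congrArg (fun v => ((D.val v : P') : G)) h))
      obtain ⟨w, rfl⟩ := D.cls_surjective w
      have hwv : w * w = (⟨e, hEP' he⟩ : P') := congrArg D.val hw
      have hw1 : lam w ≠ 1 := fun h => he1 (by
        have := (hinv' w).2 ((hlam0 w).1 h)
        exact congrArg Subtype.val (hwv.symm.trans this))
      refine ⟨lam w, (Involution.orderOf_eq_two_iff').2 ⟨by rw [← pow_two]; exact hPexp _ (hlam w), hw1⟩,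
        fun hc => ?_⟩
      have hc' : IsConj (lam x) (lam w) := hx ▸ ((isConj_iff.2 ⟨g, rfl⟩).symm.trans hc)
      obtain ⟨k, hk⟩ := isConj_iff.1 hc'
      haveI : IsMulCommutative (Pb : Subgroup (M ⧸ Z)) :=
        ⟨⟨fun a b => Subtype.ext (hPcomm a a.2 b b.2)⟩⟩
      obtain ⟨a, ha, hae⟩ := Pb.conj_eq_normalizer_conj_of_mem (lam x) k⁻¹ (hlam x)
        (by rw [inv_inv, hk]; exact hlam w)
      rw [inv_inv, hk] at hae
      have := hfuspre a⁻¹ (inv_mem ha) x w (by rw [inv_inv]; exact hae.symm)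
      exact hex (congrArg Subtype.val (this.trans hwv)).symm

end Cfsg.Agent.Pyr45
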