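import Cfsg.Agent.BC85.Balance.Instances
import Cfsg.Agent.Lib.Involution.StronglyEmbedded
import Cfsg.Agent.Lib.Involution.Dihedral
import Mathlib.GroupTheory.Transfer

/-!
# A perfect group with elementary abelian Sylow 2-subgroup whose automiser is semiregular
-/

set_option autoImplicit false

namespace Cfsg.Agent.Pyr45

open Subgroup

universe u

/-- A homomorphism from a perfect group to a solvable one is trivial. -/
theorem perfect_hom_trivial {K R : Type*} [Group K] [Group R] (hperf : commutator K = ⊤)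
    (hR : Group.IsSolvable R) (f : K →* R) (x : K) : f x = 1 := by
  have hd : ∀ n, derivedSeries K n = ⊤ := by
    intro n
    induction n with
    | zero => exact derivedSeries_zero K
    | succ n ih => rw [derivedSeries_succ, ih, ← commutator_def, hperf]
  obtain ⟨n, hn⟩ := hR
  have h := map_derivedSeries_le_derivedSeries f n (mem_map_of_mem f (show x ∈ derivedSeries K n by
    rw [hd n]; exact mem_top x))
  rwa [hn, mem_bot] at h

/-- A solvable perfect group is trivial. -/
theorem perfect_solvable_trivial {K : Type*} [Group K] (hperf : commutator K = ⊤)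
    (hK : Group.IsSolvable K) (x : K) : x = 1 :=
  perfect_hom_trivial hperf hK (MonoidHom.id K) x

/-- The odd part of an element, as a power. -/
theorem exists_odd_part {G : Type*} [Group G] [Finite G] (n : G) :
    ∃ a b : G, n = a * b ∧ (∃ i : ℕ, a = n ^ i) ∧ (∃ i : ℕ, b = n ^ i) ∧
      (∃ k, a ^ 2 ^ k = 1) ∧ Odd (orderOf b) := by
  obtain ⟨m, ⟨r, hr⟩, hmul⟩ : ∃ m, Odd m ∧ 2 ^ (orderOf n).factorization 2 * m = orderOf n :=
    ⟨_, Nat.odd_iff.2 (Nat.two_dvd_ne_zero.1
      (Nat.not_dvd_ordCompl Nat.prime_two (orderOf_pos n).ne')),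
      Nat.ordProj_mul_ordCompl_eq_self _ _⟩
  generalize hkdef : (orderOf n).factorization 2 = k at hmul
  obtain ⟨A, B, hAB⟩ : ∃ A B : ℕ, A * m % orderOf n + B * 2 ^ k % orderOf n ≡ 1 [MOD orderOf n] := by
    have hco : Nat.Coprime m (2 ^ k) :=
      Nat.Coprime.pow_right k (Nat.coprime_two_right.2 ⟨r, hr⟩)
    obtain ⟨A, hA1, hA2⟩ := Nat.chineseRemainder hco 1 0
    obtain ⟨B, hB1, hB2⟩ := Nat.chineseRemainder hco 0 1
    obtain ⟨A', hA'⟩ := (Nat.modEq_zero_iff_dvd.1 hA2)
    obtain ⟨B', hB'⟩ := (Nat.modEq_zero_iff_dvd.1 hB1)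
    refine ⟨B', A', ?_⟩
    rw [← hmul, mul_comm (2 ^ k) m]
    refine (Nat.ModEq.add (Nat.mod_modEq _ _) (Nat.mod_modEq _ _)).trans ?_
    rw [mul_comm B', mul_comm A', ← hA', ← hB']
    refine (Nat.modEq_and_modEq_iff_modEq_mul hco).1 ⟨?_, ?_⟩
    · simpa using hB1.add hA1
    · simpa using hB2.add hA2
  refine ⟨n ^ (A * m), n ^ (B * 2 ^ k), ?_, ⟨_, rfl⟩, ⟨_, rfl⟩, ⟨k, ?_⟩, ?_⟩
  · rw [← pow_add]
    conv_lhs => rw [← pow_one n]
    rw [pow_eq_pow_iff_modEq]
    exact hAB.symm.trans (Nat.ModEq.add (Nat.mod_modEq _ _) (Nat.mod_modEq _ _))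
  · rw [← pow_mul, mul_assoc, mul_comm m, hmul, mul_comm, pow_mul, pow_orderOf_eq_one, one_pow]
  · refine Odd.of_dvd_nat ⟨r, hr⟩ (orderOf_dvd_of_pow_eq_one ?_)
    rw [← pow_mul, mul_assoc, hmul, mul_comm, pow_mul, pow_orderOf_eq_one, one_pow]

variable {K : Type u} [Group K] [Finite K]

/-- The hypotheses on the group. -/
structure Semireg (P : Sylow 2 K) : Prop where
  comm : ∀ x ∈ (P : Subgroup K), ∀ y ∈ (P : Subgroup K), x * y = y * x
  exp : ∀ x ∈ (P : Subgroup K), x ^ 2 = 1
  fpf : ∀ n ∈ normalizer ((P : Subgroup K) : Set K), Odd (orderOf n) → ∀ u ∈ (P : Subgroup K),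
    u ≠ 1 → n * u = u * n → ∀ x ∈ (P : Subgroup K), n * x = x * n

namespace Semireg

variable {P : Sylow 2 K} (h : Semireg P)
include h

/-- **The centraliser of an involution is solvable, and is a 2-group with abelian structure when
its core is trivial.** -/
theorem centralizer_spec (t : K) (ht : orderOf t = 2) :
    Group.IsSolvable (centralizer ({t} : Set K)) ∧
      (Cfsg.centralizerPPrimeCore 2 t = ⊥ →
        IsPGroup 2 (centralizer ({t} : Set K)) ∧
          ∀ x ∈ centralizer ({t} : Set K), ∀ y ∈ centralizer ({t} : Set K), x * y = y * x) := by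
  haveI : Fact (Nat.Prime 2) := ⟨Nat.prime_two⟩
  set C := centralizer ({t} : Set K) with hC
  obtain ⟨R⟩ : Nonempty (Sylow 2 C) := inferInstance
  have htC : t ∈ C := mem_centralizer_singleton_iff.mpr rfl
  have htR : (⟨t, htC⟩ : C) ∈ (R : Subgroup C) := by
    have hp : IsPGroup 2 (zpowers (⟨t, htC⟩ : C)) := IsPGroup.of_card (n := 1) (by
      rw [Nat.card_zpowers, Subgroup.orderOf_mk, ht, pow_one])
    haveI : (zpowers (⟨t, htC⟩ : C)).Normal := ⟨fun z hz g => by
      obtain ⟨i, rfl⟩ := mem_zpowers_iff.1 hz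
      have hc : Commute g (⟨t, htC⟩ : C) :=
        Subtype.ext (mem_centralizer_singleton_iff.1 g.2)
      rw [(hc.zpow_right i).eq, mul_inv_cancel_right]
      exact zpow_mem (mem_zpowers _) i⟩
    obtain ⟨Q, hQ⟩ := hp.exists_le_sylow
    obtain ⟨c, hc⟩ := MulAction.exists_smul_eq C Q R
    rw [← hc, Sylow.coe_subgroup_smul]
    refine ⟨⟨t, htC⟩, hQ (mem_zpowers _), Subtype.ext ?_⟩
    show (c : K) * t * (c : K)⁻¹ = t
    rw [mem_centralizer_singleton_iff.1 c.2, mul_inv_cancel_right]
  obtain ⟨S', hS'⟩ := (R.isPGroup'.map C.subtype).exists_le_sylow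
  obtain ⟨g, hg⟩ := MulAction.exists_smul_eq K S' P
  have hgmem : ∀ y ∈ (S' : Subgroup K), g * y * g⁻¹ ∈ (P : Subgroup K) := fun y hy => by
    rw [← hg, Sylow.coe_subgroup_smul]; exact ⟨y, hy, rfl⟩
  have hR' : ∀ y ∈ (R : Subgroup C), g * (y : K) * g⁻¹ ∈ (P : Subgroup K) :=
    fun y hy => hgmem _ (hS' ⟨y, hy, rfl⟩)
  have htP : g * t * g⁻¹ ∈ (P : Subgroup K) := hR' _ htR
  have back : ∀ x ∈ (P : Subgroup K), g⁻¹ * x * g ∈ C := fun x hx => by
    refine mem_centralizer_singleton_iff.2 ?_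
    calc g⁻¹ * x * g * t = g⁻¹ * (x * (g * t * g⁻¹)) * g := by group
      _ = g⁻¹ * ((g * t * g⁻¹) * x) * g := by rw [h.comm _ hx _ htP]
      _ = t * (g⁻¹ * x * g) := by group
  have hconv : ∀ y : C, g * (y : K) * g⁻¹ ∈ (P : Subgroup K) → y ∈ (R : Subgroup C) := by
    let f : C →* K := (MulAut.conj g).toMonoidHom.comp C.subtype
    have hf : Function.Injective f := (MulAut.conj g).injective.comp Subtype.val_injective
    have hle : (R : Subgroup C) ≤ (P : Subgroup K).comap f := fun y hy => hR' y hy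
    intro y hy
    have hy' : y ∈ (P : Subgroup K).comap f := hy
    rwa [R.3 (P.isPGroup'.comap_of_injective f hf) hle] at hy'
  have hcommR : ∀ a ∈ (R : Subgroup C), ∀ b ∈ (R : Subgroup C), a * b = b * a := fun a ha b hb =>
    Subtype.ext ((MulAut.conj g).injective (by
      show MulAut.conj g ((a : K) * b) = MulAut.conj g ((b : K) * a)
      rw [map_mul, map_mul]
      exact h.comm _ (hR' a ha) _ (hR' b hb)))
  have hburn : normalizer ((R : Subgroup C) : Set C) ≤ centralizer ((R : Subgroup C) : Set C) := by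
    intro n hn
    obtain ⟨a, b, rfl, ⟨i, hi⟩, ⟨j, hj⟩, ⟨k, hk⟩, hb⟩ := exists_odd_part n
    have ha' : a ∈ normalizer ((R : Subgroup C) : Set C) := hi ▸ pow_mem hn i
    have hb' : b ∈ normalizer ((R : Subgroup C) : Set C) := hj ▸ pow_mem hn j
    have haR : a ∈ (R : Subgroup C) := by
      have hp : IsPGroup 2 (zpowers a) := by
        rintro ⟨y, hy⟩
        obtain ⟨l, rfl⟩ := mem_zpowers_iff.1 hy
        refine ⟨k, Subtype.ext ?_⟩
        rw [SubgroupClass.coe_pow, OneMemClass.coe_one, ← zpow_natCast, ← zpow_mul, mul_comm,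
          zpow_mul, zpow_natCast, hk, one_zpow]
      have hm : a ∈ zpowers a ⊓ normalizer (R : Set C) := ⟨mem_zpowers a, ha'⟩
      rw [hp.inf_normalizer_sylow R] at hm
      exact hm.2
    rw [mem_centralizer_iff]
    intro r hr
    have hbr : b * r = r * b := by
      refine Subtype.ext ((MulAut.conj g).injective ?_)
      show MulAut.conj g ((b : K) * r) = MulAut.conj g ((r : K) * b)
      rw [map_mul, map_mul]
      refine h.fpf (MulAut.conj g (b : K)) ?_ ?_ (g * t * g⁻¹) htP ?_ ?_ _ (hR' r hr)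
      · refine mem_normalizer_iff.2 fun x => ?_
        have hbn := mem_normalizer_iff.1 hb'
        constructor
        · intro hx
          have hy : (⟨g⁻¹ * x * g, back x hx⟩ : C) ∈ (R : Subgroup C) := hconv _ (by
            simpa [mul_assoc] using hx)
          have := hR' _ ((hbn _).1 hy)
          convert this using 1
          simp [mul_assoc]
        · intro hx
          have hy' : g⁻¹ * (MulAut.conj g (b : K) * x * (MulAut.conj g (b : K))⁻¹) * g ∈ C :=
            back _ hx
          have hy : (⟨_, hy'⟩ : C) ∈ (R : Subgroup C) := hconv _ (by simpa [mul_assoc] using hx)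
          have h2 : b * (b⁻¹ * ⟨_, hy'⟩ * b) * b⁻¹ ∈ (R : Subgroup C) := by
            rwa [show b * (b⁻¹ * (⟨_, hy'⟩ : C) * b) * b⁻¹ = ⟨_, hy'⟩ by group]
          have := hR' _ ((hbn _).2 h2)
          convert this using 1
          simp [mul_assoc]
      · show Odd (orderOf ((MulAut.conj g).toMonoidHom (b : K)))
        rw [orderOf_injective (MulAut.conj g).toMonoidHom (MulAut.conj g).injective,
          Subgroup.orderOf_coe]
        exact hb
      · intro he
        have : g * t * g⁻¹ = g * 1 * g⁻¹ := by simpa using he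
        exact Involution.ne_one_of_orderOf ht (mul_left_cancel (mul_right_cancel this))
      · show MulAut.conj g (b : K) * MulAut.conj g t = MulAut.conj g t * MulAut.conj g (b : K)
        rw [← map_mul, ← map_mul, mem_centralizer_singleton_iff.1 b.2]
    calc r * (a * b) = r * a * b := (mul_assoc _ _ _).symm
      _ = a * r * b := by rw [hcommR r hr a haR]
      _ = a * (b * r) := by rw [hbr, mul_assoc]
      _ = a * b * r := (mul_assoc _ _ _).symm
  set f := MonoidHom.transferSylow R hburn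
  have hcompl : IsComplement' f.ker (R : Subgroup C) :=
    MonoidHom.ker_transferSylow_isComplement' R hburn
  have hodd : Odd (Nat.card f.ker) := by
    rw [← Nat.not_even_iff_odd, even_iff_two_dvd]
    intro h2
    have h3 := R.not_dvd_index
    rw [hcompl.index_eq_card] at h3
    exact h3 h2
  haveI hks : Group.IsSolvable f.ker := PF14.feitThompson _ hodd
  haveI hRs : Group.IsSolvable (R : Subgroup C) :=
    haveI : Group.IsNilpotent (R : Subgroup C) := R.isPGroup'.isNilpotent
    inferInstance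
  refine ⟨solvable_of_ker_le_range f.ker.subtype f (range_subtype _).ge, fun hbot => ?_⟩
  have hk1 : f.ker = ⊥ := by
    refine le_bot_iff.1 ((Thompson.le_pPrimeCore inferInstance
      (Nat.coprime_two_right.mpr hodd)).trans (le_of_eq ?_))
    exact (Subgroup.map_eq_bot_iff_of_injective _ C.subtype_injective).1 hbot
  have hRtop : (R : Subgroup C) = ⊤ := isComplement'_bot_left.1 (hk1 ▸ hcompl)
  refine ⟨fun y => ?_, fun x hx y hy => ?_⟩
  · obtain ⟨k, hk⟩ := R.isPGroup' ⟨y, hRtop ▸ mem_top y⟩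
    exact ⟨k, congrArg Subtype.val hk⟩
  · exact congrArg Subtype.val (hcommR ⟨x, hx⟩ (hRtop ▸ mem_top _) ⟨y, hy⟩ (hRtop ▸ mem_top _))

/-- **No such group.** -/
theorem false_of_perfect [Nontrivial K] (hperf : commutator K = ⊤)
    (hO : ∀ N : Subgroup K, N.Normal → Odd (Nat.card N) → N = ⊥)
    (h8 : 8 ≤ Nat.card P)
    (hfus : ∀ u : K, orderOf u = 2 → ∃ v : K, orderOf v = 2 ∧ ¬ IsConj u v) : False := by
  classical
  haveI : Fact (Nat.Prime 2) := ⟨Nat.prime_two⟩
  have hel : Cfsg.IsElementaryAbelian 2 (P : Subgroup K) :=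
    ⟨⟨⟨fun a b => Subtype.ext (h.comm a a.2 b b.2)⟩⟩, h.exp⟩
  obtain ⟨W, D⟩ := BC85.Balance.exists_data_of_normal
    (fun j hj => BC85.Balance.isPConstrained_of_solvable (h.centralizer_spec j hj).1) P hel h8
    le_rfl (fun s hs x hx => mul_mem (mul_mem hs hx) (inv_mem hs))
  have htop : normalizer (W : Set K) = ⊤ := by
    by_contra hne
    have hSE := D.stronglyEmbedded hne
    have heven := hSE.2.1
    obtain ⟨hcent, -⟩ := (Involution.stronglyEmbedded_iff_centralizers hne heven).1 hSE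
    set M := normalizer (W : Set K) with hM
    have hout : ∀ u ∈ M, orderOf u = 2 → ∀ v, v ∉ M → orderOf v = 2 → IsConj u v := by
      intro u hu hu2 v hv hv2
      by_contra hnc
      obtain ⟨w, hw2, hwu, hwv, -⟩ := Involution.exists_commuting_involution hu2 hv2 hnc
      have hwM : w ∈ M := hcent u hu hu2 (mem_centralizer_singleton_iff.2 hwu.eq)
      exact hv (hcent w hwM hw2 (mem_centralizer_singleton_iff.2 hwv.symm.eq))
    obtain ⟨u, hu, hu2⟩ := Involution.exists_involution_of_even heven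
    obtain ⟨v₀, hv₀, hv₀2⟩ : ∃ v, v ∉ M ∧ orderOf v = 2 := by
      by_contra hall
      push Not at hall
      refine hne (eq_top_iff.2 fun g _ => ?_)
      have hg : g * u * g⁻¹ ∈ M := by
        by_contra hgm
        exact hall _ hgm ((Involution.orderOf_conj g u).trans hu2)
      exact ((Involution.stronglyEmbedded_iff).1 hSE).2.2 g u hu hu2 hg
    obtain ⟨w, hw2, hnc⟩ := hfus u hu2
    refine hnc ?_
    by_cases hw : w ∈ M
    · exact (hout u hu hu2 v₀ hv₀ hv₀2).trans (hout w hw hw2 v₀ hv₀ hv₀2).symm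
    · exact hout u hu hu2 w hw hw2
  haveI hWn : W.Normal := normalizer_eq_top_iff.mp htop
  have hW : W = ⊥ := hO W hWn D.odd
  have hcpc : ∀ t : K, orderOf t = 2 → Cfsg.centralizerPPrimeCore 2 t = ⊥ := by
    intro t ht
    obtain ⟨R, hR⟩ := (IsPGroup.of_card (p := 2) (n := 1) (G := zpowers t)
      (by rw [Nat.card_zpowers, ht, pow_one])).exists_le_sylow
    obtain ⟨g, hg⟩ := MulAction.exists_smul_eq K R P
    have hgt : g * t * g⁻¹ ∈ (P : Subgroup K) := by
      rw [← hg, Sylow.coe_subgroup_smul]; exact ⟨t, hR (mem_zpowers t), rfl⟩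
    refine InvChar68.Signalizer.cpc_eq_bot_of_conj g (le_bot_iff.mp ?_)
    rw [← hW]
    exact D.cpc_le hgt ((Involution.orderOf_conj g t).trans ht)
  have hC : ∀ t : K, orderOf t = 2 → IsPGroup 2 (centralizer ({t} : Set K)) ∧
      ∀ x ∈ centralizer ({t} : Set K), ∀ y ∈ centralizer ({t} : Set K), x * y = y * x :=
    fun t ht => (h.centralizer_spec t ht).2 (hcpc t ht)
  obtain ⟨u, hu⟩ : ∃ u : K, orderOf u = 2 := by
    obtain ⟨u, hu⟩ := exists_prime_orderOf_dvd_card' (G := (P : Subgroup K)) 2 (by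
      obtain ⟨k, hk⟩ := (IsPGroup.iff_card (p := 2)).1 P.isPGroup'
      rw [hk]
      refine dvd_pow_self 2 fun hk0 => ?_
      rw [hk0, pow_zero] at hk
      omega)
    exact ⟨u, by rw [Subgroup.orderOf_coe, hu]⟩
  obtain ⟨v, hv, hnc⟩ := hfus u hu
  set U := normalClosure ({v} : Set K) with hU
  have hUC : U ≤ centralizer ({u} : Set K) := by
    rw [hU, normalClosure, closure_le]
    intro x hx
    obtain ⟨w, rfl, hwx⟩ := Group.mem_conjugatesOfSet_iff.1 hx
    have hx2 : orderOf x = 2 := by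
      obtain ⟨g, rfl⟩ := isConj_iff.1 hwx
      rw [Involution.orderOf_conj, hv]
    obtain ⟨z, hz2, hzu, hzx, -⟩ := Involution.exists_commuting_involution hu hx2
      (fun hc => hnc (hc.trans hwx.symm))
    refine mem_centralizer_singleton_iff.2 ?_
    exact (hC z hz2).2 x (mem_centralizer_singleton_iff.2 hzx.symm.eq) u
      (mem_centralizer_singleton_iff.2 hzu.symm.eq)
  have hUp : IsPGroup 2 U := (hC u hu).1.to_le hUC
  haveI hUn : U.Normal := normalClosure_normal
  have hUP : U ≤ (P : Subgroup K) := by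
    obtain ⟨Q, hQ⟩ := hUp.exists_le_sylow
    obtain ⟨c, hc⟩ := MulAction.exists_smul_eq K Q P
    intro x hx
    rw [← hc, Sylow.coe_subgroup_smul]
    exact ⟨c⁻¹ * x * c, hQ (by simpa using hUn.conj_mem x hx c⁻¹), by simp [mul_assoc]⟩
  let f : K →* MulAut U := MulAut.conjNormal
  have hPker : (P : Subgroup K) ≤ f.ker := fun x hx => by
    refine MonoidHom.mem_ker.2 (MulEquiv.ext fun y => Subtype.ext ?_)
    show x * (y : K) * x⁻¹ = y
    rw [h.comm x hx y (hUP y.2), mul_inv_cancel_right]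
  haveI : Finite (MulAut U) := Finite.of_injective _ DFunLike.coe_injective
  have hodd : Odd (Nat.card f.range) := by
    refine Odd.of_dvd_nat ?_ (dvd_of_eq (Subgroup.index_ker f).symm)
    refine Odd.of_dvd_nat ?_ (index_dvd_of_le hPker)
    rw [← Nat.not_even_iff_odd, even_iff_two_dvd]
    exact P.not_dvd_index
  have hvcent : ∀ g : K, g * v = v * g := by
    intro g
    have h1 := perfect_hom_trivial hperf (PF14.feitThompson _ hodd) f.rangeRestrict g
    have h2 : f g = 1 := congrArg Subtype.val h1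
    have h3 := congrArg (fun φ : MulAut U => ((φ ⟨v, subset_normalClosure rfl⟩ : U) : K)) h2
    simp only [f, MulAut.conjNormal_apply, MulAut.one_apply] at h3
    calc g * v = g * v * g⁻¹ * g := by group
      _ = v * g := by rw [h3]
  have hctop : centralizer ({v} : Set K) = ⊤ :=
    eq_top_iff.2 fun g _ => mem_centralizer_singleton_iff.2 (hvcent g)
  have hK2 : IsPGroup 2 K := fun x => by
    obtain ⟨k, hk⟩ := (hC v hv).1 ⟨x, hctop ▸ mem_top x⟩
    exact ⟨k, congrArg Subtype.val hk⟩
  haveI : Group.IsNilpotent K := hK2.isNilpotent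
  obtain ⟨x, hx⟩ := exists_ne (1 : K)
  exact hx (perfect_solvable_trivial hperf inferInstance x)

end Semireg

end Cfsg.Agent.Pyr45
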