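import Cfsg.Agent.Pyr45.KernelCore
import Cfsg.Agent.H40.FactorTwo.MaxTwoPart
import Cfsg.Agent.Lib.CharCore.Burnside
import Mathlib.LinearAlgebra.Matrix.GeneralLinearGroup.Card

/-!
# One involution modulo the core
-/

set_option autoImplicit false

namespace Cfsg.Agent.Pyr45

open Subgroup

universe u

/-- A square other than `9`. -/
def Good (c : ℕ) : Prop := (∃ a, c = a ^ 2) ∧ c ≠ 9

theorem Good.mul {a b : ℕ} (ha : Good a) (hb : Good b) : Good (a * b) := by
  obtain ⟨⟨x, rfl⟩, hx⟩ := ha
  obtain ⟨⟨y, rfl⟩, hy⟩ := hb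
  refine ⟨⟨x * y, by ring⟩, fun h => ?_⟩
  have h3 : x * y = 3 := by
    have : (x * y) ^ 2 = 3 ^ 2 := by rw [mul_pow, h]; norm_num
    exact Nat.pow_left_injective two_ne_zero this
  rcases (Nat.dvd_prime Nat.prime_three).1 ⟨y, h3.symm⟩ with h1 | h1
  · subst h1; rw [one_mul] at h3; subst h3; exact hy (by norm_num)
  · subst h1; exact hx (by norm_num)

/-- The involutions in a coset. -/
noncomputable def cnt {G : Type*} [Group G] (t : G) (A : Subgroup G) : ℕ :=
  Nat.card {x : G // x * x = 1 ∧ t⁻¹ * x ∈ A}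

theorem cnt_conj {G : Type*} [Group G] (t g : G) (A : Subgroup G) [A.Normal] :
    cnt (g * t * g⁻¹) A = cnt t A := by
  refine Nat.card_congr ((MulAut.conj g⁻¹).toEquiv.subtypeEquiv fun x => ?_)
  show _ ↔ (MulAut.conj g⁻¹ x * MulAut.conj g⁻¹ x = 1 ∧ t⁻¹ * MulAut.conj g⁻¹ x ∈ A)
  rw [← map_mul, MulEquiv.map_eq_one_iff]
  refine and_congr Iff.rfl ?_
  have hA : A.Normal := inferInstance
  have e : t⁻¹ * MulAut.conj g⁻¹ x = g⁻¹ * ((g * t * g⁻¹)⁻¹ * x) * g⁻¹⁻¹ := by
    rw [MulAut.conj_apply]; group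
  rw [e]
  constructor
  · intro h; exact hA.conj_mem _ h _
  · intro h
    have := hA.conj_mem _ h g
    rwa [show g * (g⁻¹ * ((g * t * g⁻¹)⁻¹ * x) * g⁻¹⁻¹) * g⁻¹ = (g * t * g⁻¹)⁻¹ * x by group] at this

theorem eq_one_of_sq_of_odd {G : Type*} [Group G] [Finite G] {B : Subgroup G}
    (hB : Odd (Nat.card B)) {x : G} (hx : x ∈ B) (h2 : x * x = 1) : x = 1 :=
  orderOf_eq_one_iff.1 (Nat.eq_one_of_dvd_coprimes (Nat.coprime_two_left.2 hB)
    (orderOf_dvd_of_pow_eq_one (by rw [pow_two, h2])) (B.orderOf_dvd_natCard hx))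

/-- An involution acting as `-1` in a perfect linear group. -/
theorem good_rep {V : Type*} [AddCommGroup V] [Finite V] {r : ℕ} [Fact r.Prime]
    [Module (ZMod r) V] (hr : r ≠ 2) {D : Type*} [Group D] (hD : commutator D = ⊤)
    (act : D → V →+ V) (act1 : ∀ x, act 1 x = x)
    (actm : ∀ a b x, act (a * b) x = act a (act b x)) {t : D} (actt : ∀ x, act t x = -x) :
    Good (Nat.card V) := by
  classical
  let φ : D →* Module.End (ZMod r) V :=
    { toFun := fun d => (act d).toZModLinearMap r
      map_one' := LinearMap.ext fun x => by simpa using act1 x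
      map_mul' := fun a b => LinearMap.ext fun x => by simpa using actm a b x }
  have hφt : φ t = -1 := LinearMap.ext fun x => by simpa [φ] using actt x
  haveI : Module.Finite (ZMod r) V := Module.Finite.of_finite
  set i := Module.finrank (ZMod r) V with hi
  have hcard : Nat.card V = r ^ i := by
    rw [hi, Module.natCard_eq_pow_finrank (K := ZMod r), Nat.card_zmod]
  let bas : Module.Basis (Fin i) (ZMod r) V := Module.finBasis (ZMod r) V
  let ψ : D →* GL (Fin i) (ZMod r) := MonoidHom.toHomUnits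
    { toFun := fun d => LinearMap.toMatrixAlgEquiv bas (φ d)
      map_one' := by rw [map_one]; exact map_one _
      map_mul' := fun a b => by rw [map_mul]; exact map_mul _ _ _ }
  have hψt : ((ψ t : GL (Fin i) (ZMod r)) : Matrix (Fin i) (Fin i) (ZMod r)) = -1 := by
    show LinearMap.toMatrixAlgEquiv bas (φ t) = -1
    rw [hφt, map_neg, map_one]
  have hne : (-1 : ZMod r) ≠ 1 := by
    intro h
    have h2 : ((2 : ℕ) : ZMod r) = 0 := by
      have h3 : (1 : ZMod r) + 1 = 0 := by nth_rw 1 [← h]; exact neg_add_cancel 1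
      exact_mod_cast (one_add_one_eq_two (R := ZMod r)) ▸ h3
    exact hr ((Nat.prime_dvd_prime_iff_eq Fact.out Nat.prime_two).1
      ((ZMod.natCast_eq_zero_iff _ _).1 h2))
  have heven : Even i := by
    by_contra hodd
    rw [Nat.not_even_iff_odd] at hodd
    have hsol : Group.IsSolvable (ZMod r)ˣ := inferInstance
    have h1 := perfect_hom_trivial hD hsol (Matrix.GeneralLinearGroup.det.comp ψ) t
    have h2 : (((Matrix.GeneralLinearGroup.det.comp ψ) t : (ZMod r)ˣ) : ZMod r) = 1 := by
      rw [h1]; rfl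
    rw [MonoidHom.comp_apply, Matrix.GeneralLinearGroup.val_det_apply, hψt, Matrix.det_neg,
      Matrix.det_one, mul_one, Fintype.card_fin, hodd.neg_one_pow] at h2
    exact hne h2
  refine ⟨?_, fun h9 => ?_⟩
  · obtain ⟨j, hj⟩ := heven
    exact ⟨r ^ j, by rw [hcard, hj, ← pow_mul, mul_two]⟩
  · rw [hcard] at h9
    have hi0 : i ≠ 0 := fun h => by rw [h, pow_zero] at h9; omega
    have hr3 : r = 3 := by
      have h1 : r ∣ 3 ^ 2 := by rw [show (3 : ℕ) ^ 2 = 9 by norm_num, ← h9]; exact dvd_pow_self r hi0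
      exact (Nat.prime_dvd_prime_iff_eq Fact.out Nat.prime_three).1
        ((Fact.out : r.Prime).dvd_of_dvd_pow h1)
    subst hr3
    have hi2 : i = 2 := Nat.pow_right_injective (by norm_num) (h9.trans (by norm_num : (9 : ℕ) = 3 ^ 2))
    have hGL : Nat.card (GL (Fin i) (ZMod 3)) = 2 ^ 4 * 3 ^ 1 := by
      rw [Matrix.card_GL_field, Fintype.card_eq_nat_card, Nat.card_zmod, hi2, Fin.prod_univ_two]
      norm_num
    have hsol : Group.IsSolvable ψ.range := by
      obtain ⟨a, b, ha, hb, hab'⟩ := Nat.dvd_mul.1 (hGL ▸ card_subgroup_dvd_card ψ.range)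
      obtain ⟨ea, -, rfl⟩ := (Nat.dvd_prime_pow Nat.prime_two).1 ha
      obtain ⟨eb, -, rfl⟩ := (Nat.dvd_prime_pow Nat.prime_three).1 hb
      exact CharCore.isSolvable_of_card_eq_prime_pow_mul Nat.prime_two Nat.prime_three _ ψ.range
        ea eb hab'.symm rfl
    have h1 := congrArg Subtype.val (perfect_hom_trivial hD hsol ψ.rangeRestrict t)
    have h2 : ((ψ t : GL (Fin i) (ZMod 3)) : Matrix (Fin i) (Fin i) (ZMod 3)) = 1 := by
      rw [show ψ t = 1 from h1]; rfl
    rw [hψt] at h2
    have h3 := congrFun (congrFun h2 ⟨0, by omega⟩) ⟨0, by omega⟩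
    simp at h3
    exact hne h3


/-- The same, for a group of prime exponent. -/
theorem good_add {V : Type*} [AddCommGroup V] [Finite V] {r : ℕ} [Fact r.Prime]
    (hex : ∀ x : V, r • x = 0) (hr : r ≠ 2) {D : Type*} [Group D] (hD : commutator D = ⊤)
    (act : D → V →+ V) (act1 : ∀ x, act 1 x = x)
    (actm : ∀ a b x, act (a * b) x = act a (act b x)) {t : D} (actt : ∀ x, act t x = -x) :
    Good (Nat.card V) :=
  @good_rep V _ _ r _ (AddCommGroup.zmodModule hex) hr D _ hD act act1 actm t actt

/-- An elementary abelian subgroup on which a perfect subgroup acts, an involution inverting it. -/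
theorem good_conj {G : Type u} [Group G] [Finite G] {r : ℕ} [Fact r.Prime] (hr : r ≠ 2)
    {D : Subgroup G} (hD : commutator D = ⊤) {t : G} (htD : t ∈ D) (I : Subgroup G)
    (hexp : ∀ x ∈ I, x ^ r = 1) (hab : ∀ x ∈ I, ∀ y ∈ I, x * y = y * x)
    (hinvI : ∀ d ∈ D, ∀ b ∈ I, d * b * d⁻¹ ∈ I) (hneg : ∀ b ∈ I, t * b * t⁻¹ = b⁻¹) :
    Good (Nat.card I) := by
  classical
  letI instC : CommGroup I :=
    { (inferInstance : Group I) with mul_comm := fun a b => Subtype.ext (hab _ a.2 _ b.2) }
  have hex : ∀ x : Additive I, r • x = 0 := fun x => Subtype.ext (by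
    show (((Additive.toMul (r • x)) : I) : G) = 1
    rw [toMul_nsmul, SubgroupClass.coe_pow]
    exact hexp _ x.toMul.2)
  haveI : Finite (Additive I) := Finite.of_equiv _ (Additive.ofMul (α := I))
  let conjD : D →* MulAut I :=
    { toFun := fun d =>
        { toFun := fun b => ⟨(d : G) * b * (d : G)⁻¹, hinvI d d.2 b b.2⟩
          invFun := fun b => ⟨(d : G)⁻¹ * b * (d : G), by
            have := hinvI _ (inv_mem d.2) b b.2; rwa [inv_inv] at this⟩
          left_inv := fun b => Subtype.ext (by group)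
          right_inv := fun b => Subtype.ext (by group)
          map_mul' := fun a b => Subtype.ext (by simp [mul_assoc]) }
      map_one' := MulEquiv.ext fun b => Subtype.ext (by simp)
      map_mul' := fun a b => MulEquiv.ext fun x => Subtype.ext (by simp [mul_assoc]) }
  rw [← Nat.card_congr (Additive.toMul (α := I))]
  exact good_add hex hr hD (fun d => MonoidHom.toAdditive (conjD d).toMonoidHom)
    (fun x => congrArg Additive.ofMul (show conjD 1 x.toMul = x.toMul by rw [map_one]; rfl))
    (fun a b x => congrArg Additive.ofMul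
      (show conjD (a * b) x.toMul = conjD a (conjD b x.toMul) by rw [map_mul]; rfl))
    (t := ⟨t, htD⟩) (fun x => congrArg Additive.ofMul
      (show conjD ⟨t, htD⟩ x.toMul = x.toMul⁻¹ from Subtype.ext (hneg _ x.toMul.2)))

/-- The elementary abelian layer. -/
theorem good_layer {G : Type u} [Group G] [Finite G] {t : G} (ht : t * t = 1) {D : Subgroup G}
    (hD : commutator D = ⊤) (htD : t ∈ D) (hcen : ∀ d ∈ D, d * t = t * d) (B : Subgroup G)
    [hBn : B.Normal] {r : ℕ} [Fact r.Prime] (hr : r ≠ 2) (hexp : ∀ x ∈ B, x ^ r = 1)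
    (hab : ∀ x ∈ B, ∀ y ∈ B, x * y = y * x) : Good (cnt t B) := by
  classical
  have htinv : t⁻¹ = t := inv_eq_of_mul_eq_one_right ht
  let I : Subgroup G :=
    { carrier := {b | b ∈ B ∧ t * b * t = b⁻¹}
      one_mem' := ⟨one_mem _, by rw [mul_one, ht, inv_one]⟩
      mul_mem' := fun {a b} ⟨ha, ha'⟩ ⟨hb, hb'⟩ => ⟨mul_mem ha hb, by
        calc t * (a * b) * t = t * a * t * (t * b * t) := by
              rw [show t * a * t * (t * b * t) = t * a * (t * t) * b * t by group, ht]; group
          _ = b⁻¹ * a⁻¹ := by rw [ha', hb', hab _ (inv_mem ha) _ (inv_mem hb)]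
          _ = (a * b)⁻¹ := by group⟩
      inv_mem' := fun {a} ⟨ha, ha'⟩ => ⟨inv_mem ha, by
        rw [inv_inv]
        calc t * a⁻¹ * t = (t⁻¹ * a * t⁻¹)⁻¹ := by group
          _ = a := by rw [htinv, ha', inv_inv]⟩ }
  have hcnt : cnt t B = Nat.card I := by
    refine Nat.card_congr
      { toFun := fun x => ⟨t⁻¹ * x.1, x.2.2, by
          rw [mul_inv_rev, inv_inv, inv_eq_of_mul_eq_one_right x.2.1]; group⟩
        invFun := fun b => ⟨t * b.1, by
          calc t * b.1 * (t * b.1) = (t * b.1 * t) * b.1 := by group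
            _ = 1 := by rw [b.2.2, inv_mul_cancel], by rw [inv_mul_cancel_left]; exact b.2.1⟩
        left_inv := fun x => Subtype.ext (mul_inv_cancel_left _ _)
        right_inv := fun b => Subtype.ext (inv_mul_cancel_left _ _) }
  have hinvI : ∀ d ∈ D, ∀ b ∈ I, d * b * d⁻¹ ∈ I := fun d hd b hb => ⟨hBn.conj_mem _ hb.1 d, by
    calc t * (d * b * d⁻¹) * t = (t * d) * b * (d⁻¹ * t) := by group
      _ = (d * t) * b * (t * d⁻¹) := by
          rw [← hcen d hd, ← hcen _ (inv_mem hd)]
      _ = d * (t * b * t) * d⁻¹ := by group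
      _ = (d * b * d⁻¹)⁻¹ := by rw [hb.2]; group⟩
  rw [hcnt]
  haveI : IsMulCommutative I := ⟨⟨fun a b => Subtype.ext (hab _ a.2.1 _ b.2.1)⟩⟩
  exact good_conj hr hD htD I (fun x hx => hexp x hx.1) (fun a ha b hb => hab a ha.1 b hb.1) hinvI
    (fun b hb => by rw [htinv]; exact hb.2)

/-- **The number of involutions in a coset of an odd normal subgroup.** -/
theorem good_cnt : ∀ (N : ℕ) (G : Type u) [Group G] [Finite G] (t : G) (D A : Subgroup G),
    Nat.card A = N → t * t = 1 → t ≠ 1 → commutator D = ⊤ → t ∈ D → (∀ d ∈ D, d * t = t * d) →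
    A.Normal → Odd (Nat.card A) → Good (cnt t A) := by
  intro N
  induction N using Nat.strong_induction_on with
  | h N ih =>
    intro G _ _ t D A hN ht ht1 hD htD hcen hAn hodd
    classical
    by_cases hA : A = ⊥
    · have : cnt t A = 1 := by
        unfold cnt
        rw [Nat.card_eq_one_iff_unique]
        refine ⟨⟨fun x y => Subtype.ext ?_⟩, ⟨⟨t, ht, by rw [inv_mul_cancel]; exact one_mem _⟩⟩⟩
        have hx : t⁻¹ * x.1 = 1 := by simpa [hA] using x.2.2
        have hy : t⁻¹ * y.1 = 1 := by simpa [hA] using y.2.2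
        exact mul_left_cancel (hx.trans hy.symm)
      rw [this]; exact ⟨⟨1, rfl⟩, by norm_num⟩
    -- a characteristic elementary abelian layer
    haveI hAs : Group.IsSolvable A := PF14.feitThompson _ hodd
    obtain ⟨n, hn⟩ := hAs
    have hex : ∃ n, derivedSeries A n = ⊥ := ⟨n, hn⟩
    obtain ⟨l, hl⟩ : ∃ l, Nat.find hex = l + 1 := by
      refine ⟨Nat.find hex - 1, ?_⟩
      have : Nat.find hex ≠ 0 := fun h0 => by
        have h1 := Nat.find_spec hex
        rw [h0, derivedSeries_zero] at h1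
        refine hA ((eq_bot_iff_forall _).2 fun x hx => ?_)
        have hx0 : (⟨x, hx⟩ : A) = 1 := mem_bot.1 (h1 ▸ mem_top (⟨x, hx⟩ : A))
        exact congrArg (Subtype.val : A → G) hx0
      omega
    set C := (derivedSeries A l).map A.subtype with hC
    haveI hCn : C.Normal := by
      haveI := derivedSeries_characteristic A l
      infer_instance
    have hCA : C ≤ A := map_subtype_le _
    have hCne : C ≠ ⊥ := fun h => by
      have := Nat.find_min' hex ((map_eq_bot_iff_of_injective _ A.subtype_injective).1 h)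
      omega
    have hCab : ∀ x ∈ C, ∀ y ∈ C, x * y = y * x := by
      have h1 : ⁅C, C⁆ = ⊥ := by
        rw [hC, ← map_commutator, ← derivedSeries_succ, ← hl, Nat.find_spec hex, Subgroup.map_bot]
      rw [commutator_eq_bot_iff_le_centralizer] at h1
      exact fun x hx y hy => (mem_centralizer_iff.1 (h1 hx) y hy).symm
    obtain ⟨r, hr, hrdvd⟩ := Nat.exists_prime_and_dvd
      (show Nat.card C ≠ 1 from fun h => hCne ((card_eq_one).1 h))
    haveI : Fact r.Prime := ⟨hr⟩
    have hr2 : r ≠ 2 := fun h => by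
      subst h
      exact Nat.not_even_iff_odd.2 hodd (even_iff_two_dvd.2 (hrdvd.trans (card_dvd_of_le hCA)))
    let B : Subgroup G :=
      { carrier := {x | x ∈ C ∧ x ^ r = 1}
        one_mem' := ⟨one_mem _, one_pow _⟩
        mul_mem' := fun {a b} ⟨ha, ha'⟩ ⟨hb, hb'⟩ =>
          ⟨mul_mem ha hb, by rw [Commute.mul_pow (hCab a ha b hb), ha', hb', one_mul]⟩
        inv_mem' := fun {a} ⟨ha, ha'⟩ => ⟨inv_mem ha, by rw [inv_pow, ha', inv_one]⟩ }
    haveI hBn : B.Normal := ⟨fun x hx g => ⟨hCn.conj_mem x hx.1 g, by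
      rw [conj_pow, hx.2, mul_one, mul_inv_cancel]⟩⟩
    have hBA : B ≤ A := fun x hx => hCA hx.1
    have hBne : B ≠ ⊥ := fun h => by
      obtain ⟨x, hx⟩ := exists_prime_orderOf_dvd_card' r hrdvd
      have hmem : (x : G) ∈ B := ⟨x.2, by rw [← hx, ← Subgroup.orderOf_coe]; exact pow_orderOf_eq_one _⟩
      rw [h, mem_bot] at hmem
      rw [← Subgroup.orderOf_coe, hmem, orderOf_one] at hx
      exact hr.one_lt.ne hx
    have hBodd : Odd (Nat.card B) := hodd.of_dvd_nat (card_dvd_of_le hBA)
    -- the quotient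
    let π : G →* G ⧸ B := QuotientGroup.mk' B
    have hπ : Function.Surjective π := QuotientGroup.mk'_surjective B
    have hπ1 : ∀ x : G, π x = 1 ↔ x ∈ B := fun x => QuotientGroup.eq_one_iff x
    have htB : t ∉ B := fun h => ht1 (eq_one_of_sq_of_odd hBodd h ht)
    set A' := A.map π with hA'
    haveI : A'.Normal := hAn.map π hπ
    have hker : π.ker = B := QuotientGroup.ker_mk' B
    have hA'card : Nat.card A' * Nat.card B = Nat.card A := by
      have h1 := Subgroup.card_mul_index (B.subgroupOf A)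
      rw [Nat.card_congr (subgroupOfEquivOfLe hBA).toEquiv] at h1
      have h2 : (B.subgroupOf A).index = Nat.card A' := by
        rw [hA', ← Subgroup.relIndex_ker, hker]; rfl
      rw [← h1, h2, mul_comm]
    have hlt : Nat.card A' < N := by
      have h1 : 1 < Nat.card B := (one_lt_card_iff_ne_bot B).2 hBne
      have h2 : 0 < Nat.card A' := Nat.card_pos
      rw [← hN, ← hA'card]
      exact lt_mul_of_one_lt_right h2 h1
    have hA'odd : Odd (Nat.card A') := hodd.of_dvd_nat ⟨_, hA'card.symm⟩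
    have hmemA : ∀ x : G, π x ∈ A' ↔ x ∈ A := fun x => by
      constructor
      · rintro ⟨a, ha, hax⟩
        have : a⁻¹ * x ∈ B := QuotientGroup.eq.1 hax
        simpa using mul_mem ha (hBA this)
      · intro hx; exact mem_map_of_mem π hx
    have hquot : Good (cnt (π t) A') := by
      refine ih _ hlt (G ⧸ B) (π t) (D.map π) A' rfl (by rw [← map_mul, ht, map_one])
        (fun h => htB ((hπ1 t).1 h)) ?_ (mem_map_of_mem π htD) ?_ inferInstance hA'odd
      · rw [_root_.commutator_def, ← map_top_of_surjective (π.subgroupMap D)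
          (π.subgroupMap_surjective D), ← map_commutator, ← _root_.commutator_def, hD]
      · rintro _ ⟨d, hd, rfl⟩
        rw [← map_mul, ← map_mul, hcen d hd]
    have hlayer : Good (cnt t B) :=
      good_layer ht hD htD hcen B hr2 (fun x hx => hx.2) fun x hx y hy => hCab x hx.1 y hy.1
    -- the fibres
    suffices hmul : cnt t A = cnt (π t) A' * cnt t B by rw [hmul]; exact hquot.mul hlayer
    let f : {x : G // x * x = 1 ∧ t⁻¹ * x ∈ A} → {y : G ⧸ B // y * y = 1 ∧ (π t)⁻¹ * y ∈ A'} :=
      fun x => ⟨π x.1, by rw [← map_mul, x.2.1, map_one],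
        by rw [← map_inv, ← map_mul]; exact (hmemA _).2 x.2.2⟩
    have hfib : ∀ y, Nat.card {x // f x = y} = cnt t B := by
      rintro ⟨y, hy2, hyA⟩
      obtain ⟨z, rfl⟩ := hπ y
      have hzB : z * z ∈ B := (hπ1 _).1 (by rw [map_mul, hy2])
      set m := Nat.card B with hm
      obtain ⟨l, hl⟩ := hBodd
      set x₀ := z ^ m with hx₀
      have hx₀2 : x₀ * x₀ = 1 := by
        rw [hx₀, ← (Commute.refl z).mul_pow, hm]
        exact congrArg Subtype.val (pow_card_eq_one' (x := (⟨z * z, hzB⟩ : B)))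
      have hπx₀ : π x₀ = π z := by
        rw [hx₀, map_pow, hl, pow_succ, pow_mul, pow_two, hy2, one_pow, one_mul]
      have hx₀A : t⁻¹ * x₀ ∈ A := (hmemA _).1 (by rw [map_mul, map_inv, hπx₀]; exact hyA)
      obtain ⟨j, hj⟩ := Involution.exists_conj_of_odd ht hx₀2
        (Odd.of_dvd_nat hodd (A.orderOf_dvd_natCard (by
          rwa [inv_eq_of_mul_eq_one_right ht] at hx₀A)))
      rw [← cnt_conj t _ B, hj]
      exact Nat.card_congr
        { toFun := fun x => ⟨x.1.1, x.1.2.1, by
            have hx : π x.1.1 = π z := congrArg Subtype.val x.2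
            rw [← hπ1, map_mul, map_inv, hπx₀, hx, inv_mul_cancel]⟩
          invFun := fun x => ⟨⟨x.1, x.2.1, by
              rw [show t⁻¹ * x.1 = t⁻¹ * x₀ * (x₀⁻¹ * x.1) by group]
              exact mul_mem hx₀A (hBA x.2.2)⟩, Subtype.ext (by
              show π x.1 = π z
              rw [← hπx₀]; exact (QuotientGroup.eq.2 x.2.2).symm)⟩
          left_inv := fun x => Subtype.ext (Subtype.ext rfl)
          right_inv := fun x => Subtype.ext rfl }
    haveI := Fintype.ofFinite {y : G ⧸ B // y * y = 1 ∧ (π t)⁻¹ * y ∈ A'}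
    unfold cnt
    rw [← Nat.card_congr (Equiv.sigmaFiberEquiv f), Nat.card_sigma]
    simp only [hfib]
    simp [cnt, Nat.card_eq_fintype_card]

/-- **One involution modulo the core.** -/
theorem solvable_of_unique {G : Type u} [Group G] [Finite G] {p k : ℕ} (hp : p.Prime)
    (hcase : Odd k ∨ p ^ k = 9) (hcount : Nat.card {x : G // orderOf x = 2} = p ^ k)
    (hco : ∀ x y : G, orderOf x = 2 → orderOf y = 2 → x⁻¹ * y ∈ Cfsg.oddCore G) :
    Group.IsSolvable G := by
  classical
  by_contra hns
  obtain ⟨⟨t, ht⟩⟩ : Nonempty {x : G // orderOf x = 2} :=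
    (Nat.card_pos_iff.1 (hcount ▸ pow_pos hp.pos k)).1
  set O := Cfsg.oddCore G with hO
  haveI : O.Normal := Thompson.instPPrimeCoreNormal
  have hOodd : Odd (Nat.card O) := Nat.coprime_two_right.1 Thompson.card_pPrimeCore_coprime
  have ht2 := Involution.mul_self_of_orderOf ht
  have ht1 := Involution.ne_one_of_orderOf ht
  set C := centralizer ({t} : Set G) with hC
  have hCns : ¬ Group.IsSolvable C := by
    intro hs
    haveI : Group.IsSolvable O := PF14.feitThompson _ hOodd
    haveI : Group.IsSolvable (G ⧸ O) := by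
      haveI := hs
      refine Group.isSolvable_of_surjective (f := (QuotientGroup.mk' O).comp C.subtype) ?_
      intro q
      obtain ⟨g, rfl⟩ := QuotientGroup.mk'_surjective O q
      have hgt : orderOf (g * t * g⁻¹) = 2 := (Involution.orderOf_conj g t).trans ht
      have hw : t * (g * t * g⁻¹) ∈ O := by
        have h := hco t (g * t * g⁻¹) ht hgt
        rwa [Involution.inv_of_orderOf ht] at h
      obtain ⟨j, hj⟩ := Involution.exists_conj_of_odd ht2 (Involution.mul_self_of_orderOf hgt)
        (hOodd.of_dvd_nat (O.orderOf_dvd_natCard hw))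
      generalize hs' : (t * (g * t * g⁻¹)) ^ j = s at hj
      have hsO : s ∈ O := hs' ▸ zpow_mem hw j
      refine ⟨⟨s⁻¹ * g, mem_centralizer_singleton_iff.2 ?_⟩, ?_⟩
      · calc s⁻¹ * g * t = s⁻¹ * (g * t * g⁻¹) * g := by group
          _ = s⁻¹ * (s * t * s⁻¹) * g := by rw [hj]
          _ = t * (s⁻¹ * g) := by group
      · show QuotientGroup.mk' O (s⁻¹ * g) = QuotientGroup.mk' O g
        rw [map_mul, map_inv, show QuotientGroup.mk' O s = 1 from
          (QuotientGroup.eq_one_iff s).2 hsO, inv_one, one_mul]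
    exact hns (solvable_of_ker_le_range O.subtype (QuotientGroup.mk' O)
      (by rw [QuotientGroup.ker_mk', range_subtype]))
  obtain ⟨n, hn⟩ := H40.FactorTwo.exists_perfect_core C
  set D := (derivedSeries C n).map C.subtype with hD
  have hDC : D ≤ C := map_subtype_le _
  have hDperf : commutator D = ⊤ := by
    refine map_injective D.subtype_injective ?_
    rw [map_subtype_commutator, ← MonoidHom.range_eq_map, range_subtype, hD, ← map_commutator,
      ← derivedSeries_succ]
    exact congrArg _ (le_antisymm (derivedSeries_antitone C (Nat.le_succ n)) (hn _))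
  have hDeven : Even (Nat.card D) := by
    by_contra hodd
    refine hCns ⟨n, ?_⟩
    refine (map_eq_bot_iff_of_injective _ C.subtype_injective).1 ((eq_bot_iff_forall _).2 fun x hx => ?_)
    exact congrArg Subtype.val
      (perfect_solvable_trivial hDperf (PF14.feitThompson _ (Nat.not_even_iff_odd.1 hodd)) ⟨x, hx⟩)
  obtain ⟨x, hxD, hx⟩ := Involution.exists_involution_of_even hDeven
  have htD : t ∈ D := by
    have hcx : t * x = x * t := (mem_centralizer_singleton_iff.1 (hDC hxD)).symm
    have h0 : t * x = 1 := by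
      refine eq_one_of_sq_of_odd hOodd ?_ ?_
      · have h := hco t x ht hx; rwa [Involution.inv_of_orderOf ht] at h
      · calc t * x * (t * x) = t * (x * t) * x := by group
          _ = t * t * (x * x) := by rw [← hcx]; group
          _ = 1 := by rw [ht2, Involution.mul_self_of_orderOf hx, one_mul]
    have hxt : x = t := (eq_inv_of_mul_eq_one_right h0).trans (Involution.inv_of_orderOf ht)
    exact hxt ▸ hxD
  have hgood := good_cnt _ G t D O rfl ht2 ht1 hDperf htD
    (fun d hd => mem_centralizer_singleton_iff.1 (hDC hd)) inferInstance hOodd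
  have hcnt : cnt t O = p ^ k := by
    rw [← hcount]
    refine Nat.card_congr (Equiv.subtypeEquivRight fun y => ?_)
    constructor
    · rintro ⟨hy2, hyO⟩
      refine Involution.orderOf_eq_two_iff'.2 ⟨hy2, fun h1 => ht1 ?_⟩
      subst h1
      rw [mul_one, inv_mem_iff] at hyO
      exact eq_one_of_sq_of_odd hOodd hyO ht2
    · intro hy
      exact ⟨Involution.mul_self_of_orderOf hy, hco t y ht hy⟩
  rw [hcnt] at hgood
  obtain ⟨⟨a, ha⟩, h9⟩ := hgood
  rcases hcase with hk | h
  · obtain ⟨e, -, rfl⟩ := (Nat.dvd_prime_pow hp).1 (⟨a, by rw [ha, pow_two]⟩ : a ∣ p ^ k)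
    rw [← pow_mul] at ha
    have := Nat.pow_right_injective hp.two_le ha
    rw [this] at hk
    exact (Nat.not_odd_iff_even.2 (even_iff_two_dvd.2 (dvd_mul_left 2 e))) hk
  · exact h9 h

end Cfsg.Agent.Pyr45
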