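import Cfsg.Agent.Pyr45.Base
import Cfsg.Agent.Pyr45.Kernel
import Cfsg.Agent.Pyr45.Unique
import Cfsg.Agent.FGS80.Burnside
import Cfsg.Agent.Lib.CharCore.Burnside
import Mathlib.GroupTheory.GroupAction.Quotient

/-!
# Groups whose involutions form one class of prime power size
-/

set_option autoImplicit false

namespace Cfsg.Agent.Pyr45

open Subgroup

universe u

theorem mersenne_of_pow_add_one {p n j : ℕ} (hp : p.Prime) (hp2 : p ≠ 2) (hn : 2 ≤ n)
    (h : p ^ j + 1 = 2 ^ n) : p = 2 ^ n - 1 := by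
  have hodd : Odd p := hp.odd_of_ne_two hp2
  obtain ⟨m, hm⟩ : ∃ m, j = 2 * m + 1 := by
    rcases Nat.even_or_odd j with ⟨m, hm⟩ | h'
    · exfalso
      obtain ⟨l, hl⟩ := hodd.pow (n := m)
      subst hm
      have h4 : 4 ∣ 2 ^ n := (show (4 : ℕ) ∣ 2 ^ 2 by norm_num).trans (pow_dvd_pow 2 hn)
      rw [← h, pow_add, hl] at h4
      have e : (2 * l + 1) * (2 * l + 1) + 1 = 4 * (l * l + l) + 2 := by ring
      rw [e] at h4
      omega
    · exact h'
  subst hm
  have key : ∀ m : ℕ, ∃ a : ℕ, Odd a ∧ p ^ (2 * m + 1) + 1 = (p + 1) * a := by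
    intro m
    induction m with
    | zero => exact ⟨1, odd_one, by ring⟩
    | succ m ih =>
      obtain ⟨a, ha, he⟩ := ih
      obtain ⟨c, hc⟩ := hodd
      obtain ⟨b, hb⟩ := ha
      have hge : 2 * c ≤ p ^ 2 * a := by
        rw [hb, mul_add, mul_one]
        have : p ≤ p ^ 2 := Nat.le_self_pow two_ne_zero p
        omega
      refine ⟨p ^ 2 * a - 2 * c, ?_, ?_⟩
      · rw [Nat.odd_sub hge]
        exact iff_of_true (Odd.mul (Odd.pow ⟨c, hc⟩) ⟨b, hb⟩) (even_two_mul c)
      · have h1 : p ^ (2 * (m + 1) + 1) + p ^ 2 = p ^ 2 * ((p + 1) * a) := by rw [← he]; ring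
        have h2 : (p + 1) * (2 * c) + 1 = p ^ 2 := by rw [hc]; ring
        have h3 : (p + 1) * (p ^ 2 * a - 2 * c) + (p + 1) * (2 * c) = (p + 1) * (p ^ 2 * a) := by
          rw [← mul_add, Nat.sub_add_cancel hge]
        have h4 : (p + 1) * (p ^ 2 * a) = p ^ 2 * ((p + 1) * a) := by ring
        omega
  obtain ⟨a, ha, he⟩ := key m
  rw [he] at h
  obtain ⟨i, -, hi⟩ := (Nat.dvd_prime_pow Nat.prime_two).1 (⟨p + 1, by rw [← h, mul_comm]⟩ : a ∣ 2 ^ n)
  rcases Nat.eq_zero_or_pos i with rfl | hpos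
  · rw [pow_zero] at hi
    subst hi
    omega
  · exfalso
    rw [hi] at ha
    exact Nat.not_even_iff_odd.2 ha (even_iff_two_dvd.2 (dvd_pow_self 2 hpos.ne'))

/-- The involutions of `G` generate the trivial or an elementary abelian subgroup, when they form a
single class of prime power size and there is no odd normal subgroup. -/
theorem exists_elementary {G : Type u} [Group G] [Finite G] {p j : ℕ} (hp : p.Prime) {t : G}
    (ht : orderOf t = 2) (hclass : ∀ x y : G, orderOf x = 2 → orderOf y = 2 → ∃ g, g * x * g⁻¹ = y)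
    (hindex : (centralizer ({t} : Set G)).index = p ^ j)
    (hO : ∀ N : Subgroup G, N.Normal → Odd (Nat.card N) → N = ⊥) :
    ∃ E : Subgroup G, E.Normal ∧ Cfsg.IsElementaryAbelian 2 E ∧ ∀ x : G, x * x = 1 ↔ x ∈ E := by
  classical
  haveI : Fact (Nat.Prime 2) := ⟨Nat.prime_two⟩
  -- a minimal normal subgroup
  have hG : (⊤ : Subgroup G) ≠ ⊥ := fun h => Involution.ne_one_of_orderOf ht
    (mem_bot.1 (h ▸ mem_top t))
  obtain ⟨M, ⟨hMn, hMne⟩, hMmin⟩ :=
    (Set.toFinite {M : Subgroup G | M.Normal ∧ M ≠ ⊥}).exists_minimal ⟨⊤, inferInstance, hG⟩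
  haveI := hMn
  have hmin : ∀ N : Subgroup G, N.Normal → N ≤ M → N ≠ ⊥ → N = M := fun N h1 h2 h3 =>
    le_antisymm h2 (hMmin ⟨h1, h3⟩ h2)
  have hall : ∀ K : Subgroup G, K.Normal → ∀ x ∈ K, orderOf x = 2 → ∀ y : G, orderOf y = 2 → y ∈ K := by
    intro K hK x hx hx2 y hy
    obtain ⟨g, hg⟩ := hclass x y hx2 hy
    exact hg ▸ hK.conj_mem x hx g
  have hMeven : ∃ x ∈ M, orderOf x = 2 := by
    refine Involution.exists_involution_of_even ?_
    by_contra h
    exact hMne (hO M hMn (Nat.not_even_iff_odd.1 h))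
  obtain ⟨x₀, hx₀, hx₀2⟩ := hMeven
  have hinM : ∀ x : G, orderOf x = 2 → x ∈ M := hall M hMn x₀ hx₀ hx₀2
  by_cases hperf : ⁅M, M⁆ = ⊥
  · -- abelian
    rw [commutator_eq_bot_iff_le_centralizer] at hperf
    have hab : ∀ x ∈ M, ∀ y ∈ M, x * y = y * x := fun x hx y hy =>
      (mem_centralizer_iff.1 (hperf hx) y hy).symm
    let E : Subgroup G :=
      { carrier := {x | x ∈ M ∧ x * x = 1}
        one_mem' := ⟨one_mem _, one_mul 1⟩
        mul_mem' := fun {a b} ⟨ha, ha'⟩ ⟨hb, hb'⟩ => ⟨mul_mem ha hb, by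
          calc a * b * (a * b) = a * (b * a) * b := by group
            _ = a * (a * b) * b := by rw [hab b hb a ha]
            _ = a * a * (b * b) := by group
            _ = 1 := by rw [ha', hb', one_mul]⟩
        inv_mem' := fun {a} ⟨ha, ha'⟩ => ⟨inv_mem ha, by rw [← mul_inv_rev, ha', inv_one]⟩ }
    refine ⟨E, ⟨fun x hx g => ⟨hMn.conj_mem x hx.1 g, by
      calc g * x * g⁻¹ * (g * x * g⁻¹) = g * (x * x) * g⁻¹ := by group
        _ = 1 := by rw [hx.2, mul_one, mul_inv_cancel]⟩⟩,
      ⟨⟨⟨fun a b => Subtype.ext (hab _ a.2.1 _ b.2.1)⟩⟩, fun x hx => by rw [pow_two]; exact hx.2⟩,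
      fun x => ⟨fun h => ?_, fun h => h.2⟩⟩
    by_cases hx : x = 1
    · subst hx; exact ⟨one_mem _, one_mul 1⟩
    · exact ⟨hinM x (Involution.orderOf_eq_two_iff'.2 ⟨h, hx⟩), h⟩
  · -- a perfect minimal normal subgroup is impossible
    exfalso
    have hMperf : ⁅M, M⁆ = M := hmin _ inferInstance (commutator_le_self M) hperf
    set S := normalClosure {x : G | orderOf x = 2} with hS
    have hSM : S ≤ M := normalClosure_le_normal fun x hx => hinM x hx
    haveI hSn : S.Normal := normalClosure_normal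
    have hSne : S ≠ ⊥ := fun h => Involution.ne_one_of_orderOf ht
      (mem_bot.1 (h ▸ subset_normalClosure (show t ∈ {x : G | orderOf x = 2} from ht)))
    have hSeq : S = M := hmin S hSn hSM hSne
    obtain ⟨N, ⟨hNn, hNne⟩, hNmax⟩ :=
      (Set.toFinite {N : Subgroup M | N.Normal ∧ N ≠ ⊤}).exists_maximal
        ⟨⊥, inferInstance, fun h => hMne (by
          have h2 : Subsingleton M := ⟨fun a b => by
            have ha : a = 1 := mem_bot.1 (h ▸ mem_top a)
            have hb : b = 1 := mem_bot.1 (h ▸ mem_top b)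
            rw [ha, hb]⟩
          exact eq_bot_of_subsingleton M)⟩
    haveI := hNn
    haveI : Nontrivial (M ⧸ N) := QuotientGroup.nontrivial_iff.2 hNne
    haveI : IsSimpleGroup (M ⧸ N) := ⟨fun K hK => by
      by_cases h : K.comap (QuotientGroup.mk' N) = ⊤
      · right
        rw [← map_comap_eq_self_of_surjective (QuotientGroup.mk'_surjective N) K, h,
          map_top_of_surjective _ (QuotientGroup.mk'_surjective N)]
      · left
        have hle : N ≤ K.comap (QuotientGroup.mk' N) := QuotientGroup.le_comap_mk' N K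
        have heq := le_antisymm hle (hNmax ⟨hK.comap _, h⟩ hle)
        rw [← map_comap_eq_self_of_surjective (QuotientGroup.mk'_surjective N) K, ← heq]
        exact (Subgroup.map_eq_bot_iff _).2 (QuotientGroup.ker_mk' N).ge⟩
    have hperfQ : commutator (M ⧸ N) = ⊤ := by
      have hperfM : commutator M = ⊤ := map_injective M.subtype_injective (by
        rw [map_subtype_commutator, hMperf, ← MonoidHom.range_eq_map, range_subtype])
      rw [_root_.commutator_def, ← map_top_of_surjective _ (QuotientGroup.mk'_surjective N),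
        ← map_commutator, ← _root_.commutator_def, hperfM]
    -- every involution lies in `N`
    have hxN : ∀ (x : G) (hx : orderOf x = 2), (⟨x, hinM x hx⟩ : M) ∈ N := by
      intro x hx
      by_contra hxn
      obtain ⟨g, hg⟩ := hclass t x ht hx
      have hindx : (centralizer ({x} : Set G)).index = p ^ j := by
        rw [← hindex, ← hg]
        have : centralizer ({g * t * g⁻¹} : Set G) =
            (centralizer ({t} : Set G)).map (MulAut.conj g).toMonoidHom := by
          ext y
          rw [mem_map_equiv, mem_centralizer_singleton_iff, mem_centralizer_singleton_iff,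
            MulAut.conj_symm_apply]
          constructor
          · intro h
            calc g⁻¹ * y * g * t = g⁻¹ * (y * (g * t * g⁻¹)) * g := by group
              _ = g⁻¹ * (g * t * g⁻¹ * y) * g := by rw [h]
              _ = t * (g⁻¹ * y * g) := by group
          · intro h
            calc y * (g * t * g⁻¹) = g * (g⁻¹ * y * g * t) * g⁻¹ := by group
              _ = g * (t * (g⁻¹ * y * g)) * g⁻¹ := by rw [h]
              _ = g * t * g⁻¹ * y := by group
        rw [this]
        exact index_map_of_bijective (MulAut.conj g).bijective _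
      set CM := (centralizer ({x} : Set G)).subgroupOf M with hCM
      have hd1 : CM.index ∣ p ^ j := by
        rw [← hindx]
        show (centralizer ({x} : Set G)).relIndex M ∣ _
        set Cx := centralizer ({x} : Set G) with hCx
        refine ⟨(M ⊔ Cx).index, ?_⟩
        have h1 : (Cx ⊓ M).index = Cx.relIndex M * M.index := by
          rw [← relIndex_mul_index (inf_le_right : Cx ⊓ M ≤ M), inf_relIndex_right]
        have h2 : (Cx ⊓ M).index = M.relIndex Cx * Cx.index := by
          rw [← relIndex_mul_index (inf_le_left : Cx ⊓ M ≤ Cx), inf_comm Cx M, inf_relIndex_right]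
        have h3 : M.index = M.relIndex Cx * (M ⊔ Cx).index := by
          rw [← relIndex_mul_index (le_sup_left : M ≤ M ⊔ Cx), relIndex_sup_left]
        refine Nat.eq_of_mul_eq_mul_left (Nat.pos_of_ne_zero (index_ne_zero_of_finite (H := M.subgroupOf Cx)) : 0 < M.relIndex Cx) ?_
        rw [← h2, h1, h3]
        ring
      set q := QuotientGroup.mk' N (⟨x, hinM x hx⟩ : M) with hq
      have hd2 : (centralizer ({q} : Set (M ⧸ N))).index ∣ p ^ j := by
        refine (index_dvd_of_le (H := CM.map (QuotientGroup.mk' N)) ?_).trans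
          ((index_map_dvd _ (QuotientGroup.mk'_surjective N)).trans hd1)
        rintro _ ⟨y, hy, rfl⟩
        refine mem_centralizer_singleton_iff.2 ?_
        rw [hq, ← map_mul, ← map_mul]
        exact congrArg _ (Subtype.ext (mem_centralizer_singleton_iff.1 hy))
      obtain ⟨i, -, hi⟩ := (Nat.dvd_prime_pow hp).1 hd2
      have hq1 : q ≠ 1 := fun h => hxn ((QuotientGroup.eq_one_iff _).1 h)
      have hprime := CharCore.prime_card_of_prime_power_class hp hq1 hi
      haveI := Fact.mk hprime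
      haveI : IsCyclic (M ⧸ N) := isCyclic_of_prime_card rfl
      letI : CommGroup (M ⧸ N) := IsCyclic.commGroup
      exact hq1 (perfect_solvable_trivial hperfQ inferInstance q)
    apply hNne
    rw [eq_top_iff]
    intro x _
    have hxS : (x : G) ∈ S := hSeq ▸ x.2
    have hle : S ≤ N.map M.subtype := by
      rw [hS, normalClosure, closure_le]
      intro y hy
      obtain ⟨z, hz, hzy⟩ := Group.mem_conjugatesOfSet_iff.1 hy
      obtain ⟨g, rfl⟩ := isConj_iff.1 hzy
      have h2 : orderOf (g * z * g⁻¹) = 2 := (Involution.orderOf_conj g z).trans hz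
      exact ⟨_, hxN _ h2, rfl⟩
    obtain ⟨y, hy, hyx⟩ := hle hxS
    exact (Subtype.ext hyx : y = x) ▸ hy

/-- **The groups are solvable.** -/
theorem solvable_of_pyramidal {G : Type u} [Group G] [Finite G] {p k : ℕ} (hp : p.Prime)
    (hp2 : p ≠ 2) (hcase : Odd k ∨ p ^ k = 9) (hcount : Nat.card {x : G // orderOf x = 2} = p ^ k)
    (hclass : ∀ x y : G, orderOf x = 2 → orderOf y = 2 → ∃ g, g * x * g⁻¹ = y) :
    Group.IsSolvable G := by
  classical
  haveI : Fact (Nat.Prime 2) := ⟨Nat.prime_two⟩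
  set O := Cfsg.oddCore G with hO
  haveI : O.Normal := Thompson.instPPrimeCoreNormal
  have hOodd : Odd (Nat.card O) := Nat.coprime_two_right.1 Thompson.card_pPrimeCore_coprime
  haveI hOsol : Group.IsSolvable O := PF14.feitThompson _ hOodd
  obtain ⟨⟨t, ht⟩⟩ : Nonempty {x : G // orderOf x = 2} :=
    (Nat.card_pos_iff.1 (hcount ▸ pow_pos hp.pos k)).1
  let π : G →* G ⧸ O := QuotientGroup.mk' O
  have hπ : Function.Surjective π := QuotientGroup.mk'_surjective O
  suffices hsol : Group.IsSolvable (G ⧸ O) by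
    haveI := hsol
    exact solvable_of_ker_le_range O.subtype π (by rw [QuotientGroup.ker_mk', range_subtype])
  have himg : ∀ x : G, orderOf x = 2 → orderOf (π x) = 2 := fun x hx =>
    Involution.orderOf_eq_two_iff'.2 ⟨by rw [← map_mul, Involution.mul_self_of_orderOf hx, map_one],
      fun h => Involution.ne_one_of_orderOf hx (eq_one_of_sq_of_odd hOodd
        ((QuotientGroup.eq_one_iff x).1 h) (Involution.mul_self_of_orderOf hx))⟩
  have hlift : ∀ y : G ⧸ O, orderOf y = 2 → ∃ x, orderOf x = 2 ∧ π x = y := by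
    intro y hy
    obtain ⟨z, rfl⟩ := hπ y
    obtain ⟨l, hl⟩ := hOodd
    have hzO : z * z ∈ O := (QuotientGroup.eq_one_iff _).1
      ((map_mul π z z).trans (Involution.mul_self_of_orderOf hy))
    have hπz : π (z ^ Nat.card O) = π z := by
      rw [map_pow, hl, pow_succ, pow_mul, pow_two, Involution.mul_self_of_orderOf hy, one_pow, one_mul]
    refine ⟨z ^ Nat.card O, Involution.orderOf_eq_two_iff'.2 ⟨?_, fun h => ?_⟩, hπz⟩
    · rw [← (Commute.refl z).mul_pow]
      exact congrArg Subtype.val (pow_card_eq_one' (x := (⟨z * z, hzO⟩ : O)))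
    · rw [h, map_one] at hπz
      exact Involution.ne_one_of_orderOf hy hπz.symm
  have hclassQ : ∀ x y : G ⧸ O, orderOf x = 2 → orderOf y = 2 → ∃ g, g * x * g⁻¹ = y := by
    intro x y hx hy
    obtain ⟨a, ha, rfl⟩ := hlift x hx
    obtain ⟨b, hb, rfl⟩ := hlift y hy
    obtain ⟨g, hg⟩ := hclass a b ha hb
    exact ⟨π g, by rw [← map_inv, ← map_mul, ← map_mul, hg]⟩
  -- the class of the image
  have htQ := himg t ht
  set nI := Nat.card {y : G ⧸ O // orderOf y = 2} with hnI
  obtain ⟨j, hj⟩ : ∃ j, nI = p ^ j := by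
    let f : {x : G // orderOf x = 2} → {y : G ⧸ O // orderOf y = 2} := fun x => ⟨π x.1, himg _ x.2⟩
    have hfib : ∀ y, Nat.card {x // f x = y} = Nat.card {x // f x = f ⟨t, ht⟩} := by
      intro y
      obtain ⟨a, ha, hay⟩ := hlift y.1 y.2
      obtain ⟨g, hg⟩ := hclass t a ht ha
      symm
      refine Nat.card_congr (Equiv.subtypeEquiv
        ((MulAut.conj g).toEquiv.subtypeEquiv fun x => ?_) fun x => ?_)
      · show _ ↔ orderOf (MulAut.conj g x) = 2
        rw [MulAut.conj_apply, Involution.orderOf_conj]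
      · rw [Subtype.ext_iff, Subtype.ext_iff]
        show π x.1 = π t ↔ π (g * x.1 * g⁻¹) = y.1
        rw [← hay, ← hg, map_mul, map_mul, map_mul, map_mul, mul_left_inj, mul_right_inj]
    haveI := Fintype.ofFinite {y : G ⧸ O // orderOf y = 2}
    have hsum : p ^ k = nI * Nat.card {x // f x = f ⟨t, ht⟩} := by
      rw [← hcount, ← Nat.card_congr (Equiv.sigmaFiberEquiv f), Nat.card_sigma]
      simp only [hfib]
      simp [hnI, Nat.card_eq_fintype_card]
    obtain ⟨j, -, hj⟩ := (Nat.dvd_prime_pow hp).1 (⟨_, hsum⟩ : nI ∣ p ^ k)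
    exact ⟨j, hj⟩
  have hindex : (centralizer ({π t} : Set (G ⧸ O))).index = p ^ j := by
    rw [← hj, hnI]
    have hst : (centralizer ({π t} : Set (G ⧸ O))).index =
        Nat.card (MulAction.orbit (ConjAct (G ⧸ O)) (π t)) := by
      rw [Nat.card_coe_set_eq, ← MulAction.index_stabilizer, ConjAct.stabilizer_eq_centralizer]
      rfl
    rw [hst]
    refine Nat.card_congr (Equiv.subtypeEquivRight fun y => ?_)
    rw [ConjAct.mem_orbit_conjAct, isConj_iff]
    constructor
    · rintro ⟨g, hg⟩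
      rw [← Involution.orderOf_conj g y, hg]
      exact htQ
    · intro hy
      exact hclassQ y (π t) hy htQ
  have hOQ : ∀ N : Subgroup (G ⧸ O), N.Normal → Odd (Nat.card N) → N = ⊥ := fun N hN hodd =>
    le_bot_iff.1 ((Thompson.le_pPrimeCore hN (Nat.coprime_two_right.2 hodd)).trans
      Thompson.pPrimeCore_quotient_pPrimeCore.le)
  obtain ⟨E, hEn, hEel, hEinv⟩ := exists_elementary hp htQ hclassQ hindex hOQ
  haveI := hEn
  set Ω := {x : G ⧸ O // x ∈ E ∧ x ≠ 1} with hΩ
  have hΩI : Nat.card Ω = p ^ j := by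
    rw [← hj, hnI]
    exact Nat.card_congr (Equiv.subtypeEquivRight fun y => by
      rw [← hEinv, Involution.orderOf_eq_two_iff'])
  obtain ⟨n, hn⟩ : ∃ n, Nat.card E = 2 ^ n := (IsPGroup.iff_card (p := 2)).1
    fun x => ⟨1, Subtype.ext (by simpa using hEel.2 _ x.2)⟩
  haveI := Fintype.ofFinite E
  have hΩE : Nat.card Ω = 2 ^ n - 1 := by
    rw [← hn, Nat.card_congr (show Ω ≃ {x : E // x ≠ 1} from
      { toFun := fun x => ⟨⟨x.1, x.2.1⟩, fun h => x.2.2 (congrArg Subtype.val h)⟩
        invFun := fun x => ⟨x.1, x.1.2, fun h => x.2 (Subtype.ext h)⟩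
        left_inv := fun x => rfl
        right_inv := fun x => rfl }), Nat.card_eq_fintype_card, Nat.card_eq_fintype_card,
      Fintype.card_subtype_compl, Fintype.card_subtype_eq]
  have hpj : p ^ j + 1 = 2 ^ n := by
    rw [← hΩI, hΩE]
    have := Nat.one_le_two_pow (n := n)
    omega
  rcases Nat.lt_or_ge n 2 with hn2 | hn2
  · -- a single involution
    have hone : p ^ j = 1 := by
      have h1 : 2 ^ n ≤ 2 ^ 1 := Nat.pow_le_pow_right (by norm_num) (by omega)
      have h2 := Nat.one_le_pow j p hp.pos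
      omega
    have hsub : ∀ x y : G ⧸ O, orderOf x = 2 → orderOf y = 2 → x = y := by
      intro x y hx hy
      have h1 : Nat.card {y : G ⧸ O // orderOf y = 2} = 1 := hj.trans hone
      obtain ⟨hss, -⟩ := Nat.card_eq_one_iff_unique.1 h1
      exact congrArg Subtype.val (hss.allEq ⟨x, hx⟩ ⟨y, hy⟩)
    haveI := solvable_of_unique hp hcase hcount fun x y hx hy =>
      QuotientGroup.eq.1 (hsub _ _ (himg x hx) (himg y hy))
    exact Group.isSolvable_of_surjective hπ
  have hpe := mersenne_of_pow_add_one hp hp2 hn2 hpj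
  have hprime : (2 ^ n - 1).Prime := hpe ▸ hp
  have hpj1 : Nat.card Ω = p := by rw [hΩE, hpe]
  have htrans : ∀ a ∈ E, ∀ b ∈ E, a ≠ 1 → b ≠ 1 → ∃ g : G ⧸ O, g * a * g⁻¹ = b := fun a ha b hb ha1 hb1 =>
    hclassQ a b (Involution.orderOf_eq_two_iff'.2 ⟨(hEinv a).2 ha, ha1⟩)
      (Involution.orderOf_eq_two_iff'.2 ⟨(hEinv b).2 hb, hb1⟩)
  haveI hL : Group.IsSolvable (centralizer (E : Set (G ⧸ O))) :=
    kernel_solvable E hEel hn2 hn hprime (fun x hx => (hEinv x).1 (by rwa [← pow_two])) htrans hOQ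
  letI actΩ : MulAction (G ⧸ O) Ω :=
    { smul := fun g x => ⟨g * x.1 * g⁻¹, hEn.conj_mem _ x.2.1 g, fun h => x.2.2 (by simpa using h)⟩
      one_smul := fun x => Subtype.ext (by show (1 : G ⧸ O) * x.1 * 1⁻¹ = x.1; simp)
      mul_smul := fun g h x => Subtype.ext (by
        show g * h * x.1 * (g * h)⁻¹ = g * (h * x.1 * h⁻¹) * g⁻¹
        group) }
  let φ := MulAction.toPermHom (G ⧸ O) Ω
  have hker : φ.ker ≤ centralizer (E : Set (G ⧸ O)) := by
    intro g hg
    refine mem_centralizer_iff.2 fun e he => ?_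
    by_cases he1 : e = 1
    · subst he1; simp
    have h1 := congrArg Subtype.val (Equiv.Perm.congr_fun (MonoidHom.mem_ker.1 hg) ⟨e, he, he1⟩)
    change g * e * g⁻¹ = e at h1
    calc e * g = g * e * g⁻¹ * g := by rw [h1]
      _ = g * e := by group
  haveI := Fintype.ofFinite Ω
  have hΩc : Fintype.card Ω = p := by rw [← Nat.card_eq_fintype_card, hpj1]
  suffices hr : Group.IsSolvable φ.range by
    haveI := hr
    refine solvable_of_ker_le_range (centralizer (E : Set (G ⧸ O))).subtype φ.rangeRestrict ?_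
    rw [MonoidHom.ker_rangeRestrict, range_subtype]; exact hker
  obtain ⟨-, hnprime⟩ := Nat.prime_of_pow_sub_one_prime (by omega : n ≠ 1) hprime
  rcases hnprime.eq_two_or_odd' with rfl | hnodd
  · obtain ⟨a, b, hab⟩ : ∃ a b, Nat.card φ.range = 2 ^ a * 3 ^ b := by
      have h1 : Nat.card φ.range ∣ 2 * 3 := by
        have h2 := card_subgroup_dvd_card φ.range
        rwa [Nat.card_perm, hpj1, hpe, show Nat.factorial (2 ^ 2 - 1) = 2 * 3 by decide] at h2
      obtain ⟨a, b, ha, hb, hab⟩ := Nat.dvd_mul.1 h1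
      obtain ⟨i, -, rfl⟩ := (Nat.dvd_prime_pow Nat.prime_two).1 ((pow_one 2).symm ▸ ha)
      obtain ⟨l, -, rfl⟩ := (Nat.dvd_prime_pow Nat.prime_three).1 ((pow_one 3).symm ▸ hb)
      exact ⟨i, l, hab.symm⟩
    exact CharCore.isSolvable_of_card_eq_prime_pow_mul Nat.prime_two Nat.prime_three _ φ.range
      a b hab rfl
  · haveI : MulAction.IsPretransitive φ.range Ω := ⟨fun a b => by
      obtain ⟨g, hg⟩ := htrans a.1 a.2.1 b.1 b.2.1 a.2.2 b.2.2
      exact ⟨⟨φ g, g, rfl⟩, Subtype.ext hg⟩⟩
    haveI : Fact p.Prime := ⟨hp⟩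
    rcases FGS80.Burnside.isSolvable_or_two_transitive (G := φ.range) hΩc with h | h
    · exact h
    exfalso
    rw [MulAction.is_two_pretransitive_iff] at h
    have hcfg : IsCfg E n :=
      { normal := hEn
        elem := hEel
        card := hn
        invol := fun x hx => (hEinv x).1 (by rwa [← pow_two])
        two_trans := fun a b a' b' ha hb ha' hb' ha1 hb1 ha'1 hb'1 hab hab' => by
          obtain ⟨⟨_, g, rfl⟩, h1, h2⟩ := h (a := (⟨a, ha, ha1⟩ : Ω)) (b := ⟨b, hb, hb1⟩)
            (c := ⟨a', ha', ha'1⟩) (d := ⟨b', hb', hb'1⟩)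
            (fun e => hab (congrArg Subtype.val e)) (fun e => hab' (congrArg Subtype.val e))
          exact ⟨g, congrArg Subtype.val h1, congrArg Subtype.val h2⟩ }
    exact no_cfg hcfg hnodd (by obtain ⟨i, hi⟩ := hnodd; omega)

end Cfsg.Agent.Pyr45
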