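import Cfsg.Agent.Pyr45.Frame
import Cfsg.Prelude.Def_Transfer
import Mathlib.GroupTheory.Sylow
import Mathlib.GroupTheory.Subgroup.Centralizer

/-!
# A finite group doubly transitive on an elementary abelian subgroup containing all involutions
-/

set_option autoImplicit false

namespace Cfsg.Agent.Pyr45

variable {H : Type*} [Group H]

/-- `E` is normal elementary abelian of order `2 ^ d`, contains every involution, and `H` is doubly
transitive on its non-identity elements. -/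
structure IsCfg (E : Subgroup H) (d : ℕ) : Prop where
  normal : E.Normal
  elem : Cfsg.IsElementaryAbelian 2 E
  card : Nat.card E = 2 ^ d
  invol : ∀ x : H, x ^ 2 = 1 → x ∈ E
  two_trans : ∀ a b a' b' : H, a ∈ E → b ∈ E → a' ∈ E → b' ∈ E → a ≠ 1 → b ≠ 1 → a' ≠ 1 → b' ≠ 1 →
    a ≠ b → a' ≠ b' → ∃ h : H, h * a * h⁻¹ = a' ∧ h * b * h⁻¹ = b'

/-- Conjugation on a normal subgroup, written additively. -/
@[reducible] def conjAdd (E : Subgroup H) [E.Normal] : DistribMulAction H (Additive E) where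
  smul h x := Additive.ofMul (MulAut.conjNormal h x.toMul)
  one_smul x := show Additive.ofMul (MulAut.conjNormal (1 : H) x.toMul) = x by
    rw [map_one, MulAut.one_apply]; rfl
  mul_smul g h x := show Additive.ofMul (MulAut.conjNormal (g * h) x.toMul) =
      Additive.ofMul (MulAut.conjNormal g (MulAut.conjNormal h x.toMul)) by
    rw [map_mul, MulAut.mul_apply]
  smul_zero h := show Additive.ofMul (MulAut.conjNormal h (1 : E)) = 0 by rw [map_one]; rfl
  smul_add h x y := show Additive.ofMul (MulAut.conjNormal h (x.toMul * y.toMul)) = _ by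
    rw [map_mul]; rfl

theorem two_nsmul_zero {E : Subgroup H} (hE : Cfsg.IsElementaryAbelian 2 E) (x : Additive E) :
    2 • x = 0 :=
  congrArg Additive.ofMul (show x.toMul ^ 2 = (1 : E) from Subtype.ext (hE.2 x.toMul x.toMul.2))

/-- An elementary abelian subgroup as a commutative group. -/
@[reducible] def commOf {E : Subgroup H} (hE : Cfsg.IsElementaryAbelian 2 E) : CommGroup E :=
  { (inferInstance : Group E) with mul_comm := fun x y => haveI := hE.1; mul_comm' x y }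

/-- The linear model. -/
theorem IsCfg.twoTrans {E : Subgroup H} {d : ℕ} (hE : IsCfg E d) :
    haveI := hE.normal; letI := commOf hE.elem; letI := conjAdd E; TwoTrans H (Additive E) := by
  intro x y x' y' hx hy hxy hx' hy' hxy'
  have hne : ∀ z : Additive E, z ≠ 0 → (z.toMul : H) ≠ 1 := fun z hz h => hz
    (congrArg Additive.ofMul (show z.toMul = (1 : E) from Subtype.ext h))
  have hinj : ∀ z w : Additive E, z ≠ w → (z.toMul : H) ≠ (w.toMul : H) := fun z w hzw h => hzw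
    (Additive.toMul.injective (Subtype.ext h))
  obtain ⟨h, h1, h2⟩ := hE.two_trans _ _ _ _ x.toMul.2 y.toMul.2 x'.toMul.2 y'.toMul.2 (hne x hx)
    (hne y hy) (hne x' hx') (hne y' hy') (hinj x y hxy) (hinj x' y' hxy')
  exact ⟨h, Additive.toMul.injective (Subtype.ext h1), Additive.toMul.injective (Subtype.ext h2)⟩

/-- The subgroup of fixed points of a normaliser, as a smaller configuration. -/
theorem IsCfg.reduce [Finite H] {E : Subgroup H} {d : ℕ} (hE : IsCfg E d) (hd : Odd d) {g : H}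
    (hg : ∃ k, g ^ 3 ^ k = 1) {a b : H} (ha : a ∈ E) (hb : b ∈ E) (ha1 : a ≠ 1) (hb1 : b ≠ 1)
    (hab : a ≠ b) (hga : g * a = a * g) (hgb : g * b = b * g) {e : H} (he : e ∈ E)
    (hge : g * e ≠ e * g) :
    ∃ (N : Subgroup H) (F : Subgroup N) (f : ℕ), IsCfg F f ∧ Odd f ∧ 3 ≤ f ∧ f < d := by
  classical
  haveI := hE.normal
  haveI : Fact (Nat.Prime 3) := ⟨Nat.prime_three⟩
  set C := Subgroup.centralizer ({a, b} : Set H) with hC
  have hmemC : ∀ x : H, x ∈ C ↔ a * x = x * a ∧ b * x = x * b := by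
    intro x
    rw [hC, Subgroup.mem_centralizer_iff]
    simp
  have hgC : g ∈ C := (hmemC g).2 ⟨hga.symm, hgb.symm⟩
  obtain ⟨k, hk⟩ := hg
  have hgp : IsPGroup 3 (Subgroup.zpowers (⟨g, hgC⟩ : C)) := by
    intro x
    obtain ⟨x, hx⟩ := x
    obtain ⟨i, rfl⟩ := Subgroup.mem_zpowers_iff.1 hx
    refine ⟨k, Subtype.ext ?_⟩
    rw [SubgroupClass.coe_pow, OneMemClass.coe_one, ← zpow_natCast, ← zpow_mul, mul_comm, zpow_mul,
      zpow_natCast, show (⟨g, hgC⟩ : C) ^ 3 ^ k = 1 from Subtype.ext hk, one_zpow]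
  obtain ⟨Q, hQ⟩ := hgp.exists_le_sylow
  set Qs := (Q : Subgroup C).map C.subtype with hQs
  have hQsp : IsPGroup 3 Qs := Q.isPGroup'.map _
  have hgQ : g ∈ Qs := ⟨⟨g, hgC⟩, hQ (Subgroup.mem_zpowers _), rfl⟩
  have hQC : Qs ≤ C := Subgroup.map_subtype_le _
  have hEQ : ∀ x, x ∈ E → x ∈ Qs → x = 1 := by
    intro x hx hxQ
    obtain ⟨i, hi⟩ := hQsp ⟨x, hxQ⟩
    have h2 : orderOf x ∣ 2 := orderOf_dvd_of_pow_eq_one (hE.elem.2 x hx)
    have h3 : orderOf x ∣ 3 ^ i := orderOf_dvd_of_pow_eq_one (congrArg Subtype.val hi)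
    have : orderOf x ∣ Nat.gcd 2 (3 ^ i) := Nat.dvd_gcd h2 h3
    rw [Nat.Coprime.gcd_eq_one (Nat.Coprime.pow_right i (by norm_num)), Nat.dvd_one,
      orderOf_eq_one_iff] at this
    exact this
  set N := Subgroup.normalizer (Qs : Set H) with hN
  set F0 := E ⊓ Subgroup.centralizer (Qs : Set H) with hF0
  have hF0N : F0 ≤ N := fun x hx => by
    rw [hN, Subgroup.mem_normalizer_iff]
    have hc := Subgroup.mem_centralizer_iff.1 hx.2
    intro q
    constructor
    · intro hq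
      rwa [← hc q hq, mul_inv_cancel_right]
    · intro hq
      have h1 := hc _ hq
      have h2 : x * q * x⁻¹ = q := by
        calc x * q * x⁻¹ = x⁻¹ * (x * (x * q * x⁻¹)) := by group
          _ = x⁻¹ * (x * q * x⁻¹ * x) := by rw [h1]
          _ = q := by group
      rwa [h2] at hq
  obtain ⟨f, -, hf⟩ : ∃ f, f ≤ d ∧ Nat.card F0 = 2 ^ f :=
    (Nat.dvd_prime_pow Nat.prime_two).1 (hE.card ▸ Subgroup.card_dvd_of_le inf_le_left)
  have haF : a ∈ F0 := ⟨ha, Subgroup.mem_centralizer_iff.2 fun q hq => ((hmemC q).1 (hQC hq)).1.symm⟩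
  have hbF : b ∈ F0 := ⟨hb, Subgroup.mem_centralizer_iff.2 fun q hq => ((hmemC q).1 (hQC hq)).2.symm⟩
  have hf2 : 2 ≤ f := by
    by_contra h
    have h2 : Nat.card F0 ≤ 2 := by
      rw [hf]; calc 2 ^ f ≤ 2 ^ 1 := Nat.pow_le_pow_right (by norm_num) (by omega)
        _ = 2 := by norm_num
    have h3 : 3 ≤ Nat.card F0 := by
      have hinj : Function.Injective (![⟨1, one_mem _⟩, ⟨a, haF⟩, ⟨b, hbF⟩] : Fin 3 → F0) := by
        intro i j hij
        fin_cases i <;> fin_cases j <;>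
          simp [Subtype.ext_iff, ha1, hb1, hab, Ne.symm ha1, Ne.symm hb1, Ne.symm hab] at hij ⊢
      simpa using Nat.card_le_card_of_injective _ hinj
    omega
  have hfd : f < d := by
    by_contra h
    have hle : Nat.card E ≤ Nat.card F0 := by
      rw [hE.card, hf]; exact Nat.pow_le_pow_right (by norm_num) (by omega)
    have heq : F0 = E := Subgroup.eq_of_le_of_card_ge inf_le_left hle
    have heF : e ∈ F0 := heq.symm ▸ he
    exact hge (Subgroup.mem_centralizer_iff.1 heF.2 g hgQ)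
  -- parity
  letI : MulAction Qs E :=
    { smul := fun q x => MulAut.conjNormal (q : H) x
      one_smul := fun x => by show MulAut.conjNormal ((1 : Qs) : H) x = x; simp
      mul_smul := fun p q x => by
        show MulAut.conjNormal ((p * q : Qs) : H) x = MulAut.conjNormal (p : H) (MulAut.conjNormal (q : H) x)
        rw [Subgroup.coe_mul, map_mul, MulAut.mul_apply] }
  have hfix : Nat.card (MulAction.fixedPoints Qs E) = Nat.card F0 := by
    refine Nat.card_congr
      { toFun := fun x => ⟨(x.1 : H), x.1.2, Subgroup.mem_centralizer_iff.2 fun q hq => by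
          have h : q * (x.1 : H) * q⁻¹ = x.1 := congrArg Subtype.val (x.2 ⟨q, hq⟩)
          calc q * (x.1 : H) = q * (x.1 : H) * q⁻¹ * q := by group
            _ = x.1 * q := by rw [h]⟩
        invFun := fun x => ⟨⟨x.1, x.2.1⟩, fun q => Subtype.ext (by
          show (q : H) * x.1 * (q : H)⁻¹ = x.1
          rw [Subgroup.mem_centralizer_iff.1 x.2.2 q q.2, mul_inv_cancel_right])⟩
        left_inv := fun x => rfl
        right_inv := fun x => rfl }
  have hmod := hQsp.card_modEq_card_fixedPoints E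
  rw [hfix, hE.card, hf] at hmod
  have hodd : Odd f := by
    have key : ∀ i, 2 ^ i % 3 = if Even i then 1 else 2 := by
      intro i
      induction i with
      | zero => simp
      | succ i ih =>
        rw [pow_succ, Nat.mul_mod, ih]
        by_cases h : Even i <;> simp [h, Nat.even_add_one]
    unfold Nat.ModEq at hmod
    rw [key, key, if_neg (Nat.not_even_iff_odd.2 hd)] at hmod
    rw [← Nat.not_even_iff_odd]
    intro h
    rw [if_pos h] at hmod
    omega
  refine ⟨N, F0.subgroupOf N, f, ⟨?_, ?_, ?_, ?_, ?_⟩, hodd, by obtain ⟨j, hj⟩ := hodd; omega, hfd⟩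
  · constructor
    rintro ⟨x, hxN⟩ hx ⟨n, hn⟩
    refine ⟨hE.normal.conj_mem x hx.1 n, Subgroup.mem_centralizer_iff.2 fun q hq => ?_⟩
    show q * (n * x * n⁻¹) = n * x * n⁻¹ * q
    have h1 : n⁻¹ * q * n ∈ Qs := by
      have := (Subgroup.mem_normalizer_iff.1 (inv_mem hn) q).1 hq
      simpa using this
    have h2 := Subgroup.mem_centralizer_iff.1 hx.2 _ h1
    calc q * (n * x * n⁻¹) = n * (n⁻¹ * q * n * x) * n⁻¹ := by group
      _ = n * (x * (n⁻¹ * q * n)) * n⁻¹ := by rw [show n⁻¹ * q * n * x = x * (n⁻¹ * q * n) from h2]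
      _ = n * x * n⁻¹ * q := by group
  · refine ⟨⟨⟨fun x y => Subtype.ext (Subtype.ext ?_)⟩⟩, fun x hx => Subtype.ext (hE.elem.2 _ hx.1)⟩
    haveI := hE.elem.1
    exact congrArg (Subtype.val : E → H)
      (mul_comm' (⟨(x.1 : H), x.2.1⟩ : E) ⟨(y.1 : H), y.2.1⟩)
  · rw [Nat.card_congr (Subgroup.subgroupOfEquivOfLe hF0N).toEquiv, hf]
  · rintro ⟨x, hxN⟩ hx
    have hxE : x ∈ E := hE.invol x (congrArg Subtype.val hx)
    refine ⟨hxE, Subgroup.mem_centralizer_iff.2 fun q hq => ?_⟩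
    have h1 : x * q * x⁻¹ * q⁻¹ ∈ Qs :=
      mul_mem ((Subgroup.mem_normalizer_iff.1 hxN q).1 hq) (inv_mem hq)
    have h2 : x * q * x⁻¹ * q⁻¹ ∈ E := by
      rw [show x * q * x⁻¹ * q⁻¹ = x * (q * x⁻¹ * q⁻¹) by group]
      exact mul_mem hxE (hE.normal.conj_mem _ (inv_mem hxE) q)
    have h3 := hEQ _ h2 h1
    show q * x = x * q
    calc q * x = 1 * (q * x) := by group
      _ = x * q * x⁻¹ * q⁻¹ * (q * x) := by rw [h3]
      _ = x * q := by group
  · rintro ⟨a₁, _⟩ ⟨b₁, _⟩ ⟨a₂, _⟩ ⟨b₂, _⟩ h1 h2 h3 h4 n1 n2 n3 n4 n12 n34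
    have hcv : ∀ (u v : H) (hu : u ∈ N) (hv : v ∈ N), (⟨u, hu⟩ : N) ≠ ⟨v, hv⟩ → u ≠ v :=
      fun u v hu hv h he => h (Subtype.ext he)
    have m1 : a₁ ≠ 1 := fun h => n1 (Subtype.ext h)
    have m2 : b₁ ≠ 1 := fun h => n2 (Subtype.ext h)
    have m3 : a₂ ≠ 1 := fun h => n3 (Subtype.ext h)
    have m4 : b₂ ≠ 1 := fun h => n4 (Subtype.ext h)
    have m12 := hcv _ _ _ _ n12
    have m34 := hcv _ _ _ _ n34
    -- every pair of `F0` is reached from `(a, b)` by an element normalising `Qs`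
    have key : ∀ a' b' : H, a' ∈ F0 → b' ∈ F0 → a' ≠ 1 → b' ≠ 1 → a' ≠ b' →
        ∃ n ∈ N, n * a * n⁻¹ = a' ∧ n * b * n⁻¹ = b' := by
      intro a' b' ha' hb' ha'1 hb'1 hab'
      obtain ⟨h, hha, hhb⟩ := hE.two_trans a b a' b' ha hb ha'.1 hb'.1 ha1 hb1 ha'1 hb'1 hab hab'
      set Q2 := Qs.map (MulAut.conj h⁻¹).toMonoidHom with hQ2
      have hQ2C : Q2 ≤ C := by
        rintro _ ⟨q, hq, rfl⟩
        have e1 := Subgroup.mem_centralizer_iff.1 ha'.2 q hq
        have e2 := Subgroup.mem_centralizer_iff.1 hb'.2 q hq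
        rw [← hha] at e1
        rw [← hhb] at e2
        refine (hmemC _).2 ⟨?_, ?_⟩
        · show a * (h⁻¹ * q * h⁻¹⁻¹) = h⁻¹ * q * h⁻¹⁻¹ * a
          calc a * (h⁻¹ * q * h⁻¹⁻¹) = h⁻¹ * (h * a * h⁻¹ * q) * h := by group
            _ = h⁻¹ * (q * (h * a * h⁻¹)) * h := by rw [e1]
            _ = h⁻¹ * q * h⁻¹⁻¹ * a := by group
        · show b * (h⁻¹ * q * h⁻¹⁻¹) = h⁻¹ * q * h⁻¹⁻¹ * b
          calc b * (h⁻¹ * q * h⁻¹⁻¹) = h⁻¹ * (h * b * h⁻¹ * q) * h := by group
            _ = h⁻¹ * (q * (h * b * h⁻¹)) * h := by rw [e2]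
            _ = h⁻¹ * q * h⁻¹⁻¹ * b := by group
      have hQ2p : IsPGroup 3 (Q2.subgroupOf C) :=
        (hQsp.map _).of_equiv (Subgroup.subgroupOfEquivOfLe hQ2C).symm
      obtain ⟨Q', hQ'⟩ := hQ2p.exists_le_sylow
      have hQ'eq : Q2.subgroupOf C = (Q' : Subgroup C) := by
        refine Subgroup.eq_of_le_of_card_ge hQ' ?_
        rw [Nat.card_congr (Subgroup.subgroupOfEquivOfLe hQ2C).toEquiv, hQ2,
          Subgroup.card_map_of_injective (MulAut.conj h⁻¹).injective, hQs,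
          Subgroup.card_map_of_injective C.subtype_injective]
        exact (Sylow.card_eq_multiplicity Q').trans_le (Sylow.card_eq_multiplicity Q).ge
      obtain ⟨c, hc⟩ := MulAction.exists_smul_eq C Q Q'
      have hca := (hmemC c).1 c.2
      refine ⟨h * c, ?_, ?_, ?_⟩
      · rw [hN, Subgroup.mem_normalizer_iff]
        intro q
        have hiff : ∀ y : H, y ∈ Qs ↔ (c : H) * y * (c : H)⁻¹ ∈ Q2 := by
          intro y
          constructor
          · rintro ⟨u, hu, rfl⟩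
            have h5 : c * u * c⁻¹ ∈ (Q' : Subgroup C) := by
              rw [← hc]; exact ⟨u, hu, rfl⟩
            rw [← hQ'eq] at h5
            exact h5
          · intro hy
            have hyC : (c : H) * y * (c : H)⁻¹ ∈ C := hQ2C hy
            have h5 : (⟨_, hyC⟩ : C) ∈ (Q' : Subgroup C) := hQ'eq ▸ hy
            rw [← hc, Sylow.coe_subgroup_smul] at h5
            obtain ⟨u, hu, hue⟩ := h5
            have h6 : (c : H) * (u : H) * (c : H)⁻¹ = (c : H) * y * (c : H)⁻¹ :=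
              congrArg Subtype.val hue
            exact ⟨u, hu, by simpa using h6⟩
        have hiff2 : ∀ y : H, y ∈ Q2 ↔ h * y * h⁻¹ ∈ Qs := by
          intro y
          constructor
          · rintro ⟨u, hu, rfl⟩; simpa [mul_assoc] using hu
          · intro hy; exact ⟨_, hy, by simp [mul_assoc]⟩
        rw [hiff q, hiff2]
        simp [mul_assoc]
      · rw [← hha]
        calc h * c * a * (h * c)⁻¹ = h * ((c : H) * a) * (c : H)⁻¹ * h⁻¹ := by group
          _ = h * (a * c) * (c : H)⁻¹ * h⁻¹ := by rw [hca.1]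
          _ = h * a * h⁻¹ := by group
      · rw [← hhb]
        calc h * c * b * (h * c)⁻¹ = h * ((c : H) * b) * (c : H)⁻¹ * h⁻¹ := by group
          _ = h * (b * c) * (c : H)⁻¹ * h⁻¹ := by rw [hca.2]
          _ = h * b * h⁻¹ := by group
    obtain ⟨u, hu, hu1, hu2⟩ := key a₁ b₁ h1 h2 m1 m2 m12
    obtain ⟨w, hw, hw1, hw2⟩ := key a₂ b₂ h3 h4 m3 m4 m34
    refine ⟨⟨w * u⁻¹, mul_mem hw (inv_mem hu)⟩, Subtype.ext ?_, Subtype.ext ?_⟩
    · show w * u⁻¹ * a₁ * (w * u⁻¹)⁻¹ = a₂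
      rw [← hu1, ← hw1]; group
    · show w * u⁻¹ * b₁ * (w * u⁻¹)⁻¹ = b₂
      rw [← hu2, ← hw2]; group

end Cfsg.Agent.Pyr45
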