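import Cfsg.Agent.Pyr45.Gauss
import Mathlib.GroupTheory.QuotientGroup.Defs
import Mathlib.GroupTheory.Coset.Card
import Mathlib.Algebra.Module.ZMod

/-!
# The squaring map of a 2-group with central elementary squares
-/

set_option autoImplicit false

namespace Cfsg.Agent.Pyr45

/-- `Z` is central, contains all squares, and consists of the elements squaring to `1`. -/
structure SqData {P : Type*} [Group P] (Z : Subgroup P) : Prop where
  sq_mem : ∀ x : P, x * x ∈ Z
  central : ∀ z ∈ Z, ∀ x, Commute z x
  invol : ∀ x : P, x * x = 1 ↔ x ∈ Z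

namespace SqData

variable {P : Type*} [Group P] {Z : Subgroup P} (D : SqData Z)

include D in
theorem normal : Z.Normal :=
  ⟨fun z hz g => by rw [← (D.central z hz g).eq, mul_inv_cancel_right]; exact hz⟩

include D in
theorem comm_mem (x y : P) : x⁻¹ * y * x * y⁻¹ ∈ Z := by
  rw [show x⁻¹ * y * x * y⁻¹ = x⁻¹ * x⁻¹ * ((x * y) * (x * y)) * (y⁻¹ * y⁻¹) by group]
  refine mul_mem (mul_mem ?_ (D.sq_mem _)) ?_ <;> exact D.sq_mem _

/-- The quotient, as an additive group. -/
def Quo (_D : SqData Z) := Additive (P ⧸ Z)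

/-- The values, as an additive group. -/
def Val (_D : SqData Z) := Additive Z

/-- The quotient is commutative. -/
@[reducible] def commQuo : CommGroup (P ⧸ Z) :=
  letI := D.normal
  { (inferInstance : Group (P ⧸ Z)) with
    mul_comm := fun a b => by
      obtain ⟨x, rfl⟩ := QuotientGroup.mk_surjective a
      obtain ⟨y, rfl⟩ := QuotientGroup.mk_surjective b
      rw [← QuotientGroup.mk_mul, ← QuotientGroup.mk_mul, QuotientGroup.eq]
      rw [show (x * y)⁻¹ * (y * x) = y⁻¹ * (x⁻¹ * y * x * y⁻¹) * y by group,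
        mul_assoc, ← (D.central _ (D.comm_mem x y) y).symm.eq, inv_mul_cancel_left]
      exact D.comm_mem x y }

/-- The values are commutative. -/
@[reducible] def commVal : CommGroup Z :=
  { (inferInstance : Group Z) with mul_comm := fun a b => Subtype.ext (D.central a.1 a.2 b.1).eq }

instance : AddCommGroup D.Quo := @Additive.addCommGroup _ D.commQuo
instance : AddCommGroup D.Val := @Additive.addCommGroup _ D.commVal

/-- The class of an element. -/
def cls (x : P) : D.Quo := Additive.ofMul (QuotientGroup.mk x : P ⧸ Z)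

/-- The element of `P` underlying a value. -/
def val (a : D.Val) : P := ((Additive.toMul a : Z) : P)

/-- A value from an element of `Z`. -/
def toVal (z : P) (hz : z ∈ Z) : D.Val := Additive.ofMul (⟨z, hz⟩ : Z)

@[simp] theorem val_toVal (z : P) (hz : z ∈ Z) : D.val (D.toVal z hz) = z := rfl

theorem val_mem (a : D.Val) : D.val a ∈ Z := (Additive.toMul a : Z).2

theorem val_inj {a b : D.Val} (h : D.val a = D.val b) : a = b :=
  Additive.toMul.injective (Subtype.ext h)

@[simp] theorem val_zero : D.val 0 = 1 := rfl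

@[simp] theorem val_add (a b : D.Val) : D.val (a + b) = D.val a * D.val b := rfl

theorem cls_surjective : Function.Surjective D.cls := fun a => by
  obtain ⟨x, hx⟩ := QuotientGroup.mk_surjective (Additive.toMul a : P ⧸ Z)
  exact ⟨x, congrArg Additive.ofMul hx⟩

theorem cls_mul (x y : P) : D.cls (x * y) = D.cls x + D.cls y := rfl

theorem cls_one : D.cls 1 = 0 := rfl

theorem cls_eq_mk {x y : P} : D.cls x = D.cls y ↔ x⁻¹ * y ∈ Z := by
  unfold cls
  exact (Additive.ofMul.injective.eq_iff).trans QuotientGroup.eq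

theorem cls_eq_zero {x : P} : D.cls x = 0 ↔ x ∈ Z := by
  rw [← D.cls_one, D.cls_eq_mk, mul_one, inv_mem_iff]

theorem two_nsmul_quo (a : D.Quo) : 2 • a = 0 := by
  obtain ⟨x, rfl⟩ := D.cls_surjective a
  rw [two_nsmul, ← D.cls_mul, D.cls_eq_zero]
  exact D.sq_mem x

theorem two_nsmul_val (a : D.Val) : 2 • a = 0 := by
  rw [two_nsmul]
  exact D.val_inj (by rw [val_add, val_zero]; exact (D.invol _).2 (D.val_mem a))

instance : Module (ZMod 2) D.Quo := AddCommGroup.zmodModule D.two_nsmul_quo
instance : Module (ZMod 2) D.Val := AddCommGroup.zmodModule D.two_nsmul_val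

instance [Finite P] : Finite D.Quo := Finite.of_equiv (P ⧸ Z) Additive.ofMul
instance [Finite P] : Finite D.Val := Finite.of_equiv Z Additive.ofMul
noncomputable instance [Finite P] : Fintype D.Quo := Fintype.ofFinite _
noncomputable instance [Finite P] : Fintype D.Val := Fintype.ofFinite _

include D in
theorem card_val [Fintype D.Val] : Fintype.card D.Val = Nat.card Z := by
  rw [← Nat.card_eq_fintype_card]
  exact Nat.card_congr (Additive.toMul : Additive Z ≃ Z)

theorem card_quo [Fintype D.Quo] : Fintype.card D.Quo = Z.index := by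
  rw [← Nat.card_eq_fintype_card]
  exact Nat.card_congr (Additive.toMul : Additive (P ⧸ Z) ≃ P ⧸ Z)

include D in
theorem sq_congr {x y : P} (h : x⁻¹ * y ∈ Z) : x * x = y * y := by
  have hc := D.central _ h
  calc x * x = x * x * ((x⁻¹ * y) * (x⁻¹ * y)) := by rw [(D.invol _).2 h, mul_one]
    _ = x * (x * (x⁻¹ * y)) * (x⁻¹ * y) := by group
    _ = x * (x⁻¹ * y * x) * (x⁻¹ * y) := by rw [(hc x).eq]
    _ = y * y := by group

/-- The squaring map. -/
def q : D.Quo → D.Val := fun a =>
  Quotient.liftOn' (Additive.toMul a : P ⧸ Z) (fun x => D.toVal (x * x) (D.sq_mem x))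
    fun x y h => D.val_inj (D.sq_congr (QuotientGroup.leftRel_apply.1 h))

@[simp] theorem val_q (x : P) : D.val (D.q (D.cls x)) = x * x := rfl

theorem val_polar (x y : P) :
    D.val (polar D.q (D.cls x) (D.cls y)) = x⁻¹ * y * x * y⁻¹ := by
  have hx := D.central _ (D.sq_mem x)
  unfold polar
  rw [← D.cls_mul, val_add, val_add, val_q, val_q, val_q]
  have hy := D.central _ (D.sq_mem y)
  calc x * y * (x * y) * (x * x) * (y * y)
      = x * x * (x⁻¹ * y * x * y⁻¹) * (y * y) * (x * x) * (y * y) := by group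
    _ = (x⁻¹ * y * x * y⁻¹) * (x * x) * (y * y) * (x * x) * (y * y) := by
        rw [(hx (x⁻¹ * y * x * y⁻¹)).eq]
    _ = (x⁻¹ * y * x * y⁻¹) * (x * x) * (y * y * (x * x)) * (y * y) := by group
    _ = (x⁻¹ * y * x * y⁻¹) * ((x * x) * (x * x)) * ((y * y) * (y * y)) := by
        rw [(hy (x * x)).eq]; group
    _ = x⁻¹ * y * x * y⁻¹ := by
        rw [(D.invol _).2 (D.sq_mem x), (D.invol _).2 (D.sq_mem y), mul_one, mul_one]

theorem commute_of_polar {x y : P} (h : polar D.q (D.cls x) (D.cls y) = 0) : Commute x y := by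
  have h1 := D.val_polar x y
  rw [h, val_zero] at h1
  have h2 : y * x = x * y := by
    calc y * x = x * (x⁻¹ * y * x * y⁻¹) * y := by group
      _ = x * y := by rw [← h1]; group
  exact h2.symm

include D in
theorem map_mem (α : MulAut P) {z : P} (hz : z ∈ Z) : α z ∈ Z :=
  (D.invol _).1 (by rw [← map_mul, (D.invol z).2 hz, map_one])

/-- The action of an automorphism on the values. -/
def valMap (α : MulAut P) : D.Val →+ D.Val where
  toFun a := D.toVal (α (D.val a)) (D.map_mem α (D.val_mem a))
  map_zero' := D.val_inj (by simp)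
  map_add' a b := D.val_inj (by simp)

@[simp] theorem val_valMap (α : MulAut P) (a : D.Val) : D.val (D.valMap α a) = α (D.val a) := rfl

/-- The action of an automorphism on the quotient, as a map. -/
def quoMap (α : MulAut P) : D.Quo → D.Quo := fun a =>
  Quotient.liftOn' (Additive.toMul a : P ⧸ Z) (fun x => D.cls (α x)) fun x y h => by
    refine D.cls_eq_mk.2 ?_
    rw [← map_inv, ← map_mul]
    exact D.map_mem α (QuotientGroup.leftRel_apply.1 h)

@[simp] theorem quoMap_cls (α : MulAut P) (x : P) : D.quoMap α (D.cls x) = D.cls (α x) := rfl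

/-- The action of an automorphism on the quotient. -/
def quoEquiv (α : MulAut P) : D.Quo ≃ₗ[ZMod 2] D.Quo :=
  let e : D.Quo ≃+ D.Quo :=
    { toFun := D.quoMap α
      invFun := D.quoMap α⁻¹
      left_inv := fun a => by obtain ⟨x, rfl⟩ := D.cls_surjective a; simp
      right_inv := fun a => by obtain ⟨x, rfl⟩ := D.cls_surjective a; simp
      map_add' := fun a b => by
        obtain ⟨x, rfl⟩ := D.cls_surjective a
        obtain ⟨y, rfl⟩ := D.cls_surjective b
        rw [← D.cls_mul, quoMap_cls, quoMap_cls, quoMap_cls, map_mul, D.cls_mul] }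
  { e with map_smul' := fun c a => (e.toAddMonoidHom.toZModLinearMap 2).map_smul c a }

@[simp] theorem quoEquiv_cls (α : MulAut P) (x : P) : D.quoEquiv α (D.cls x) = D.cls (α x) := rfl

theorem q_quoEquiv (α : MulAut P) (a : D.Quo) : D.q (D.quoEquiv α a) = D.valMap α (D.q a) := by
  obtain ⟨x, rfl⟩ := D.cls_surjective a
  exact D.val_inj (by rw [quoEquiv_cls, val_q, val_valMap, val_q, map_mul])

/-- **The squaring map is anisotropic**, if the automorphisms are transitive on `Z`. -/
theorem aniso (htr : ∀ a ∈ Z, ∀ b ∈ Z, a ≠ 1 → b ≠ 1 → ∃ α : MulAut P, α a = b) :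
    IsAniso D.q where
  eq_zero a := by
    obtain ⟨x, rfl⟩ := D.cls_surjective a
    rw [D.cls_eq_zero, ← D.invol x]
    exact ⟨fun h => by rw [← D.val_q, h, val_zero], fun h => D.val_inj (by rw [val_q, h, val_zero])⟩
  polar_add a b c := by
    obtain ⟨x, rfl⟩ := D.cls_surjective a
    obtain ⟨y, rfl⟩ := D.cls_surjective b
    obtain ⟨z, rfl⟩ := D.cls_surjective c
    refine D.val_inj ?_
    rw [← D.cls_mul, val_add, val_polar, val_polar, val_polar]
    have hc := D.central _ (D.comm_mem x z) y
    calc (x * y)⁻¹ * z * (x * y) * z⁻¹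
        = y⁻¹ * ((x⁻¹ * z * x * z⁻¹) * z) * y * z⁻¹ := by group
      _ = y⁻¹ * (x⁻¹ * z * x * z⁻¹) * y * (y⁻¹ * z * y * z⁻¹) := by group
      _ = (x⁻¹ * z * x * z⁻¹) * (y⁻¹ * z * y * z⁻¹) := by
          rw [show y⁻¹ * (x⁻¹ * z * x * z⁻¹) * y = x⁻¹ * z * x * z⁻¹ by
            rw [mul_assoc, hc.eq, inv_mul_cancel_left]]
  fibre a b ha hb := by
    obtain ⟨α, hα⟩ := htr _ (D.val_mem a) _ (D.val_mem b)
      (fun h => ha (D.val_inj (h.trans D.val_zero.symm)))
      (fun h => hb (D.val_inj (h.trans D.val_zero.symm)))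
    have hab : D.valMap α a = b := D.val_inj (by rw [val_valMap, hα])
    have hinj : Function.Injective (D.valMap α) := fun u v h =>
      D.val_inj (α.injective (by rw [← val_valMap, h, val_valMap]))
    exact Nat.card_congr ((D.quoEquiv α).toEquiv.subtypeEquiv fun u => by
      constructor
      · intro h; rw [← hab, ← h]; exact D.q_quoEquiv α u
      · intro h; exact hinj (by rw [← D.q_quoEquiv]; exact h.trans hab.symm))

end SqData

end Cfsg.Agent.Pyr45
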